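import Cfsg.Agent.H588.ZsigPart
import Cfsg.Agent.H386.Rg.AlphaA_m3
import Cfsg.Agent.H951.Rl.BigN
import Mathlib
import Cfsg.Agent.H609.ClassTwoOut_m3
import Cfsg.Agent.S0242
import Cfsg.Agent.S0245
import Cfsg.Agent.S1059
import Cfsg.Agent.LieClassical.OrthTrans
import Cfsg.Agent.H934.ArfO
import Cfsg.Agent.BpCl.Rows
import Cfsg.Agent.H2.Rb.PPlus_mg
import Cfsg.Agent.H251.GeoCardC
import Cfsg.Agent.H907.MxSymp2_m3
import Cfsg.Agent.H922.OddDecomp
import Cfsg.Agent.H920.SympC
import Cfsg.Agent.H917.LinSplit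
import Cfsg.Agent.H919.AschSplit
import Cfsg.Agent.H914.Sub2
import Cfsg.Agent.H708.ReeSix_m3
import Cfsg.Agent.S1163
import Cfsg.Agent.H909.PpdReeB_m3
import Cfsg.Agent.H141.ReeK.Main
import Cfsg.Agent.H708.ReeTw
import Cfsg.Agent.H762.Ppd.PsuAux_m3
import Cfsg.Agent.H918.UProper
import Cfsg.Agent.H925.NatMain
import Cfsg.Agent.H930.UnitaryTwo
import Cfsg.Agent.H69.Ppd.Psu6Aux
import Cfsg.Agent.H925.U52Form
import Cfsg.Agent.H905.MdL
import Cfsg.Agent.S0280
import Cfsg.Agent.H948.Ppd.TypeB_m3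
import Cfsg.Agent.H445.AH.OTrans
import Cfsg.Agent.H890.SpParity
import Cfsg.Agent.S0205
import Cfsg.Agent.H454.Reg.Tools
import Cfsg.Prelude.Def_KGroupFacts
import Cfsg.Agent.H325.Same.ExcPair8_m3
import Cfsg.Agent.S2123
import Cfsg.Agent.S2124
import Cfsg.Agent.S2125
import Cfsg.Agent.S2130
import Cfsg.Agent.H946.KZ.SameF4
import Cfsg.Agent.H325.Same.ExcPairE_m3
import Cfsg.Agent.FastGrp
import Cfsg.Agent.Prune
set_option linter.all false

section
prune_inst 0x7f00000000000000000000000000000000000000000000000000000000000000000000000000000000000000000000000000000000000000000000000000000000000000000000000000000000000000003fffffffffffffffffffffffffffbeffbdffffffff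

section
prune_inst 0xfde8f9fbb8d9dfdfff7e7fa6d8cffc38909fffe6dff94bffe063ff0b9f130009e5ab8d09e010fe0ed6603410b87843fb7eeeffe26fdc7ffffd5ff45ffbee0fe5f7bd0951d68c340fbc0fff63f0778e7f000000000000000000000000000000000200000000

-- part: H803/Rl/Big
section
prune_inst 0x217040407262020000000592130020347400019000200001f9800f460a0ff360854221404e801c000868b28018010008111000d0020000000a00300000070120802a020011300e040e0009801086000000000000000000000000000000041004000000000
set_option linter.all false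

/-!
# S3691: big `p`-primitive prime powers (helper803)

`exists_big`: for `k ≥ 6` and `(p, f, k)` outside a list of twelve triples there is a prime `r` with `ord_r(p) = f k` such
that the full power of `r` dividing `p ^ (f k) - 1` is larger than `2 k + 1`.
-/

set_option autoImplicit false

namespace Cfsg.Agent.H803.Rl

open Cfsg.Agent.H365.Zsig Cfsg.Agent.Lib.Zsigmondy Cfsg.Agent.H588.ZsigPart

/-! ### numerical inequalities -/

/-! ### the cases -/

/-- **PSL-5 = (N)**: existence of big `p`-primitive prime powers. -/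
theorem exists_big {p f k : ℕ} (hp : p.Prime) (hf : 1 ≤ f) (hk : 6 ≤ k)
    (hex : (p, f, k) ∉ [(2, 1, 6), (2, 1, 8), (2, 1, 10), (2, 1, 12), (2, 1, 18), (2, 1, 20), (3, 1, 6), (3, 1, 18),
      (5, 1, 6), (17, 1, 6), (2, 2, 6), (2, 2, 9)]) :
    ∃ r, Cfsg.Agent.H851.Rl.Big p f k r (((p ^ f) ^ k - 1).factorization r) := by
  apply @_root_.Cfsg.Agent.H951.Rl.exists_big <;> assumption

end Cfsg.Agent.H803.Rl
end

-- part: H386/Rg/Alpha
section
prune_inst 0x20000040102200000000050040001c6282000000000800000800000004810c0005000060b0300010080000044030004811000000020000000a000000011801800000000010000000020000000000000000000000000000000000000000000000000000000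
set_option linter.all false
open scoped Cfsg.Agent.FastGrp

-- part: H117/Rg/Wt
section
/-!
# Additive maps of a finite field and weights (helper117, S3691, Lemma W)
-/

set_option autoImplicit false

namespace Cfsg.Agent.H117.Rg

open Finset

section

variable {p b : ℕ} [Fact p.Prime] {E : Type*} [Field E] [Fintype E]

/-- additive maps of `E` are `p`-polynomials; with coefficients which depend additively on parameters -/
theorem exists_coeff (hE : Fintype.card E = p ^ b) :
    ∃ a : (E →+ E) →+ (Fin b → E), ∀ (f : E →+ E) (x : E), f x = ∑ i : Fin b, a f i * x ^ (p ^ (i : ℕ)) := by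
  classical
  have : CharP E p := by
    obtain ⟨r, hr⟩ := CharP.exists E
    obtain ⟨n, hn1, hn2⟩ := FiniteField.card E r
    have h1 : r ∣ p ^ b := by
      rw [← hE, hn2]
      exact dvd_pow_self r n.ne_zero
    have h2 := (Nat.prime_dvd_prime_iff_eq hn1 (Fact.out : p.Prime)).1 (hn1.dvd_of_dvd_pow h1)
    rwa [← h2]
  let _ : Algebra (ZMod p) E := ZMod.algebra E p
  have hb : Module.finrank (ZMod p) E = b := by
    have h1 := Module.card_eq_pow_finrank (K := ZMod p) (V := E)
    rw [ZMod.card, hE] at h1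
    exact (Nat.pow_right_injective (Fact.out : p.Prime).two_le h1).symm
  have hb0 : 0 < b := by
    rw [← hb]; exact Module.finrank_pos
  -- the powers of the Frobenius as linear maps
  let φ : Fin b → (E →ₗ[ZMod p] E) := fun i =>
    AddMonoidHom.toZModLinearMap p ((iterateFrobenius E p (i : ℕ)).toAddMonoidHom)
  have hφ : ∀ i x, φ i x = x ^ (p ^ (i : ℕ)) := by
    intro i x
    change iterateFrobenius E p (i : ℕ) x = _
    rw [iterateFrobenius_def]
  have hli : LinearIndependent E φ := by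
    have h1 := linearIndependent_monoidHom E E
    -- distinct monoid homs
    have hinj : Function.Injective (fun i : Fin b => (powMonoidHom (p ^ (i : ℕ)) : E →* E)) := by
      intro i j hij
      obtain ⟨g, hg⟩ := IsCyclic.exists_generator (α := Eˣ)
      have hord : orderOf g = p ^ b - 1 := by
        rw [orderOf_eq_card_of_forall_mem_zpowers hg, Nat.card_eq_fintype_card, Fintype.card_units, hE]
      have h2 : (g : E) ^ (p ^ (i : ℕ)) = (g : E) ^ (p ^ (j : ℕ)) := by
        have := congrArg (fun F : E →* E => F (g : E)) hij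
        simpa only [_root_.powMonoidHom_apply] using this
      have h3 : g ^ (p ^ (i : ℕ)) = g ^ (p ^ (j : ℕ)) := by
        ext
        simpa only [_root_.Units.val_pow_eq_pow_val] using h2
      have hlt : ∀ k : Fin b, 1 ≤ p ^ (k : ℕ) ∧ p ^ (k : ℕ) ≤ p ^ b - 1 := by
        intro k
        have hp1 : 1 < p := (Fact.out : p.Prime).one_lt
        have h4 : p ^ (k : ℕ) < p ^ b := Nat.pow_lt_pow_right hp1 k.2
        exact ⟨Nat.one_le_pow _ _ (by omega), by omega⟩
      have h5 := pow_inj_mod.1 h3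
      rw [hord] at h5
      have h6 := hlt i
      have h7 := hlt j
      have hinjp : Function.Injective (fun n : ℕ => p ^ n) :=
        Nat.pow_right_injective (Fact.out : p.Prime).two_le
      rcases Nat.lt_or_ge (p ^ (i : ℕ)) (p ^ b - 1) with h8 | h8
      · rcases Nat.lt_or_ge (p ^ (j : ℕ)) (p ^ b - 1) with h9 | h9
        · rw [Nat.mod_eq_of_lt h8, Nat.mod_eq_of_lt h9] at h5
          exact Fin.ext (hinjp h5)
        · have h10 : p ^ (j : ℕ) = p ^ b - 1 := by omega
          rw [Nat.mod_eq_of_lt h8, h10, Nat.mod_self] at h5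
          omega
      · have h10 : p ^ (i : ℕ) = p ^ b - 1 := by omega
        rcases Nat.lt_or_ge (p ^ (j : ℕ)) (p ^ b - 1) with h9 | h9
        · rw [Nat.mod_eq_of_lt h9, h10, Nat.mod_self] at h5
          omega
        · have h11 : p ^ (j : ℕ) = p ^ b - 1 := by omega
          exact Fin.ext (hinjp (h10.trans h11.symm))
    have h2 := h1.comp _ hinj
    rw [Fintype.linearIndependent_iff] at h2 ⊢
    intro c hc i
    refine h2 c ?_ i
    ext x
    have := congrArg (fun F : E →ₗ[ZMod p] E => F x) hc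
    simp only [LinearMap.sum_apply, LinearMap.smul_apply, hφ, smul_eq_mul, LinearMap.zero_apply] at this
    simpa only [Finset.sum_apply, Pi.smul_apply, powMonoidHom_apply, _root_.Function.comp_apply, _root_.smul_eq_mul, _root_.Pi.zero_apply] using this
  have hcard : Fintype.card (Fin b) = Module.finrank E (E →ₗ[ZMod p] E) := by
    rw [Fintype.card_fin, Module.finrank_linearMap, hb, Module.finrank_self, mul_one]
  have : Nonempty (Fin b) := ⟨⟨0, hb0⟩⟩
  let B := basisOfLinearIndependentOfCardEqFinrank hli hcard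
  refine ⟨⟨⟨fun f i => B.repr (AddMonoidHom.toZModLinearMap p f) i, ?_⟩, ?_⟩, ?_⟩
  · ext i
    have h0 : AddMonoidHom.toZModLinearMap p (0 : E →+ E) = 0 := by
      ext x; rfl
    simp only [h0, map_zero]
    rfl
  · intro f g
    ext i
    have h0 : AddMonoidHom.toZModLinearMap p (f + g) =
        AddMonoidHom.toZModLinearMap p f + AddMonoidHom.toZModLinearMap p g := by
      ext x; rfl
    simp only [h0, map_add]
    rfl
  · intro f x
    have h3 := B.sum_repr (AddMonoidHom.toZModLinearMap p f)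
    have h4 := congrArg (fun F : E →ₗ[ZMod p] E => F x) h3
    simp only [LinearMap.sum_apply, LinearMap.smul_apply, smul_eq_mul] at h4
    have h5 : (AddMonoidHom.toZModLinearMap p f) x = f x := rfl
    rw [← h5, ← h4]
    refine Finset.sum_congr rfl fun i _ => ?_
    have h6 : B i = φ i := by
      rw [coe_basisOfLinearIndependentOfCardEqFinrank]
    rw [h6, hφ]
    rfl

/-- the general averaging lemma, one variable -/
theorem add_zero_of (hE : Fintype.card E = p ^ b) {β γ : ℕ}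
    (hdvd : ∀ j : ℕ, j < b → ¬ (p ^ b - 1) ∣ (γ + β * p ^ j)) (c : E → E)
    (hadd : ∀ x y, c (x + y) = c x + c y) (hc : ∀ u : E, u ≠ 0 → ∀ t, u ^ γ * c (u ^ β * t) = c t) (t : E) :
    c t = 0 := by
  classical
  obtain ⟨a, ha⟩ := exists_coeff (p := p) (b := b) hE
  let f : E →+ E := AddMonoidHom.mk' c hadd
  have hf : ∀ x, c x = ∑ i : Fin b, a f i * x ^ (p ^ (i : ℕ)) := fun x => ha f x
  have h1 : ∑ u : Eˣ, ((u : E) ^ γ * c ((u : E) ^ β * t)) = ∑ _u : Eˣ, c t :=
    Finset.sum_congr rfl fun u _ => hc u u.ne_zero t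
  have h2 : ∑ u : Eˣ, ((u : E) ^ γ * c ((u : E) ^ β * t)) = 0 := by
    have h3 : ∀ u : Eˣ, ((u : E) ^ γ * c ((u : E) ^ β * t)) =
        ∑ i : Fin b, (a f i * t ^ (p ^ (i : ℕ))) * ((u : E) ^ (γ + β * p ^ (i : ℕ))) := by
      intro u
      rw [hf, Finset.mul_sum]
      refine Finset.sum_congr rfl fun i _ => ?_
      rw [mul_pow, ← pow_mul, pow_add]
      ring
    rw [Finset.sum_congr rfl fun u _ => h3 u, Finset.sum_comm]
    refine Finset.sum_eq_zero fun i _ => ?_
    rw [← Finset.mul_sum]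
    have h4 := FiniteField.sum_pow_units E (γ + β * p ^ (i : ℕ))
    rw [hE, if_neg (hdvd i i.2)] at h4
    rw [h4, mul_zero]
  rw [h2, Finset.sum_const, Finset.card_univ, Fintype.card_units, nsmul_eq_mul,
    Nat.cast_sub Fintype.card_pos, FiniteField.cast_card_eq_zero] at h1
  simp only [Nat.cast_one, zero_sub, neg_mul, one_mul] at h1
  exact neg_eq_zero.1 h1.symm

/-- the general averaging lemma, two variables -/
theorem biadd_zero_of (hE : Fintype.card E = p ^ b) {α β γ : ℕ}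
    (hdvd : ∀ i j : ℕ, i < b → j < b → ¬ (p ^ b - 1) ∣ (γ + α * p ^ i + β * p ^ j)) (X : E → E → E)
    (h1 : ∀ x y t, X (x + y) t = X x t + X y t) (h2 : ∀ x s t, X x (s + t) = X x s + X x t)
    (hX : ∀ u : E, u ≠ 0 → ∀ x t, u ^ γ * X (u ^ α * x) (u ^ β * t) = X x t) : X = 0 := by
  classical
  obtain ⟨a, ha⟩ := exists_coeff (p := p) (b := b) hE
  -- `t ↦ X · t` is additive
  let F : E →+ (E →+ E) := AddMonoidHom.mk' (fun t => AddMonoidHom.mk' (fun x => X x t) (fun x y => h1 x y t))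
    (fun s t => by ext x; exact h2 x s t)
  let A : Fin b → (E →+ E) := fun i => AddMonoidHom.mk' (fun t => a (F t) i) (fun s t => by
    rw [map_add, map_add]; rfl)
  have hF : ∀ x t, X x t = ∑ i : Fin b, (∑ j : Fin b, a (A i) j * t ^ (p ^ (j : ℕ))) * x ^ (p ^ (i : ℕ)) := by
    intro x t
    have h3 : X x t = ∑ i : Fin b, a (F t) i * x ^ (p ^ (i : ℕ)) := ha (F t) x
    rw [h3]
    refine Finset.sum_congr rfl fun i _ => ?_
    rw [← ha (A i) t]
    rfl
  funext x t
  have h3 : ∑ u : Eˣ, ((u : E) ^ γ * X ((u : E) ^ α * x) ((u : E) ^ β * t)) = ∑ _u : Eˣ, X x t :=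
    Finset.sum_congr rfl fun u _ => hX u u.ne_zero x t
  have h4 : ∑ u : Eˣ, ((u : E) ^ γ * X ((u : E) ^ α * x) ((u : E) ^ β * t)) = 0 := by
    have h5 : ∀ u : Eˣ, ((u : E) ^ γ * X ((u : E) ^ α * x) ((u : E) ^ β * t)) =
        ∑ i : Fin b, ∑ j : Fin b, (a (A i) j * t ^ (p ^ (j : ℕ)) * x ^ (p ^ (i : ℕ))) *
          ((u : E) ^ (γ + α * p ^ (i : ℕ) + β * p ^ (j : ℕ))) := by
      intro u
      rw [hF, Finset.mul_sum]
      refine Finset.sum_congr rfl fun i _ => ?_
      rw [Finset.sum_mul, Finset.mul_sum]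
      refine Finset.sum_congr rfl fun j _ => ?_
      rw [mul_pow, mul_pow, ← pow_mul, ← pow_mul, pow_add, pow_add]
      ring
    rw [Finset.sum_congr rfl fun u _ => h5 u, Finset.sum_comm]
    refine Finset.sum_eq_zero fun i _ => ?_
    rw [Finset.sum_comm]
    refine Finset.sum_eq_zero fun j _ => ?_
    rw [← Finset.mul_sum]
    have h6 := FiniteField.sum_pow_units E (γ + α * p ^ (i : ℕ) + β * p ^ (j : ℕ))
    rw [hE, if_neg (hdvd i j i.2 j.2)] at h6
    rw [h6, mul_zero]
  rw [h4, Finset.sum_const, Finset.card_univ, Fintype.card_units, nsmul_eq_mul,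
    Nat.cast_sub Fintype.card_pos, FiniteField.cast_card_eq_zero] at h3
  simp only [Nat.cast_one, zero_sub, neg_mul, one_mul] at h3
  exact neg_eq_zero.1 h3.symm

end

/-! ### arithmetic -/

theorem not_dvd_of_lt {m n : ℕ} (h0 : 0 < n) (h : n < m) : ¬ m ∣ n := fun hd => by
  have := Nat.le_of_dvd h0 hd
  omega

/-- `p ^ b - 1` does not divide `1 + 2 p ^ j` -/
theorem ar12 {p b : ℕ} (hp : p.Prime) (h16 : 16 ≤ p ^ b) {j : ℕ} (hj : j < b) :
    ¬ (p ^ b - 1) ∣ (1 + 2 * p ^ j) := by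
  obtain ⟨c, rfl⟩ : ∃ c, b = c + 1 := ⟨b - 1, by omega⟩
  have hjc : p ^ j ≤ p ^ c := Nat.pow_le_pow_right hp.pos (by omega)
  rw [pow_succ] at h16 ⊢
  rcases Nat.lt_or_ge p 3 with h3 | h3
  · have hp2 : p = 2 := by have := hp.two_le; omega
    subst hp2
    rcases Nat.lt_or_ge j c with hj' | hj'
    · obtain ⟨d, rfl⟩ : ∃ d, c = d + 1 := ⟨c - 1, by omega⟩
      have hjd : 2 ^ j ≤ 2 ^ d := Nat.pow_le_pow_right (by norm_num) (by omega)
      rw [pow_succ] at h16 ⊢
      exact not_dvd_of_lt (by omega) (by omega)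
    · have hjc : j = c := by omega
      subst hjc
      intro hd
      have h1 : 2 ^ j * 2 - 1 ∣ 2 := by
        have h2 := Nat.dvd_sub hd (dvd_refl (2 ^ j * 2 - 1))
        have h3 : 1 + 2 * 2 ^ j - (2 ^ j * 2 - 1) = 2 := by omega
        rwa [h3] at h2
      exact not_dvd_of_lt (by norm_num) (by omega) h1
  · have h1 : p ^ c * 3 ≤ p ^ c * p := Nat.mul_le_mul_left _ h3
    refine not_dvd_of_lt (by omega) ?_
    rcases Nat.lt_or_ge (p ^ c) 3 with h4 | h4
    · -- `c = 0`, `p >= 16` or so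
      rcases Nat.eq_zero_or_pos c with rfl | hc
      · simp only [pow_zero, one_mul] at h16 hjc ⊢
        omega
      · have : p ^ 1 ≤ p ^ c := Nat.pow_le_pow_right hp.pos hc
        rw [pow_one] at this
        omega
    · omega

/-- `p ^ b - 1` does not divide `1 + p ^ i + 2 p ^ j` -/
theorem ar112 {p b : ℕ} (hp : p.Prime) (h16 : 16 ≤ p ^ b) {i j : ℕ} (hi : i < b) (hj : j < b) :
    ¬ (p ^ b - 1) ∣ (1 + p ^ i + 2 * p ^ j) := by
  obtain ⟨c, rfl⟩ : ∃ c, b = c + 1 := ⟨b - 1, by omega⟩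
  have hic : p ^ i ≤ p ^ c := Nat.pow_le_pow_right hp.pos (by omega)
  have hjc : p ^ j ≤ p ^ c := Nat.pow_le_pow_right hp.pos (by omega)
  rw [pow_succ] at h16 ⊢
  rcases Nat.lt_or_ge p 4 with h4 | h4
  · rcases (show p = 2 ∨ p = 3 by have := hp.two_le; omega) with rfl | rfl
    · -- p = 2
      have hc3 : 3 ≤ c := by
        by_contra hne
        have : 2 ^ c ≤ 2 ^ 2 := Nat.pow_le_pow_right (by norm_num) (by omega)
        omega
      obtain ⟨d, rfl⟩ : ∃ d, c = d + 2 := ⟨c - 2, by omega⟩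
      have hd1 : 2 ≤ 2 ^ d := by
        calc 2 = 2 ^ 1 := by norm_num
          _ ≤ 2 ^ d := Nat.pow_le_pow_right (by norm_num) (by omega)
      have e : 2 ^ (d + 2) = 4 * 2 ^ d := by ring
      have hi0 : 0 < 2 ^ i := by positivity
      have hj0 : 0 < 2 ^ j := by positivity
      have e1 : 2 ^ (d + 1) = 2 * 2 ^ d := by ring
      rcases (show j = d + 2 ∨ j = d + 1 ∨ j ≤ d by omega) with rfl | rfl | hj'
      · intro hd'
        have h2 := Nat.dvd_sub hd' (dvd_refl (2 ^ (d + 2) * 2 - 1))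
        have h3 : 1 + 2 ^ i + 2 * 2 ^ (d + 2) - (2 ^ (d + 2) * 2 - 1) = 2 + 2 ^ i := by omega
        rw [h3] at h2
        exact not_dvd_of_lt (by omega) (by omega) h2
      · rcases (show i = d + 2 ∨ i ≤ d + 1 by omega) with rfl | hi'
        · intro hd'
          have h2 := Nat.dvd_sub hd' (dvd_refl (2 ^ (d + 2) * 2 - 1))
          have h3 : 1 + 2 ^ (d + 2) + 2 * 2 ^ (d + 1) - (2 ^ (d + 2) * 2 - 1) = 2 := by omega
          rw [h3] at h2
          exact not_dvd_of_lt (by norm_num) (by omega) h2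
        · have h5 : 2 ^ i ≤ 2 ^ (d + 1) := Nat.pow_le_pow_right (by norm_num) hi'
          exact not_dvd_of_lt (by omega) (by omega)
      · have h5 : 2 ^ j ≤ 2 ^ d := Nat.pow_le_pow_right (by norm_num) hj'
        exact not_dvd_of_lt (by omega) (by omega)
    · -- p = 3
      have hc2 : 2 ≤ c := by
        by_contra hne
        have : 3 ^ c ≤ 3 ^ 1 := Nat.pow_le_pow_right (by norm_num) (by omega)
        omega
      obtain ⟨d, rfl⟩ : ∃ d, c = d + 1 := ⟨c - 1, by omega⟩
      have hd1 : 3 ≤ 3 ^ d := by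
        calc 3 = 3 ^ 1 := by norm_num
          _ ≤ 3 ^ d := Nat.pow_le_pow_right (by norm_num) (by omega)
      have e : 3 ^ (d + 1) = 3 * 3 ^ d := by ring
      have hi0 : 0 < 3 ^ i := by positivity
      have hj0 : 0 < 3 ^ j := by positivity
      rcases (show j = d + 1 ∨ j ≤ d by omega) with rfl | hj'
      · rcases (show i = d + 1 ∨ i ≤ d by omega) with rfl | hi'
        · intro hd'
          have h2 := Nat.dvd_sub hd' (dvd_refl (3 ^ (d + 1) * 3 - 1))
          have h3 : 1 + 3 ^ (d + 1) + 2 * 3 ^ (d + 1) - (3 ^ (d + 1) * 3 - 1) = 2 := by omega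
          rw [h3] at h2
          exact not_dvd_of_lt (by norm_num) (by omega) h2
        · have h5 : 3 ^ i ≤ 3 ^ d := Nat.pow_le_pow_right (by norm_num) hi'
          exact not_dvd_of_lt (by omega) (by omega)
      · have h5 : 3 ^ j ≤ 3 ^ d := Nat.pow_le_pow_right (by norm_num) hj'
        exact not_dvd_of_lt (by omega) (by omega)
  · have hp5 : 5 ≤ p := by
      rcases Nat.lt_or_ge p 5 with h5 | h5
      · have : p = 4 := by omega
        subst this
        exact absurd hp (by norm_num)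
      · exact h5
    have h1 : p ^ c * 5 ≤ p ^ c * p := Nat.mul_le_mul_left _ hp5
    refine not_dvd_of_lt (by omega) ?_
    rcases Nat.lt_or_ge (p ^ c) 2 with h6 | h6
    · rcases Nat.eq_zero_or_pos c with rfl | hc
      · simp only [pow_zero, one_mul] at h16 hic hjc ⊢
        omega
      · have : p ^ 1 ≤ p ^ c := Nat.pow_le_pow_right hp.pos hc
        rw [pow_one] at this
        omega
    · omega

/-! ### the four cases -/

section

variable {p b : ℕ} [Fact p.Prime] {E : Type*} [Field E] [Fintype E]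

/-- weights `1, 2 → -1` -/
theorem biadd_zero (hE : Fintype.card E = p ^ b) (h16 : 16 ≤ p ^ b) (X : E → E → E)
    (h1 : ∀ x y t, X (x + y) t = X x t + X y t) (h2 : ∀ x s t, X x (s + t) = X x s + X x t)
    (hX : ∀ (u : E), u ≠ 0 → ∀ x t, u * X (u * x) (u ^ 2 * t) = X x t) : X = 0 := by
  refine biadd_zero_of hE (α := 1) (β := 2) (γ := 1) ?_ X h1 h2 ?_
  · intro i j hi hj
    have := ar112 (Fact.out : p.Prime) h16 hi hj
    rwa [one_mul]
  · intro u hu x t
    rw [pow_one]
    exact hX u hu x t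

/-- weight `2 → -1` -/
theorem add_zero_neg (hE : Fintype.card E = p ^ b) (h16 : 16 ≤ p ^ b) (c : E → E)
    (hadd : ∀ x y, c (x + y) = c x + c y) (hc : ∀ u : E, u ≠ 0 → ∀ t, u * c (u ^ 2 * t) = c t) : c = 0 := by
  funext t
  refine add_zero_of hE (β := 2) (γ := 1) ?_ c hadd ?_ t
  · intro j hj
    exact ar12 (Fact.out : p.Prime) h16 hj
  · intro u hu s
    rw [pow_one]
    exact hc u hu s

end

end Cfsg.Agent.H117.Rg
end

-- part: H383/Rg/Fin
section
/-!
# S3691: the final step (alpha) (helper383)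
-/

set_option autoImplicit false

namespace Cfsg.Agent.H383.Rg

open Module
open scoped Matrix

section Coord

variable {F U : Type*} [Field F] [AddCommGroup U] [Module F U]

/-- the matrix `A` in the coordinates `e` -/
noncomputable def gm (e : U ≃ₗ[F] (Fin 2 → F)) : Matrix.SpecialLinearGroup (Fin 2) F →* (U ≃ₗ[F] U) where
  toFun A := e.trans ((Matrix.SpecialLinearGroup.toLin' A).trans e.symm)
  map_one' := by
    ext u
    simp only [_root_.map_one, _root_.LinearEquiv.trans_apply, _root_.LinearEquiv.coe_one, _root_.id_eq, _root_.LinearEquiv.symm_apply_apply]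
  map_mul' A B := by
    ext u
    simp only [Matrix.SpecialLinearGroup.toLin'_apply, _root_.map_mul, _root_.LinearEquiv.trans_apply, _root_.LinearEquiv.mul_apply, _root_.Matrix.toLin'_apply, _root_.Matrix.mulVec_fin_two, _root_.Nat.succ_eq_add_one, _root_.Nat.reduceAdd, _root_.Fin.isValue, _root_.Matrix.cons_val_zero, _root_.Matrix.cons_val_one, _root_.Matrix.cons_val_fin_one, _root_.LinearEquiv.apply_symm_apply]

theorem gm_apply (e : U ≃ₗ[F] (Fin 2 → F)) (A : Matrix.SpecialLinearGroup (Fin 2) F) (u : U) :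
    e (gm e A u) = (A : Matrix (Fin 2) (Fin 2) F) *ᵥ (e u) := by
  change e (e.symm (Matrix.SpecialLinearGroup.toLin' A (e u))) = _
  rw [e.apply_symm_apply]
  rfl

theorem det_gm (e : U ≃ₗ[F] (Fin 2 → F)) (A : Matrix.SpecialLinearGroup (Fin 2) F) :
    LinearEquiv.det (gm e A) = 1 := by
  apply Units.ext
  rw [LinearEquiv.coe_det, Units.val_one]
  have h1 : ((gm e A : U ≃ₗ[F] U) : U →ₗ[F] U) = (e.symm : (Fin 2 → F) →ₗ[F] U) ∘ₗ
      (Matrix.toLin' (A : Matrix (Fin 2) (Fin 2) F)) ∘ₗ (e.symm.symm : U →ₗ[F] (Fin 2 → F)) := by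
    ext u
    rfl
  rw [h1, LinearMap.det_conj, LinearMap.det_toLin', A.2]

theorem gm_zero (e : U ≃ₗ[F] (Fin 2 → F)) (a b c d : F) (h : (!![a, b; c, d] : Matrix (Fin 2) (Fin 2) F).det = 1) (u : U) :
    e (gm e ⟨!![a, b; c, d], h⟩ u) 0 = a * e u 0 + b * e u 1 := by
  refine (congrFun (gm_apply e ⟨!![a, b; c, d], h⟩ u) 0).trans ?_
  change (!![a, b; c, d] : Matrix (Fin 2) (Fin 2) F) 0 ⬝ᵥ (e u) = _
  rw [dotProduct, Fin.sum_univ_two]
  rfl

theorem gm_one (e : U ≃ₗ[F] (Fin 2 → F)) (a b c d : F) (h : (!![a, b; c, d] : Matrix (Fin 2) (Fin 2) F).det = 1) (u : U) :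
    e (gm e ⟨!![a, b; c, d], h⟩ u) 1 = c * e u 0 + d * e u 1 := by
  refine (congrFun (gm_apply e ⟨!![a, b; c, d], h⟩ u) 1).trans ?_
  change (!![a, b; c, d] : Matrix (Fin 2) (Fin 2) F) 1 ⬝ᵥ (e u) = _
  rw [dotProduct, Fin.sum_univ_two]
  rfl

/-- the torus -/
def dg (F : Type*) [Field F] : Fˣ →* Matrix.SpecialLinearGroup (Fin 2) F where
  toFun θ := ⟨!![(θ : F), 0; 0, (θ : F)⁻¹], by simp [Matrix.det_fin_two]⟩
  map_one' := by
    apply Subtype.ext
    change !![((1 : Fˣ) : F), 0; 0, ((1 : Fˣ) : F)⁻¹] = 1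
    rw [Units.val_one, inv_one, Matrix.one_fin_two]
  map_mul' θ η := by
    apply Subtype.ext
    change !![((θ * η : Fˣ) : F), 0; 0, ((θ * η : Fˣ) : F)⁻¹] = !![(θ : F), 0; 0, (θ : F)⁻¹] * !![(η : F), 0; 0, (η : F)⁻¹]
    rw [Matrix.mul_fin_two, Units.val_mul, mul_inv]
    simp

theorem exists_coords [FiniteDimensional F U] (hU : Module.finrank F U = 2) :
    ∃ (e : U ≃ₗ[F] (Fin 2 → F)) (X : F → (U ≃ₗ[F] U)) (L : U ≃ₗ[F] U) (g : Fˣ →* (U ≃ₗ[F] U)),
      (∀ u u' : U, e u 0 = e u' 0 → e u 1 = e u' 1 → u = u') ∧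
      (∀ t, LinearEquiv.det (X t) = 1) ∧ (∀ t u, e (X t u) 0 = e u 0 + t * e u 1) ∧ (∀ t u, e (X t u) 1 = e u 1) ∧
      (LinearEquiv.det L = 1) ∧ (∀ u, e (L u) 1 = e u 0 + e u 1) ∧
      (∀ θ, LinearEquiv.det (g θ) = 1) ∧ (∀ θ u, e (g θ u) 0 = θ * e u 0) ∧ (∀ θ u, e (g θ u) 1 = (θ : F)⁻¹ * e u 1) := by
  let e : U ≃ₗ[F] (Fin 2 → F) := (Module.finBasisOfFinrankEq F U hU).equivFun
  refine ⟨e, fun t => gm e ⟨!![1, t; 0, 1], by simp [Matrix.det_fin_two]⟩,
    gm e ⟨!![1, 0; 1, 1], by simp [Matrix.det_fin_two]⟩, (gm e).comp (dg F), ?_, fun t => det_gm _ _,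
    fun t u => ?_, fun t u => ?_, det_gm _ _, fun u => ?_, fun θ => det_gm _ _, fun θ u => ?_, fun θ u => ?_⟩
  · intro u u' h0 h1
    apply e.injective
    ext i
    fin_cases i
    · exact h0
    · exact h1
  · exact (gm_zero e _ _ _ _ _ u).trans (by ring)
  · exact (gm_one e _ _ _ _ _ u).trans (by ring)
  · exact (gm_one e _ _ _ _ _ u).trans (by ring)
  · exact (gm_zero e _ _ _ _ _ u).trans (by ring)
  · exact (gm_one e _ _ _ _ _ u).trans (by ring)

end Coord

theorem exists_torus {p : ℕ} [Fact p.Prime] {F D G : Type*} [Field F] [Fintype F] [Group D] [Finite D]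
    [Group G] (τ : D →* G) (hp : ¬ p ∣ Nat.card Fˣ) (h1 : 1 < Nat.card Fˣ) (hA : IsPGroup p τ.ker) (g : Fˣ →* G)
    (hg : ∀ θ, ∃ x, τ x = g θ) : ∃ h : Fˣ →* D, ∀ θ, τ (h θ) = g θ := by
  obtain ⟨γ, hγ⟩ := IsCyclic.exists_generator (α := Fˣ)
  obtain ⟨l, hl⟩ := hg γ
  obtain ⟨m, hm⟩ := IsPGroup.iff_card.1 hA
  have hcop : Nat.Coprime (Nat.card τ.ker) (Nat.card Fˣ) := by
    rw [hm]
    exact Nat.Coprime.pow_left _ (((Nat.Prime.coprime_iff_not_dvd Fact.out).2 hp))
  obtain ⟨a, -, ha⟩ := Nat.exists_mul_mod_eq_one_of_coprime hcop h1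
  have hord : orderOf γ = Nat.card Fˣ := orderOf_eq_card_of_forall_mem_zpowers hγ
  have hγn : γ ^ Nat.card Fˣ = 1 := pow_card_eq_one'
  have hγk : γ ^ (Nat.card τ.ker * a) = γ := by
    rw [← Nat.div_add_mod (Nat.card τ.ker * a) (Nat.card Fˣ), ha, pow_add, pow_mul, hγn, one_pow, one_mul, pow_one]
  have hl1 : τ (l ^ (Nat.card τ.ker * a)) = g γ := by
    rw [map_pow, hl, ← map_pow, hγk]
  have hl2 : (l ^ (Nat.card τ.ker * a)) ^ Nat.card Fˣ = 1 := by
    have h2 : l ^ Nat.card Fˣ ∈ τ.ker := by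
      rw [MonoidHom.mem_ker, map_pow, hl, ← map_pow, hγn, map_one]
    have h3 : (l ^ Nat.card Fˣ) ^ Nat.card τ.ker = 1 :=
      congrArg Subtype.val (pow_card_eq_one' (x := (⟨_, h2⟩ : τ.ker)))
    rw [← pow_mul, mul_comm, pow_mul, pow_mul, h3, one_pow]
  refine ⟨monoidHomOfForallMemZpowers hγ (g' := l ^ (Nat.card τ.ker * a)) (by
    rw [hord]; exact orderOf_dvd_of_pow_eq_one hl2), fun θ => ?_⟩
  obtain ⟨i, rfl⟩ := hγ θ
  change τ (monoidHomOfForallMemZpowers hγ _ (γ ^ i)) = g (γ ^ i)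
  rw [map_zpow, map_zpow, monoidHomOfForallMemZpowers_apply_gen, hl1, ← map_zpow]

theorem card_smul {p b : ℕ} {F M : Type*} [Field F] [Fintype F] (hF : Fintype.card F = p ^ b) (hb : b ≠ 0)
    [Fintype Fˣ] [AddCommGroup M] (hM : ∀ m : M, p • m = 0) (m : M) : Fintype.card Fˣ • m = - m := by
  have h1 : (Fintype.card Fˣ + 1) • m = 0 := by
    have h2 : Fintype.card Fˣ + 1 = Fintype.card F := by
      have h3 : 0 < Nat.card F := Nat.card_pos
      rw [← Nat.card_eq_fintype_card, ← Nat.card_eq_fintype_card, Nat.card_units]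
      omega
    rw [h2, hF]
    obtain ⟨c, rfl⟩ := Nat.exists_eq_succ_of_ne_zero hb
    rw [pow_succ, mul_nsmul, hM]
  rw [add_nsmul, one_nsmul] at h1
  exact eq_neg_of_add_eq_zero_left h1

theorem exists_sec {p : ℕ} [Fact p.Prime] {V U : Type*} [AddCommGroup V] [Module (ZMod p) V] [AddCommGroup U]
    [Module (ZMod p) U] (pr : V →+ U) (hpr : Function.Surjective pr) : ∃ s0 : U →+ V, ∀ u, pr (s0 u) = u := by
  obtain ⟨g, hg⟩ := (pr.toZModLinearMap p).exists_rightInverse_of_surjective (LinearMap.range_eq_top.2 hpr)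
  exact ⟨g.toAddMonoidHom, fun u => LinearMap.congr_fun hg u⟩

theorem exists_sec' {p : ℕ} [Fact p.Prime] {V U : Type*} [AddCommGroup V] (hV : ∀ v : V, p • v = 0) [AddCommGroup U]
    (hUp : ∀ v : U, p • v = 0) (pr : V →+ U) (hpr : Function.Surjective pr) : ∃ s0 : U →+ V, ∀ u, pr (s0 u) = u :=
  @exists_sec p _ V U _ (AddCommGroup.zmodModule hV) _ (AddCommGroup.zmodModule hUp) pr hpr

/-- the averaged section -/
theorem exists_section {p b : ℕ} [Fact p.Prime] {F V U D : Type*} [Field F] [Fintype F] (hF : Fintype.card F = p ^ b)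
    (hb : b ≠ 0) [AddCommGroup V] (hV : ∀ v : V, p • v = 0) [AddCommGroup U] [Module F U]
    [Group D] [DistribMulAction D V] (pr : V →+ U) (hpr : Function.Surjective pr)
    (τ : D →* (U ≃ₗ[F] U)) (hτ : ∀ (x : D) (v : V), pr (x • v) = τ x (pr v)) (h : Fˣ →* D) :
    ∃ s : U →+ V, (∀ u, pr (s u) = u) ∧ ∀ θ u, s (τ (h θ) u) = h θ • s u := by
  classical
  have hUp : ∀ u : U, p • u = 0 := by
    intro u
    obtain ⟨v, rfl⟩ := hpr u
    rw [← map_nsmul, hV, map_zero]
  -- an additive section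
  obtain ⟨s0, hs0⟩ := exists_sec' hV hUp pr hpr
  let s : U →+ V := -∑ θ : Fˣ, (DistribSMul.toAddMonoidHom V (h θ)).comp
    (s0.comp ((τ (h θ))⁻¹ : U ≃ₗ[F] U).toLinearMap.toAddMonoidHom)
  have hs : ∀ u, s u = -∑ θ : Fˣ, h θ • s0 ((τ (h θ))⁻¹ u) := by
    intro u
    simp only [s, AddMonoidHom.neg_apply, AddMonoidHom.finsetSum_apply, AddMonoidHom.comp_apply]
    rfl
  refine ⟨s, fun u => ?_, fun θ u => ?_⟩
  · rw [hs, map_neg, map_sum]
    have h1 : ∀ θ : Fˣ, pr (h θ • s0 ((τ (h θ))⁻¹ u)) = u := by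
      intro θ
      rw [hτ, hs0]
      change ((τ (h θ)) * (τ (h θ))⁻¹) u = u
      rw [mul_inv_cancel]
      rfl
    rw [Finset.sum_congr rfl fun θ _ => h1 θ, Finset.sum_const, Finset.card_univ, card_smul hF hb hUp, neg_neg]
  · rw [hs, hs, smul_neg, Finset.smul_sum]
    congr 1
    rw [← Equiv.sum_comp (Equiv.mulLeft θ)]
    refine Finset.sum_congr rfl fun η _ => ?_
    rw [Equiv.coe_mulLeft, map_mul, mul_smul, map_mul]
    congr 3
    change ((τ (h θ) * τ (h η))⁻¹ * τ (h θ)) u = _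
    rw [mul_inv_rev, inv_mul_cancel_right]

/-- the recentred cocycle -/
theorem exists_recentre {p b : ℕ} {F V D : Type*} [Field F] [Fintype F] (hF : Fintype.card F = p ^ b)
    (hb : b ≠ 0) [AddCommGroup V] (hV : ∀ v : V, p • v = 0) [Group D] [DistribMulAction D V]
    (d : D → V) (hdc : ∀ x y : D, d (x * y) = d x + x • d y) (W : AddSubgroup V) (hd : ∀ x, d x ∈ W) (h : Fˣ →* D) :
    ∃ w0 ∈ W, ∀ θ, d (h θ) + h θ • w0 - w0 = 0 := by
  classical
  refine ⟨-∑ θ : Fˣ, d (h θ), W.neg_mem (W.sum_mem fun θ _ => hd _), fun θ => ?_⟩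
  have h1 : ∀ η : Fˣ, h θ • d (h η) = d (h (θ * η)) - d (h θ) := by
    intro η
    rw [map_mul, hdc]
    abel
  rw [smul_neg, Finset.smul_sum, Finset.sum_congr rfl fun η _ => h1 η, Finset.sum_sub_distrib,
    Finset.sum_const, Finset.card_univ, card_smul hF hb hV]
  have h2 : ∑ η : Fˣ, d (h (θ * η)) = ∑ η : Fˣ, d (h η) := Equiv.sum_comp (Equiv.mulLeft θ) (fun η => d (h η))
  rw [h2]
  abel


/-- the inverse of `v ↦ a₀ v - v` -/
theorem exists_M {V U D : Type*} [AddCommGroup V] [Finite V] [AddCommGroup U] [Group D] [DistribMulAction D V]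
    (pr : V →+ U) (hpr : Function.Surjective pr) (hcard : Nat.card pr.ker = Nat.card U) (a₀ : D)
    (hpa : ∀ v, pr (a₀ • v) = pr v) (hAtriv : ∀ w ∈ pr.ker, a₀ • w = w) (hnd : ∀ v : V, a₀ • v = v → v ∈ pr.ker) :
    ∃ M : V → U, (∀ v, M (a₀ • v - v) = pr v) ∧ ∀ w ∈ pr.ker, ∃ v, w = a₀ • v - v := by
  classical
  let n : V →+ V := DistribSMul.toAddMonoidHom V a₀ - AddMonoidHom.id V
  have hn : ∀ v, n v = a₀ • v - v := fun v => rfl
  have hker : n.ker = pr.ker := by
    ext v
    rw [AddMonoidHom.mem_ker, hn, sub_eq_zero]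
    exact ⟨hnd v, hAtriv v⟩
  have hrange : n.range = pr.ker := by
    have h1 : n.range ≤ pr.ker := by
      rintro _ ⟨v, rfl⟩
      rw [AddMonoidHom.mem_ker, hn, map_sub, hpa, sub_self]
    have h2 : Nat.card n.range = Nat.card pr.ker := by
      have e1 := AddSubgroup.card_mul_index n.ker
      have e2 := AddSubgroup.card_mul_index pr.ker
      rw [AddSubgroup.index_ker] at e1
      rw [AddSubgroup.index_ker, AddMonoidHom.range_eq_top.2 hpr, AddSubgroup.card_top] at e2
      rw [hker, ← e2] at e1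
      have h3 : 0 < Nat.card pr.ker := Nat.card_pos
      rw [Nat.eq_of_mul_eq_mul_left h3 e1, hcard]
    exact AddSubgroup.eq_of_le_of_card_ge h1 h2.ge
  refine ⟨fun w => if h : ∃ v, n v = w then pr h.choose else 0, fun v => ?_, fun w hw => ?_⟩
  · have h1 : ∃ v', n v' = a₀ • v - v := ⟨v, rfl⟩
    refine (dif_pos h1).trans ?_
    have h2 : h1.choose - v ∈ pr.ker := by
      rw [← hker, AddMonoidHom.mem_ker, map_sub, h1.choose_spec, hn, sub_self]
    rw [AddMonoidHom.mem_ker, map_sub] at h2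
    exact sub_eq_zero.1 h2
  · rw [← hrange] at hw
    obtain ⟨v, hv⟩ := hw
    exact ⟨v, hv.symm⟩

set_option linter.unusedVariables false in
/-- **the final step (alpha)** -/
theorem fin {p b : ℕ} [Fact p.Prime] {F : Type*} [Field F] [Fintype F] (hF : Fintype.card F = p ^ b) (h16 : 16 ≤ Fintype.card F)
    {V U D : Type*} [AddCommGroup V] [Finite V] (hV : ∀ v : V, p • v = 0) [AddCommGroup U] [Module F U] (hU : Module.finrank F U = 2)
    [Group D] [Finite D] [DistribMulAction D V] (pr : V →+ U) (hpr : Function.Surjective pr)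
    (τ : D →* (U ≃ₗ[F] U)) (hτ : ∀ (x : D) (v : V), pr (x • v) = τ x (pr v))
    (hdet : ∀ x : D, LinearEquiv.det (τ x) = 1) (hsurj : ∀ g : U ≃ₗ[F] U, LinearEquiv.det g = 1 → ∃ x : D, τ x = g)
    (hcard : Nat.card pr.ker = Nat.card U)
    (hApgrp : IsPGroup p τ.ker) (hAtriv : ∀ a ∈ τ.ker, ∀ w ∈ pr.ker, a • w = w) (hAcent : ∀ a ∈ τ.ker, ∀ x : D, a * x = x * a)
    (a₀ : D) (ha₀ : a₀ ∈ τ.ker) (hnd : ∀ v : V, a₀ • v = v → v ∈ pr.ker)
    (d : D → V) (hd : ∀ x, d x ∈ pr.ker) (hdc : ∀ x y : D, d (x * y) = d x + x • d y)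
    (hfree : ∀ u : U, u ≠ 0 → ∃ v : V, pr v = u ∧ ∀ x : D, x • v + d x = v → x = 1) : False := by
  classical
  have hp : p.Prime := Fact.out
  have hb : b ≠ 0 := by
    rintro rfl
    rw [pow_zero] at hF
    omega
  have hFu : Nat.card Fˣ = p ^ b - 1 := by rw [Nat.card_units, Nat.card_eq_fintype_card, hF]
  have hpu : ¬ p ∣ Nat.card Fˣ := by
    rw [hFu]
    intro h1
    have h2 : p ∣ p ^ b := dvd_pow_self p hb
    have h3 := (Nat.dvd_sub_iff_right (show 1 ≤ p ^ b by omega) h2).1 h1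
    exact hp.one_lt.ne' (Nat.dvd_one.1 h3)
  -- coordinates
  have hfd : FiniteDimensional F U := FiniteDimensional.of_finrank_pos (by omega)
  obtain ⟨e, X, L, g, hext, hXd, hX0, hX1, hLd, hL1, hgd, hg0, hg1⟩ := exists_coords (F := F) hU
  -- (1) the torus
  obtain ⟨h, hh⟩ := exists_torus τ hpu (by omega) hApgrp g (fun θ => hsurj _ (hgd θ))
  -- (2) the section
  obtain ⟨s, hs, hsh⟩ := exists_section hF hb hV pr hpr τ hτ h
  obtain ⟨w0, hw0, hd0⟩ := exists_recentre hF hb hV d hdc pr.ker hd h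
  -- the recentred cocycle
  obtain ⟨d', hd'⟩ : ∃ d' : D → V, ∀ x, d' x = d x + x • w0 - w0 := ⟨_, fun x => rfl⟩
  have hinv : ∀ (x : D), ∀ w ∈ pr.ker, x • w ∈ pr.ker := by
    intro x w hw
    rw [AddMonoidHom.mem_ker, hτ, AddMonoidHom.mem_ker.1 hw, map_zero]
  have hd'W : ∀ x, d' x ∈ pr.ker := fun x => by
    rw [hd']
    exact pr.ker.sub_mem (pr.ker.add_mem (hd x) (hinv x _ hw0)) hw0
  have hd'c : ∀ x y, d' (x * y) = d' x + x • d' y := by
    intro x y
    rw [hd', hd', hd', hdc, mul_smul, smul_sub, smul_add]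
    abel
  have hd'h : ∀ θ, d' (h θ) = 0 := fun θ => by rw [hd']; exact hd0 θ
  -- (3) the map `M`
  have hpa : ∀ v, pr (a₀ • v) = pr v := fun v => by
    rw [hτ, MonoidHom.mem_ker.1 ha₀]
    rfl
  obtain ⟨M, hM, hMs⟩ := exists_M pr hpr hcard a₀ hpa (hAtriv a₀ ha₀) hnd
  have hMadd : ∀ w ∈ pr.ker, ∀ w' ∈ pr.ker, M (w + w') = M w + M w' := by
    intro w hw w' hw'
    obtain ⟨v, rfl⟩ := hMs w hw
    obtain ⟨v', rfl⟩ := hMs w' hw'
    have e1 : a₀ • v - v + (a₀ • v' - v') = a₀ • (v + v') - (v + v') := by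
      rw [smul_add]
      abel
    rw [e1, hM, hM, hM, map_add]
  have hMsub : ∀ w ∈ pr.ker, ∀ w' ∈ pr.ker, M (w - w') = M w - M w' := by
    intro w hw w' hw'
    obtain ⟨v, rfl⟩ := hMs w hw
    obtain ⟨v', rfl⟩ := hMs w' hw'
    have e1 : a₀ • v - v - (a₀ • v' - v') = a₀ • (v - v') - (v - v') := by
      rw [smul_sub]
      abel
    rw [e1, hM, hM, hM, map_sub]
  have hMx : ∀ (x : D), ∀ w ∈ pr.ker, M (x • w) = τ x (M w) := by
    intro x w hw
    obtain ⟨v, rfl⟩ := hMs w hw
    have e1 : x • (a₀ • v - v) = a₀ • (x • v) - x • v := by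
      rw [smul_sub, ← mul_smul, ← hAcent a₀ ha₀, mul_smul]
    rw [e1, hM, hM, hτ]
  have hM0 : ∀ w ∈ pr.ker, M w = 0 → w = 0 := by
    intro w hw h0
    obtain ⟨v, rfl⟩ := hMs w hw
    rw [hM] at h0
    rw [hAtriv a₀ ha₀ v h0, sub_self]
  -- vectors fixed by `SL(U)`
  have hfix : ∀ m : U, (∀ x : D, τ x m = m) → m = 0 := by
    intro m hm
    obtain ⟨x, hx⟩ := hsurj (X 1) (hXd 1)
    obtain ⟨y, hy⟩ := hsurj L hLd
    have h1 := hX0 1 m
    rw [← hx, hm, one_mul] at h1
    have h2 := hL1 m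
    rw [← hy, hm] at h2
    have e1 : e m 1 = 0 := by linear_combination -h1
    have e0 : e m 0 = 0 := by linear_combination -h2
    apply hext
    · rw [e0, map_zero]; rfl
    · rw [e1, map_zero]; rfl
  -- `d'` is trivial on `A`
  have hd'A : ∀ a ∈ τ.ker, d' a = 0 := by
    intro a ha
    apply hM0 _ (hd'W a)
    apply hfix
    intro x
    rw [← hMx x _ (hd'W a)]
    congr 1
    have h1 := hd'c a x
    rw [hAcent a ha, hd'c, hAtriv a ha _ (hd'W x)] at h1
    have : x • d' a = d' a := by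
      have h2 : d' x + x • d' a = d' x + d' a := by rw [h1]; abel
      exact add_left_cancel h2
    exact this
  -- elements over `X t`
  have hψX : ∀ t x, τ x = X t → ∀ w ∈ pr.ker, e (M (x • w)) 1 = e (M w) 1 := by
    intro t x hx w hw
    rw [hMx x w hw, hx, hX1]
  have hprX : ∀ t v, e (pr v) 1 = 0 → X t (pr v) = pr v := by
    intro t v hv
    apply hext
    · rw [hX0, hv, mul_zero, add_zero]
    · rw [hX1]
  -- the map `f x v = ψ (x v - v)`
  have hfW : ∀ t x v, τ x = X t → e (pr v) 1 = 0 → x • v - v ∈ pr.ker := by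
    intro t x v hx hv
    rw [AddMonoidHom.mem_ker, map_sub, hτ, hx, hprX t v hv, sub_self]
  have hfA : ∀ a ∈ τ.ker, ∀ v, e (pr v) 1 = 0 → e (M (a • v - v)) 1 = 0 := by
    intro a ha v hv
    obtain ⟨x, hx⟩ := hsurj (X 1) (hXd 1)
    have haW : a • v - v ∈ pr.ker := by
      rw [AddMonoidHom.mem_ker, map_sub, hτ, MonoidHom.mem_ker.1 ha]
      exact sub_self _
    have h1 : x • (a • v - v) = a • v - v := by
      have h2 := hfW 1 x v hx hv
      have h3 : a • (x • v - v) = x • v - v := hAtriv a ha _ h2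
      rw [smul_sub, ← mul_smul, ← hAcent a ha, mul_smul]
      rw [smul_sub] at h3
      have h4 : a • x • v = x • v - v + a • v := by rw [← h3]; abel
      rw [h4]
      abel
    have h2 := hMx x _ haW
    rw [h1, hx] at h2
    have h3 := hX0 1 (M (a • v - v))
    rw [← h2, one_mul] at h3
    linear_combination -h3
  have hfmul : ∀ t t' x y v, τ x = X t → τ y = X t' → e (pr v) 1 = 0 →
      e (M ((x * y) • v - v)) 1 = e (M (x • v - v)) 1 + e (M (y • v - v)) 1 := by
    intro t t' x y v hx hy hv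
    have h1 := hfW t' y v hy hv
    have h2 := hfW t x v hx hv
    have e1 : (x * y) • v - v = x • (y • v - v) + (x • v - v) := by
      rw [mul_smul, smul_sub]
      abel
    rw [e1, hMadd _ (hinv x _ h1) _ h2, map_add, Pi.add_apply, hψX t x hx _ h1, add_comm]
  have hXadd : ∀ t t', X (t + t') = X t * X t' := by
    intro t t'
    apply LinearEquiv.ext
    intro u
    apply hext
    · change _ = e (X t (X t' u)) 0
      rw [hX0, hX0, hX0, hX1]
      ring
    · change _ = e (X t (X t' u)) 1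
      rw [hX1, hX1, hX1]
  -- choices
  choose xt hxt using fun t => hsurj (X t) (hXd t)
  have hfind : ∀ t x v, τ x = X t → e (pr v) 1 = 0 → e (M (x • v - v)) 1 = e (M (xt t • v - v)) 1 := by
    intro t x v hx hv
    have ha : x * (xt t)⁻¹ ∈ τ.ker := by
      rw [MonoidHom.mem_ker, map_mul, map_inv, hx, hxt, mul_inv_cancel]
    have h1 : x • v - v = ((x * (xt t)⁻¹) • (xt t • v) - xt t • v) + (xt t • v - v) := by
      rw [← mul_smul, inv_mul_cancel_right]
      abel
    have hv' : e (pr (xt t • v)) 1 = 0 := by rw [hτ, hxt, hprX t v hv, hv]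
    have h3 : (x * (xt t)⁻¹) • (xt t • v) - xt t • v ∈ pr.ker := by
      rw [AddMonoidHom.mem_ker, map_sub, hτ, MonoidHom.mem_ker.1 ha]
      exact sub_self _
    rw [h1, hMadd _ h3 _ (hfW t _ v (hxt t) hv), map_add, Pi.add_apply, hfA _ ha _ hv', zero_add]
  have hdind : ∀ t x, τ x = X t → d' x = d' (xt t) := by
    intro t x hx
    have ha : x * (xt t)⁻¹ ∈ τ.ker := by
      rw [MonoidHom.mem_ker, map_mul, map_inv, hx, hxt, mul_inv_cancel]
    have h1 : x = (x * (xt t)⁻¹) * xt t := by rw [inv_mul_cancel_right]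
    rw [h1, hd'c, hd'A _ ha, zero_add, hAtriv _ ha _ (hd'W _)]
  -- the first basis vector
  obtain ⟨e1, he10, he11⟩ : ∃ e1 : U, e e1 0 = 1 ∧ e e1 1 = 0 :=
    ⟨e.symm ![1, 0], by rw [e.apply_symm_apply]; rfl, by rw [e.apply_symm_apply]; rfl⟩
  have hl1 : ∀ l : F, e (pr (s (l • e1))) 1 = 0 := by
    intro l
    rw [hs, map_smul, Pi.smul_apply, he11, smul_zero]
  -- conjugation by the torus
  have hconj : ∀ (θ : Fˣ) (t : F) x, τ x = X t → τ (h θ * x * (h θ)⁻¹) = X ((θ : F) ^ 2 * t) := by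
    intro θ t x hx
    rw [map_mul, map_mul, map_inv, hh, hx, mul_inv_eq_iff_eq_mul]
    apply LinearEquiv.ext
    intro u
    have hθ : (θ : F) ≠ 0 := θ.ne_zero
    apply hext
    · change e (g θ (X t u)) 0 = e (X _ (g θ u)) 0
      rw [hg0, hX0, hX0, hg0, hg1]
      field_simp
    · change e (g θ (X t u)) 1 = e (X _ (g θ u)) 1
      rw [hg1, hX1, hX1, hg1]
  have hZ : (fun l t => e (M (xt t • s (l • e1) - s (l • e1))) 1) = (0 : F → F → F) := by
    refine Cfsg.Agent.H117.Rg.biadd_zero (p := p) (b := b) hF (by rw [← hF]; exact h16) _ ?_ ?_ ?_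
    · intro x y t
      have e2 : xt t • s ((x + y) • e1) - s ((x + y) • e1) =
          (xt t • s (x • e1) - s (x • e1)) + (xt t • s (y • e1) - s (y • e1)) := by
        rw [add_smul, map_add, smul_add]
        abel
      change e (M (xt t • s ((x + y) • e1) - s ((x + y) • e1))) 1 = _
      rw [e2, hMadd _ (hfW t _ _ (hxt t) (hl1 x)) _ (hfW t _ _ (hxt t) (hl1 y)), map_add, Pi.add_apply]
    · intro x t t'
      rw [← hfind (t + t') (xt t * xt t') _ (by rw [map_mul, hxt, hxt, hXadd]) (hl1 x),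
        hfmul t t' _ _ _ (hxt t) (hxt t') (hl1 x)]
    · intro u hu l t
      let θ : Fˣ := Units.mk0 u hu
      change u * e (M (xt (u ^ 2 * t) • s ((u * l) • e1) - s ((u * l) • e1))) 1 = e (M (xt t • s (l • e1) - s (l • e1))) 1
      have h1 : s ((u * l) • e1) = h θ • s (l • e1) := by
        rw [← hsh]
        congr 1
        apply hext
        · rw [hh, hg0, map_smul, map_smul, Pi.smul_apply, Pi.smul_apply, he10, smul_eq_mul, smul_eq_mul]
          change u * l * 1 = u * (l * 1)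
          ring
        · rw [hh, hg1, map_smul, map_smul, Pi.smul_apply, Pi.smul_apply, he11, smul_zero, smul_zero, mul_zero]
      rw [← hfind (u ^ 2 * t) (h θ * xt t * (h θ)⁻¹) _ (hconj θ t _ (hxt t)) (hl1 _), h1]
      have h2 : (h θ * xt t * (h θ)⁻¹) • h θ • s (l • e1) - h θ • s (l • e1) = h θ • (xt t • s (l • e1) - s (l • e1)) := by
        rw [← mul_smul, inv_mul_cancel_right, mul_smul, smul_sub]
      rw [h2, hMx _ _ (hfW t _ _ (hxt t) (hl1 l)), hh, hg1]
      change u * (u⁻¹ * _) = _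
      rw [← mul_assoc, mul_inv_cancel₀ hu, one_mul]
  have hZ' : (fun t => e (M (d' (xt t))) 1) = (0 : F → F) := by
    refine Cfsg.Agent.H117.Rg.add_zero_neg (p := p) (b := b) hF (by rw [← hF]; exact h16) _ ?_ ?_
    · intro t t'
      rw [← hdind (t + t') (xt t * xt t') (by rw [map_mul, hxt, hxt, hXadd]), hd'c,
        hMadd _ (hd'W _) _ (hinv _ _ (hd'W _)), map_add, Pi.add_apply, hψX t _ (hxt t) _ (hd'W _)]
    · intro u hu t
      let θ : Fˣ := Units.mk0 u hu
      change u * e (M (d' (xt (u ^ 2 * t)))) 1 = e (M (d' (xt t))) 1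
      rw [← hdind (u ^ 2 * t) (h θ * xt t * (h θ)⁻¹) (hconj θ t _ (hxt t)), hd'c, hd'c, hd'h, zero_add,
        ← map_inv, hd'h, smul_zero, add_zero, hMx _ _ (hd'W _), hh, hg1]
      change u * (u⁻¹ * _) = _
      rw [← mul_assoc, mul_inv_cancel₀ hu, one_mul]
  -- (5) the free orbit
  obtain ⟨v, hv, hfr⟩ := hfree e1 (by
    rintro rfl
    rw [map_zero] at he10
    exact zero_ne_one he10)
  obtain ⟨v', hv'⟩ : ∃ v', v' = v - w0 := ⟨_, rfl⟩
  have hfr' : ∀ x, x • v' + d' x = v' → x = 1 := by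
    intro x hx
    apply hfr
    rw [hv', hd', smul_sub] at hx
    have : x • v + d x = (x • v - x • w0 + (d x + x • w0 - w0)) + w0 := by abel
    rw [this, hx]
    abel
  have hpv' : pr v' = e1 := by rw [hv', map_sub, AddMonoidHom.mem_ker.1 hw0, hv, sub_zero]
  have hinj : ∀ x y, x • v' + d' x = y • v' + d' y → x = y := by
    intro x y hxy
    have h1 : y⁻¹ * x = 1 := by
      apply hfr'
      have h2 : d' (y⁻¹ * y) = 0 := by
        rw [inv_mul_cancel]
        have := hd'h 1
        rwa [map_one] at this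
      rw [hd'c] at h2
      rw [mul_smul, hd'c]
      have h3 : y⁻¹ • x • v' + (d' y⁻¹ + y⁻¹ • d' x) = y⁻¹ • (x • v' + d' x) + d' y⁻¹ := by
        rw [smul_add]
        abel
      rw [h3, hxy, smul_add, inv_smul_smul]
      have h4 : v' + y⁻¹ • d' y + d' y⁻¹ = v' + (d' y⁻¹ + y⁻¹ • d' y) := by abel
      rw [h4, h2, add_zero]
    exact (inv_mul_eq_one.1 h1).symm
  -- the difference lies in `W0`
  have hW0 : ∀ t x, τ x = X t → x • v' + d' x - v' ∈ pr.ker ∧ e (M (x • v' + d' x - v')) 1 = 0 := by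
    intro t x hx
    have hw' : v' - s e1 ∈ pr.ker := by rw [AddMonoidHom.mem_ker, map_sub, hpv', hs, sub_self]
    have hse : e (pr (s e1)) 1 = 0 := by rw [hs, he11]
    have h1 : x • v' + d' x - v' = (x • s e1 - s e1) + (x • (v' - s e1) - (v' - s e1)) + d' x := by
      rw [smul_sub]
      abel
    have m1 := hfW t x _ hx hse
    have m2 := hinv x _ hw'
    have m3 := hd'W x
    have m4 := pr.ker.sub_mem m2 hw'
    refine ⟨?_, ?_⟩
    · rw [h1]
      exact pr.ker.add_mem (pr.ker.add_mem m1 m4) m3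
    · rw [h1, hMadd _ (pr.ker.add_mem m1 m4) _ m3, hMadd _ m1 _ m4, hMsub _ m2 _ hw', map_add, map_add, map_sub,
        Pi.add_apply, Pi.add_apply, Pi.sub_apply, hψX t x hx _ hw', sub_self, add_zero, hfind t x _ hx hse, hdind t x hx]
      have h2 := congrFun (congrFun hZ 1) t
      have h3 := congrFun hZ' t
      simp only [one_smul, Pi.zero_apply] at h2 h3
      rw [h2, h3, add_zero]
  -- counting
  have ha1 : a₀ ≠ 1 := by
    rintro rfl
    obtain ⟨w, hw⟩ := hpr e1
    have h1 := hnd w (one_smul _ _)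
    rw [AddMonoidHom.mem_ker, hw] at h1
    rw [h1, map_zero] at he10
    exact zero_ne_one he10
  let x : Bool × F → D := fun i => (if i.1 then a₀ else 1) * xt i.2
  have hx : ∀ i, τ (x i) = X i.2 := by
    rintro ⟨i, t⟩
    change τ ((if i then a₀ else 1) * xt t) = X t
    cases i
    · rw [if_neg (by decide), one_mul, hxt]
    · rw [if_pos rfl, map_mul, MonoidHom.mem_ker.1 ha₀, one_mul, hxt]
  let Φ : Bool × F → F := fun i => e (M (x i • v' + d' (x i) - v')) 0
  have hΦ : Function.Injective Φ := by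
    rintro ⟨i, t⟩ ⟨j, t'⟩ hij
    obtain ⟨m1, n1⟩ := hW0 _ _ (hx (i, t))
    obtain ⟨m2, n2⟩ := hW0 _ _ (hx (j, t'))
    have h1 : M (x (i, t) • v' + d' (x (i, t)) - v') = M (x (j, t') • v' + d' (x (j, t')) - v') :=
      hext _ _ hij (n1.trans n2.symm)
    have h2 := hM0 _ (pr.ker.sub_mem m1 m2) (by rw [hMsub _ m1 _ m2, h1, sub_self])
    have h3 : x (i, t) = x (j, t') := by
      apply hinj
      have h4 := sub_eq_zero.1 h2
      exact sub_left_injective h4
    have h5 : X t = X t' := by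
      have h6 := hx (i, t)
      rw [h3, hx] at h6
      exact h6.symm
    have htt : t = t' := by
      obtain ⟨u, hu⟩ : ∃ u : U, e u = ![0, 1] := e.surjective _
      have h6 := hX0 t u
      have u0 : e u 0 = 0 := by rw [hu]; rfl
      have u1 : e u 1 = 1 := by rw [hu]; rfl
      rw [h5, hX0, u0, u1] at h6
      linear_combination -h6
    subst htt
    have h6 : (if i then a₀ else 1) = (if j then a₀ else 1) := mul_right_cancel h3
    have hij' : i = j := by
      cases i <;> cases j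
      · rfl
      · exact absurd h6.symm ha1
      · exact absurd h6 ha1
      · rfl
    rw [hij']
  have h1 := Fintype.card_le_of_injective Φ hΦ
  rw [Fintype.card_prod, Fintype.card_bool] at h1
  omega

end Cfsg.Agent.H383.Rg
end

-- part: H694/Rg/NatKill
section
/-!
# S3691, ALPHA-N: the natural linear groups with order dividing `C p^x (p^n - 1)`

`nat_kill` : `L` is `SL_F(U)`, `Sp_F(U)` or `G₂(F)` on `U`, `|U| = p ^ n`, `|L|` divides `C p^x (p^n - 1)` and
`(C + 1)^3 < p^n`: then `dim_F U = 2` and `L = SL_F(U)`.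
-/

set_option autoImplicit false

namespace Cfsg.Agent.H694.Rg

open Module Cfsg.Agent.H50.Her Cfsg.Agent.H667.HerFin

universe u

/-- the arithmetic -/
theorem arith {p n C x Q a b : ℕ} (hp : p.Prime) (hC0 : 0 < C) (hQ : 1 < Q) (hb : b ≠ 0) (ha : a ≠ 0)
    (hn : Q ^ a = p ^ n) (hab : a ≤ 3 * b) (hd : (Q ^ b - 1) * (Q ^ a - 1) ∣ C * p ^ x * (p ^ n - 1))
    (hC2 : (C + 1) ^ 3 < p ^ n) : False := by
  have h1 : 1 < Q ^ a := Nat.one_lt_pow ha hQ
  have h2 : 1 < Q ^ b := Nat.one_lt_pow hb hQ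
  rw [← hn] at hd hC2
  have h3 : Q ^ b - 1 ∣ C * p ^ x := Nat.dvd_of_mul_dvd_mul_right (by omega) hd
  have hpQ : p ∣ Q := by
    obtain ⟨c, -, hc⟩ := (Nat.dvd_prime_pow hp).1 (hn ▸ dvd_pow_self Q ha)
    rw [hc]
    refine dvd_pow_self p ?_
    rintro rfl
    rw [pow_zero] at hc
    omega
  have h4 : (Q ^ b - 1).Coprime p := by
    have h5 : (Q ^ b - 1).Coprime (Q ^ b) := by
      have h6 : Q ^ b = (Q ^ b - 1) + 1 := by omega
      conv_rhs => rw [h6]
      exact (Nat.coprime_self_add_right).2 (Nat.coprime_one_right _)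
    exact h5.coprime_dvd_right (hpQ.trans (dvd_pow_self Q hb))
  have h5 : Q ^ b - 1 ∣ C := (h4.pow_right x).dvd_of_dvd_mul_right h3
  have h6 := Nat.le_of_dvd hC0 h5
  have h7 : Q ^ b ≤ C + 1 := by omega
  have h8 : Q ^ a ≤ (C + 1) ^ 3 := by
    calc Q ^ a ≤ Q ^ (3 * b) := Nat.pow_le_pow_right (by omega) hab
      _ = (Q ^ b) ^ 3 := by rw [mul_comm, pow_mul]
      _ ≤ (C + 1) ^ 3 := Nat.pow_le_pow_left h7 3
  omega

/-- `(q^a - 1)(q^(a-1) - 1)` divides `|SL_a(q)|` for `a ≥ 3`. -/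
theorem dvd_sl {F : Type*} [Field F] [Fintype F] (k : ℕ) :
    (Fintype.card F ^ (k + 2) - 1) * (Fintype.card F ^ (k + 3) - 1) ∣
      Nat.card (Matrix.SpecialLinearGroup (Fin (k + 3)) F) := by
  have h := S0242.result (F := F) rfl (k + 3) (by omega)
  have hq : 1 < Fintype.card F := Fintype.one_lt_card
  generalize Fintype.card F = q at h hq ⊢
  rw [Fin.prod_univ_succ, Fin.prod_univ_succ, Fin.prod_univ_castSucc] at h
  simp only [Fin.val_zero, pow_zero, Fin.val_succ, zero_add, pow_one, Fin.val_last] at h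
  have e1 : q ^ (k + 3) - q = q * (q ^ (k + 2) - 1) := by
    rw [Nat.mul_sub, mul_one, ← pow_succ']
  have e2 : q ^ (k + 3) - q ^ (k + 1 + 1) = (q - 1) * q ^ (k + 2) := by
    rw [Nat.sub_mul, one_mul, ← pow_succ']
  rw [e1, e2] at h
  refine ⟨q * (∏ i : Fin k, (q ^ (k + 3) - q ^ ((i.castSucc : ℕ) + 1 + 1))) * q ^ (k + 2), ?_⟩
  apply Nat.eq_of_mul_eq_mul_left (show 0 < q - 1 by omega)
  rw [h]
  ring

/-- `(q^(2m-2) - 1)(q^(2m) - 1)` divides `|Sp_2m(q)|` for `m ≥ 2`. -/
theorem dvd_sp {F : Type*} [Field F] [Fintype F] (k : ℕ) :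
    (Fintype.card F ^ (2 * (k + 1)) - 1) * (Fintype.card F ^ (2 * (k + 2)) - 1) ∣
      Nat.card (Matrix.symplecticGroup (Fin (k + 2)) F) := by
  rw [S0245.result (F := F) rfl (k + 2), Finset.prod_range_succ, Finset.prod_range_succ]
  exact ⟨Fintype.card F ^ ((k + 2) ^ 2) * ∏ i ∈ Finset.range k, (Fintype.card F ^ (2 * (i + 1)) - 1), by ring⟩

section Two

variable {F V : Type*} [Field F] [AddCommGroup V] [Module F V]

/-- In dimension two an alternating form is multiplied by the determinant. -/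
theorem alt_det (h2 : finrank F V = 2) (f : LinearMap.BilinForm F V) (hf : f.IsAlt) (g : V →ₗ[F] V) (u v : V) :
    f (g u) (g v) = LinearMap.det g * f u v := by
  have : FiniteDimensional F V := FiniteDimensional.of_finrank_pos (by omega)
  let b : Basis (Fin 2) F V := finBasisOfFinrankEq F V h2
  set A := LinearMap.toMatrix b b g with hA
  have hdet : LinearMap.det g = A 0 0 * A 1 1 - A 0 1 * A 1 0 := by
    rw [← LinearMap.det_toMatrix b, ← hA, Matrix.det_fin_two]
  have hg : ∀ j, g (b j) = A 0 j • b 0 + A 1 j • b 1 := by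
    intro j
    have h := b.sum_repr (g (b j))
    rw [Fin.sum_univ_two] at h
    rw [hA, LinearMap.toMatrix_apply, LinearMap.toMatrix_apply]
    exact h.symm
  have h00 : ∀ w, f w w = 0 := fun w => hf w
  have h10 : f (b 1) (b 0) = - f (b 0) (b 1) := by
    rw [← hf.neg_eq]
  have hb : f (g (b 0)) (g (b 1)) = LinearMap.det g * f (b 0) (b 1) := by
    rw [hg, hg, hdet]
    simp only [map_add, map_smul, LinearMap.add_apply, LinearMap.smul_apply, smul_eq_mul, h00, h10]
    ring
  have hu : u = b.repr u 0 • b 0 + b.repr u 1 • b 1 := by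
    have h := b.sum_repr u
    rw [Fin.sum_univ_two] at h
    exact h.symm
  have hv : v = b.repr v 0 • b 0 + b.repr v 1 • b 1 := by
    have h := b.sum_repr v
    rw [Fin.sum_univ_two] at h
    exact h.symm
  have hb' : f (g (b 1)) (g (b 0)) = - (LinearMap.det g * f (b 0) (b 1)) := by
    rw [← hb, ← hf.neg_eq]
  rw [hu, hv]
  simp only [map_add, map_smul, LinearMap.add_apply, LinearMap.smul_apply, smul_eq_mul, h00, h10, hb, hb']
  ring

/-- In dimension two the isometries of a nondegenerate alternating form are the maps of determinant one. -/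
theorem det_iff (h2 : finrank F V = 2) (f : LinearMap.BilinForm F V) (hf : f.IsAlt) (hn : f.Nondegenerate)
    (g : V ≃ₗ[F] V) : LinearEquiv.det g = 1 ↔ ∀ u v, f (g u) (g v) = f u v := by
  have : FiniteDimensional F V := FiniteDimensional.of_finrank_pos (by omega)
  have hd : LinearEquiv.det g = 1 ↔ LinearMap.det (g : V →ₗ[F] V) = 1 := by
    rw [← Units.val_eq_one, LinearEquiv.coe_det]
  rw [hd]
  constructor
  · intro h u v
    have h1 := alt_det h2 f hf (g : V →ₗ[F] V) u v
    rw [h, one_mul] at h1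
    exact h1
  · intro h
    have hex : ∃ u v, f u v ≠ 0 := by
      by_contra hcon
      push Not at hcon
      have : Nontrivial V := Module.nontrivial_of_finrank_pos (R := F) (by omega)
      obtain ⟨u, hu⟩ := exists_ne (0 : V)
      exact hu (hn.1 u fun v => hcon u v)
    obtain ⟨u, v, huv⟩ := hex
    have h1 := alt_det h2 f hf (g : V →ₗ[F] V) u v
    have h3 : f ((g : V →ₗ[F] V) u) ((g : V →ₗ[F] V) v) = f u v := h u v
    rw [h3] at h1
    exact (mul_eq_right₀ huv).1 h1.symm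

end Two

theorem nat_kill {p n : ℕ} [Fact p.Prime] {U : Type u} [AddCommGroup U] [Module (ZMod p) U] [Finite U] [Nontrivial U]
    (hU : Nat.card U = p ^ n) (L : Subgroup (U ≃ₗ[ZMod p] U)) (h : NatAct L) (C x : ℕ) (hC0 : 0 < C)
    (hC : Nat.card L ∣ C * p ^ x * (p ^ n - 1)) (hC2 : (C + 1) ^ 3 < p ^ n) :
    ∃ (F : Type) (_ : Field F) (_ : Fintype F) (_ : Module F U), Module.finrank F U = 2 ∧
      (∀ g ∈ L, ∀ (c : F) (v : U), g (c • v) = c • g v) ∧
      (∀ g : U ≃ₗ[F] U, LinearEquiv.det g = 1 ↔ ∃ h ∈ L, ∀ v, h v = g v) := by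
  classical
  have hp : p.Prime := Fact.out
  obtain ⟨F, iF, iF', iM, h2, hlin, hend, hcase⟩ := h
  have : Module.Finite F U := Module.Finite.of_finite
  have hcard : Fintype.card F ^ finrank F U = p ^ n := by
    rw [← hU, Module.natCard_eq_pow_finrank (K := F) (V := U), Nat.card_eq_fintype_card]
  have hQ : 1 < Fintype.card F := Fintype.one_lt_card
  let ρ : L →* (U ≃ₗ[F] U) :=
    { toFun := fun l => { (l : U ≃ₗ[ZMod p] U).toAddEquiv with map_smul' := fun c v => hlin l l.2 c v }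
      map_one' := by ext v; rfl
      map_mul' := fun x y => by ext v; rfl }
  have hρi : Function.Injective ρ := by
    intro x y hxy
    apply Subtype.ext
    ext v
    exact DFunLike.congr_fun hxy v
  have hex' : ∀ g : U ≃ₗ[F] U, (∃ h ∈ L, ∀ v, h v = g v) ↔ ∃ x, ρ x = g := by
    intro g
    constructor
    · rintro ⟨h, hh, hv⟩
      exact ⟨⟨h, hh⟩, by ext v; exact hv v⟩
    · rintro ⟨x, rfl⟩
      exact ⟨x, x.2, fun v => rfl⟩
  rcases hcase with h | ⟨f, hf, hfn, h⟩ | ⟨hp2, h6, h4, ⟨eL⟩, -⟩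
  · obtain ⟨eL⟩ := exists_sl ρ hρi fun g => (h g).trans (hex' g)
    obtain h3 | h3 : finrank F U = 2 ∨ 3 ≤ finrank F U := by omega
    · exact ⟨F, iF, iF', iM, h3, hlin, h⟩
    · exfalso
      obtain ⟨k, hk⟩ : ∃ k, finrank F U = k + 3 := ⟨finrank F U - 3, by omega⟩
      rw [Nat.card_congr eL.toEquiv, hk] at hC
      rw [hk] at hcard
      exact arith (b := k + 2) hp hC0 hQ (by omega) (by omega) hcard (by omega) ((dvd_sl k).trans hC) hC2
  · obtain ⟨m, hm, ⟨eL⟩⟩ := exists_sp ρ hρi f hf hfn fun g => (h g).trans (hex' g)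
    obtain h3 | h3 : m = 1 ∨ 2 ≤ m := by omega
    · subst h3
      exact ⟨F, iF, iF', iM, hm, hlin, fun g => (det_iff hm f hf hfn g).trans (h g)⟩
    · exfalso
      obtain ⟨k, rfl⟩ : ∃ k, m = k + 2 := ⟨m - 2, by omega⟩
      rw [Nat.card_congr eL.toEquiv] at hC
      rw [hm] at hcard
      exact arith (b := 2 * (k + 1)) hp hC0 hQ (by omega) (by omega) hcard (by omega) ((dvd_sp k).trans hC) hC2
  · exfalso
    rw [Nat.card_congr eL.toEquiv] at hC
    rw [h6] at hcard
    refine arith (b := 2) hp hC0 hQ (by omega) (by omega) hcard (by omega) (Dvd.dvd.trans ?_ hC) hC2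
    rw [S1059.result (F := F) rfl]
    exact ⟨Fintype.card F ^ 6, by ring⟩

end Cfsg.Agent.H694.Rg
end

-- part: H386/Rg/Alpha
section
/-!
# S3691, residual cases (alpha) (helper386)

`alpha` : the configuration `O_p(K) ≠ 1` of the residual cases is impossible.
-/

set_option autoImplicit false

namespace Cfsg.Agent.H386.Rg

open Module Cfsg.Agent.H50.Her Cfsg.Agent.H667.HerFin

universe u

/-- a perfect subgroup lies in every term of the derived series -/
theorem le_of_perfect {X : Type*} [Group X] {Γ L R : Subgroup X} (hL : L ≤ Γ) (hp : ⁅L, L⁆ = L)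
    (hder : ∃ k, (derivedSeries Γ k).map Γ.subtype ≤ R) : L ≤ R := by
  obtain ⟨k, hk⟩ := hder
  refine le_trans ?_ hk
  clear hk
  induction k with
  | zero =>
    rw [derivedSeries_zero, ← MonoidHom.range_eq_map, Subgroup.range_subtype]
    exact hL
  | succ k ih =>
    rw [derivedSeries_succ, Subgroup.map_commutator]
    calc L = ⁅L, L⁆ := hp.symm
      _ ≤ _ := Subgroup.commutator_mono ih ih

/-- the small linear groups are excluded by the size of `U` -/
theorem dim_kill {p n d : ℕ} (hp : p.Prime) (hd : p ^ d = p ^ n) (hbig : 2 ^ 50 ≤ p ^ n) :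
    ¬ ((p = 3 ∧ d = 2) ∨ (d = 2 ∧ p ≤ 59) ∨ (d = 4 ∧ p = 3) ∨ (p = 2 ∧ d ≤ 6) ∨ (p = 3 ∧ d = 6)) := by
  rw [← hd] at hbig
  rintro (⟨rfl, rfl⟩ | ⟨rfl, h⟩ | ⟨rfl, rfl⟩ | ⟨rfl, h⟩ | ⟨rfl, rfl⟩)
  · norm_num at hbig
  · have := Nat.pow_le_pow_left h 2
    norm_num at this hbig
    omega
  · norm_num at hbig
  · have := Nat.pow_le_pow_right (n := 2) (by norm_num) h
    norm_num at this hbig
    omega
  · norm_num at hbig

theorem zmod_two (z : ZMod 2) : z = 0 ∨ z = 1 := by
  revert z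
  decide

/-- the prime `r` divides `p ^ n - 1` -/
theorem dvd_of_ord {p r n : ℕ} (hp : 0 < p) (hrn : orderOf (p : ZMod r) = n) : r ∣ p ^ n - 1 := by
  rw [← ZMod.natCast_eq_zero_iff, Nat.cast_sub (Nat.one_le_pow _ _ hp), Nat.cast_pow, Nat.cast_one, ← hrn,
    pow_orderOf_eq_one, sub_self]

/-- the order of `SL_2(F)` -/
theorem card_sl2 {F : Type*} [Field F] [Fintype F] :
    Nat.card (Matrix.SpecialLinearGroup (Fin 2) F) = Fintype.card F * (Fintype.card F ^ 2 - 1) := by
  have h := S0242.result (F := F) rfl 2 (by norm_num)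
  have hq : 1 < Fintype.card F := Fintype.one_lt_card
  generalize Fintype.card F = q at h hq ⊢
  rw [Fin.prod_univ_two] at h
  simp only [Fin.val_zero, pow_zero, Fin.val_one, pow_one] at h
  have e1 : q ^ 2 - q = (q - 1) * q := by rw [Nat.sub_mul, one_mul, pow_two]
  rw [e1] at h
  apply Nat.eq_of_mul_eq_mul_left (show 0 < q - 1 by omega)
  rw [h]
  ring

/-- **(alpha)**, abstract form -/
theorem alpha (hMain : Main.{u}) {p n : ℕ} [Fact p.Prime] {V : Type*} [AddCommGroup V] [Finite V] (hV : ∀ v : V, p • v = 0)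
    {U : Type u} [AddCommGroup U] [Module (ZMod p) U] [Finite U] (hU : Nat.card U = p ^ n) (hbig : 2 ^ 50 ≤ p ^ n)
    {D : Type*} [Group D] [Finite D] [DistribMulAction D V] (pr : V →+ U) (hpr : Function.Surjective pr)
    (τ : D →* (U ≃ₗ[ZMod p] U)) (hτ : ∀ (x : D) (v : V), pr (x • v) = τ x (pr v)) (hker : Nat.card pr.ker = Nat.card U)
    (hAp : IsPGroup p τ.ker) (hAtriv : ∀ a ∈ τ.ker, ∀ w ∈ pr.ker, a • w = w)
    (hAfix : ∀ a ∈ τ.ker, a ≠ 1 → ∀ v : V, a • v = v → v ∈ pr.ker) (hAne : τ.ker ≠ ⊥) (hAlt : Nat.card τ.ker < p ^ n)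
    (Γ : Subgroup (U ≃ₗ[ZMod p] U)) (htr : ∀ v w : U, v ≠ 0 → w ≠ 0 → ∃ g ∈ Γ, g v = w)
    (hder : ∃ k, (derivedSeries Γ k).map Γ.subtype ≤ τ.range)
    {Z : Type*} [AddCommGroup Z] (ε : Z →+ Z) (β : V →+ V →+ Z) (hβD : ∀ (x : D) (u v : V), β (x • u) (x • v) = β u v)
    (hβn : ∀ u : V, (∀ w ∈ pr.ker, β u w = 0) → u ∈ pr.ker)
    (hβA : ∀ a ∈ τ.ker, ∀ u v : V, β u (a • v - v) = ε (β v (a • u - u)))
    (C x : ℕ) (hC0 : 0 < C) (hC : Nat.card D ∣ C * p ^ x * (p ^ n - 1)) (hC2 : (C + 1) ^ 3 < p ^ n)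
    (hΓp : n ^ 2 * p ^ n < (Nat.card τ.ker * p ^ (Nat.card Γ).factorization p) ^ 2)
    {r : ℕ} (hr : r.Prime) (hrn : orderOf (p : ZMod r) = n) (hrD : r ∣ Nat.card D)
    (d : D → V) (hd : ∀ x, d x ∈ pr.ker) (hdc : ∀ x y : D, d (x * y) = d x + x • d y)
    (hfree : ∀ u : U, u ≠ 0 → ∃ v : V, pr v = u ∧ ∀ x : D, x • v + d x = v → x = 1) : False := by
  classical
  have hp : p.Prime := Fact.out
  have := Fact.mk hr
  have hn : 0 < n := by
    rcases Nat.eq_zero_or_pos n with h | h
    · rw [h, pow_zero] at hbig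
      norm_num at hbig
    · exact h
  have hS : Sit p n pr τ := ⟨hV, hU, hn, hpr, hτ, hker, hAp, hAtriv, hAfix, hAlt⟩
  obtain ⟨a₀, ha₀, ha₁⟩ : ∃ a ∈ τ.ker, a ≠ 1 := by
    by_contra hcon
    push Not at hcon
    exact hAne ((Subgroup.eq_bot_iff_forall _).2 hcon)
  have hpA : p ∣ Nat.card τ.ker := by
    obtain ⟨k, hk⟩ := IsPGroup.iff_card.1 hAp
    rcases Nat.eq_zero_or_pos k with h | h
    · rw [h, pow_zero] at hk
      exact absurd (Subgroup.card_eq_one.1 hk) hAne
    · rw [hk]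
      exact dvd_pow_self p h.ne'
  have hn2 : 2 ≤ n := by
    by_contra hcon
    have h1 : n = 1 := by omega
    rw [h1, pow_one] at hAlt
    have h2 := Nat.le_of_dvd Nat.card_pos hpA
    omega
  have hrp : r ≠ p := ne_of_ord hr hrn hn
  have hr2 : r ≠ 2 := by
    rintro rfl
    rcases zmod_two (p : ZMod 2) with h2 | h2
    · rw [ZMod.natCast_eq_zero_iff] at h2
      exact hrp ((Nat.prime_dvd_prime_iff_eq hr hp).1 h2)
    · rw [h2, orderOf_one] at hrn
      omega
  obtain ⟨y, hy⟩ := exists_prime_orderOf_dvd_card' r hrD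
  have hsq := hS.sq_le hr hrn hr2 hy ε β hβD hβn hβA
  have hUnt : Nontrivial U := by
    obtain ⟨v, hv⟩ := hS.exists_not_mem
    exact ⟨⟨pr v, 0, hv⟩⟩
  have hfr : p ^ finrank (ZMod p) U = p ^ n := by
    rw [← hU, Module.natCard_eq_pow_finrank (K := ZMod p) (V := U), Nat.card_zmod]
  obtain ⟨A, -, hA, h⟩ := hMain p U Γ ⊥ htr bot_le (by
      intro g _ m hm
      rw [Subgroup.mem_bot] at hm ⊢
      rw [hm, mul_one, mul_inv_cancel]) (by
      intro a ha b hb
      rw [Subgroup.mem_bot] at ha hb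
      rw [ha, hb])
  rcases h with h | h | ⟨L, b, hL, hq, -, -, h | h⟩
  · -- a group of semilinear maps
    have h1 := Cfsg.Agent.H72.Rg.semi_bound hU Γ h
    have h2 : (Nat.card τ.ker * p ^ (Nat.card Γ).factorization p) ^ 2 ≤ n ^ 2 * p ^ n := by
      rw [mul_pow, mul_comm]
      exact Nat.mul_le_mul (Nat.pow_le_pow_left h1 2) hsq
    omega
  · exact dim_kill hp hfr hbig (by
      rcases h with ⟨h1, h2, -⟩ | ⟨h1, h2, -⟩ | ⟨h1, h2, -⟩
      · exact Or.inl ⟨h1, h2⟩
      · exact Or.inr (Or.inl ⟨h1, by omega⟩)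
      · exact Or.inr (Or.inr (Or.inl ⟨h1, h2⟩)))
  · -- the natural case
    have hLr : L ≤ τ.range := le_of_perfect hL.le hL.perf hder
    have hLc : Nat.card L ∣ C * p ^ x * (p ^ n - 1) :=
      ((Subgroup.card_dvd_of_le hLr).trans (Subgroup.card_range_dvd τ)).trans hC
    obtain ⟨F, iF, iF', iM, hF2, hFL, hFdet⟩ := Cfsg.Agent.H694.Rg.nat_kill hU L h C x hC0 hLc hC2
    have : Module.Finite F U := Module.Finite.of_finite
    have hcF : Fintype.card F ^ 2 = p ^ n := by
      rw [← hU, Module.natCard_eq_pow_finrank (K := F) (V := U), Nat.card_eq_fintype_card, hF2]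
    obtain ⟨c, -, hc⟩ := (Nat.dvd_prime_pow hp).1 (hcF ▸ dvd_pow_self (Fintype.card F) two_ne_zero)
    have h16 : 16 ≤ Fintype.card F := by
      by_contra hcon
      have h1 : Fintype.card F ≤ 15 := by omega
      have h2 := Nat.pow_le_pow_left h1 2
      rw [hcF] at h2
      norm_num at hbig h2
      omega
    let ρ : L →* (U ≃ₗ[F] U) :=
      { toFun := fun l => { (l : U ≃ₗ[ZMod p] U).toAddEquiv with map_smul' := fun c v => hFL l l.2 c v }
        map_one' := by ext v; rfl
        map_mul' := fun x y => by ext v; rfl }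
    have hρi : Function.Injective ρ := by
      intro x y hxy
      apply Subtype.ext
      ext v
      exact DFunLike.congr_fun hxy v
    have hex' : ∀ g : U ≃ₗ[F] U, (∃ h ∈ L, ∀ v, h v = g v) ↔ ∃ x, ρ x = g := by
      intro g
      constructor
      · rintro ⟨h, hh, hv⟩
        exact ⟨⟨h, hh⟩, by ext v; exact hv v⟩
      · rintro ⟨x, rfl⟩
        exact ⟨x, x.2, fun v => rfl⟩
    obtain ⟨eL⟩ := exists_sl ρ hρi fun g => (hFdet g).trans (hex' g)
    have hrL : r ∣ Nat.card L := by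
      rw [Nat.card_congr eL.toEquiv, hF2, card_sl2, hcF]
      exact (dvd_of_ord hp.pos hrn).mul_left _
    -- the centraliser of `A` covers `L`
    have hcent : ∀ a ∈ τ.ker, ∀ x ∈ L.comap τ, a * x = x * a := by
      set M : Subgroup (U ≃ₗ[ZMod p] U) := (Subgroup.centralizer (τ.ker : Set D) ⊓ L.comap τ).map τ with hM
      have hML : M ≤ L := by
        rintro _ ⟨m, hm, rfl⟩
        exact hm.2
      have hMn : Nor L M := by
        rintro g hg _ ⟨m, ⟨hm1, hm2⟩, rfl⟩
        obtain ⟨g', rfl⟩ := hLr hg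
        have hm1' : m ∈ Subgroup.centralizer (τ.ker : Set D) := hm1
        refine ⟨g' * m * g'⁻¹, Subgroup.mem_inf.2 ⟨?_, ?_⟩, by rw [map_mul, map_mul, map_inv]⟩
        · rw [Subgroup.mem_centralizer_iff] at hm1' ⊢
          intro a ha
          have h1 := hm1' (g'⁻¹ * a * g') (by
            have := (MonoidHom.normal_ker τ).conj_mem a ha g'⁻¹
            rwa [inv_inv] at this)
          calc a * (g' * m * g'⁻¹) = g' * ((g'⁻¹ * a * g') * m) * g'⁻¹ := by group
            _ = g' * (m * (g'⁻¹ * a * g')) * g'⁻¹ := by rw [h1]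
            _ = g' * m * g'⁻¹ * a := by group
        · rw [Subgroup.mem_comap, map_mul, map_mul, map_inv]
          exact L.mul_mem (L.mul_mem hg hm2) (L.inv_mem hg)
      -- an element of order `r` in `L`, lifted
      have hfin : Finite (U ≃ₗ[ZMod p] U) := Finite.of_injective (fun g => g.toEquiv) fun g h e => LinearEquiv.toEquiv_injective e
      obtain ⟨z, hz⟩ := exists_prime_orderOf_dvd_card' r hrL
      obtain ⟨z', hz'⟩ := hLr z.2
      obtain ⟨k, hk⟩ : ∃ k, (z' ^ r) ^ p ^ k = 1 := by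
        have h1 : z' ^ r ∈ τ.ker := by
          rw [MonoidHom.mem_ker, map_pow, hz', ← SubmonoidClass.coe_pow, ← hz, pow_orderOf_eq_one]; rfl
        obtain ⟨k, hk⟩ := hAp ⟨z' ^ r, h1⟩
        exact ⟨k, congrArg Subtype.val hk⟩
      have hzr : (z' ^ p ^ k) ^ r = 1 := by rw [← pow_mul, mul_comm, pow_mul, hk]
      have hzc : z' ^ p ^ k ∈ Subgroup.centralizer (τ.ker : Set D) := by
        rw [Subgroup.mem_centralizer_iff]
        intro a ha
        exact (hS.comm_of_pow hr hrn hzr ha).symm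
      have hzM : (z : U ≃ₗ[ZMod p] U) ^ p ^ k ∈ M := by
        refine ⟨z' ^ p ^ k, Subgroup.mem_inf.2 ⟨hzc, ?_⟩, by rw [map_pow, hz']⟩
        rw [Subgroup.mem_comap, map_pow, hz']
        exact L.pow_mem z.2 _
      have hzM' : (z : U ≃ₗ[ZMod p] U) ∈ M := by
        have h1 : (orderOf (z : U ≃ₗ[ZMod p] U)).Coprime (p ^ k) := by
          rw [Subgroup.orderOf_coe, hz]
          exact ((Nat.coprime_primes hr hp).2 hrp).pow_right k
        have h2 := Subgroup.zpowers_le.2 hzM
        have h3 : (z : U ≃ₗ[ZMod p] U) ∈ Subgroup.zpowers ((z : U ≃ₗ[ZMod p] U) ^ p ^ k) := by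
          obtain ⟨m, hm⟩ := exists_pow_eq_self_of_coprime h1.symm
          exact ⟨m, by simpa using hm⟩
        exact h2 h3
      rcases hq M hML hMn with h1 | h1
      · -- `M = L`
        intro a ha x hx
        have h2 : τ x ∈ M := by rw [h1]; exact hx
        obtain ⟨m, ⟨hm1, -⟩, hm2⟩ := h2
        have h3 : m⁻¹ * x ∈ τ.ker := by rw [MonoidHom.mem_ker, map_mul, map_inv, hm2, inv_mul_cancel]
        have h4 := hS.comm ha h3
        have h5 := (Subgroup.mem_centralizer_iff.1 hm1) a ha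
        calc a * x = (a * m) * (m⁻¹ * x) := by group
          _ = m * (a * (m⁻¹ * x)) := by rw [h5, mul_assoc]
          _ = x * a := by rw [h4]; group
      · exfalso
        -- `z` is central in `L`
        have h2 : (z : U ≃ₗ[ZMod p] U) ∈ A := h1 hzM'
        have h3 : ∀ l ∈ L, l * (z : U ≃ₗ[ZMod p] U) = z * l := by
          intro l hl
          exact ((Subgroup.mem_centralizer_iff.1 (hL.L_le hl)) _ h2).symm
        have h4 : z ∈ Subgroup.center L := by
          rw [Subgroup.mem_center_iff]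
          intro l
          exact Subtype.ext (h3 l l.2)
        have h5 : eL z ∈ Subgroup.center (Matrix.SpecialLinearGroup (Fin (finrank F U)) F) := by
          rw [Subgroup.mem_center_iff]
          intro g
          obtain ⟨l, rfl⟩ := eL.surjective g
          rw [← map_mul, ← map_mul, (Subgroup.mem_center_iff.1 h4) l]
        have h6 : (eL z) ^ 2 = 1 := by
          rw [Matrix.SpecialLinearGroup.mem_center_iff] at h5
          obtain ⟨c, hc1, hc2⟩ := h5
          rw [Fintype.card_fin, hF2] at hc1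
          apply Subtype.ext
          rw [Matrix.SpecialLinearGroup.coe_pow, ← hc2, ← map_pow, hc1, map_one]
          rfl
        have h7 : z ^ 2 = 1 := eL.injective (by rw [map_pow, h6, map_one])
        have h8 := orderOf_dvd_of_pow_eq_one h7
        rw [hz] at h8
        exact hr2 ((Nat.prime_dvd_prime_iff_eq hr Nat.prime_two).1 h8)
    -- the final step
    let pL : L.comap τ →* L := (τ.comp (L.comap τ).subtype).codRestrict L fun x => x.2
    have hker' : (ρ.comp pL).ker.map (L.comap τ).subtype = τ.ker := by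
      ext a
      constructor
      · rintro ⟨x, hx, rfl⟩
        have h1 : pL x = 1 := hρi (by rw [map_one]; exact hx)
        exact congrArg Subtype.val h1
      · intro ha
        have h1 : a ∈ L.comap τ := by
          rw [Subgroup.mem_comap, MonoidHom.mem_ker.1 ha]
          exact L.one_mem
        refine ⟨⟨a, h1⟩, ?_, rfl⟩
        change ρ (pL ⟨a, h1⟩) = 1
        have h2 : pL ⟨a, h1⟩ = 1 := Subtype.ext ha
        rw [h2, map_one]
    have hmem : ∀ x : L.comap τ, x ∈ (ρ.comp pL).ker → (x : D) ∈ τ.ker := by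
      intro x hx
      rw [← hker']
      exact ⟨x, hx, rfl⟩
    refine Cfsg.Agent.H383.Rg.fin (p := p) (b := c) (F := F) hc h16 (V := V) (U := U) (D := L.comap τ) hV hF2 pr hpr
      (ρ.comp pL) (fun x v => hτ x v) (fun x => (hFdet _).2 ⟨τ x, x.2, fun v => rfl⟩) ?_ hker ?_
      (fun a ha w hw => hAtriv a (hmem a ha) w hw)
      (fun a ha x => Subtype.ext (hcent a (hmem a ha) x x.2)) ⟨a₀, by
        rw [Subgroup.mem_comap, MonoidHom.mem_ker.1 ha₀]
        exact L.one_mem⟩ ?_ (fun v hv => hAfix a₀ ha₀ ha₁ v hv) (fun x => d x) (fun x => hd x) (fun x y => hdc x y) ?_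
    · intro g hg
      obtain ⟨h, hh, hv⟩ := (hFdet g).1 hg
      obtain ⟨x, hx⟩ := hLr hh
      refine ⟨⟨x, by rw [Subgroup.mem_comap, hx]; exact hh⟩, ?_⟩
      ext v
      change τ x v = g v
      rw [hx, hv]
    · intro a
      obtain ⟨k, hk⟩ := hAp ⟨a.1, hmem a.1 a.2⟩
      refine ⟨k, ?_⟩
      apply Subtype.ext
      apply Subtype.ext
      have h1 := congrArg Subtype.val hk
      simpa only [_root_.SubmonoidClass.coe_pow, _root_.OneMemClass.coe_one, _root_.SubmonoidClass.mk_pow] using h1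
    · have h1 : a₀ ∈ (ρ.comp pL).ker.map (L.comap τ).subtype := by rw [hker']; exact ha₀
      obtain ⟨x, hx, hxa⟩ := h1
      have h2 : x = ⟨a₀, by
        rw [Subgroup.mem_comap, MonoidHom.mem_ker.1 ha₀]
        exact L.one_mem⟩ := Subtype.ext hxa
      rw [← h2]
      exact hx
    · intro u hu
      obtain ⟨v, hv, hx⟩ := hfree u hu
      exact ⟨v, hv, fun x h1 => Subtype.ext (hx x h1)⟩
  · exact dim_kill hp hfr hbig (by
      rcases h with ⟨⟨h1, h2⟩ | ⟨h1, h2⟩, -⟩ | ⟨h1, h2, -⟩ | ⟨h1, h2, -⟩ | ⟨h1, h2, -⟩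
      · exact Or.inr (Or.inl ⟨h1, by omega⟩)
      · exact Or.inr (Or.inr (Or.inl ⟨h1, h2⟩))
      · exact Or.inr (Or.inr (Or.inr (Or.inl ⟨h1, by omega⟩)))
      · exact Or.inr (Or.inr (Or.inr (Or.inr ⟨h1, h2⟩)))
      · exact Or.inr (Or.inr (Or.inr (Or.inl ⟨h1, by omega⟩))))

end Cfsg.Agent.H386.Rg
end
end

-- part: H383/Rg/CMinus_mg
section
prune_inst 0x702004420000000000001060000010600001000000000000000d040808204000000800088000000020008000010000001000000000000000000000000400000000000000000000000000000000000000000000000000000000000000000000000000000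
set_option linter.all false
open scoped Cfsg.Agent.FastGrp

-- part: H383/Rg/Forms
section
/-!
# S3691, case C-: quadratic forms polarising to an alternating form, characteristic 2 (helper383)

* `IsQ f q`, `sh f q v` : the forms `q` and `q + f(v, .)²`; `exists_sh`
* `tv` : transvections; `same_type` : `sh f q v` and `sh f q v'` are conjugate under a transvection if the traces of `q v`, `q v'` are equal
-/

set_option autoImplicit false
set_option linter.unusedSectionVars false

namespace Cfsg.Agent.H383.Rg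

open Module QuadraticMap
open Cfsg.Agent.LieClassical.OrthCore Cfsg.Agent.LieClassical.OrthTrans
open Cfsg.Agent.BpCl (Iso)
open Cfsg.Agent.H934.ArfO (T T_eq_zero T_sq exists_T_one)

section

variable {F V : Type*} [Field F] [Finite F] [CharP F 2] [AddCommGroup V] [Module F V]
  {f : LinearMap.BilinForm F V}

/-- `q` is a quadratic form polarising to `f` -/
structure IsQ (f : LinearMap.BilinForm F V) (q : V → F) : Prop where
  add : ∀ x y, q (x + y) = q x + q y + f x y
  smul : ∀ (a : F) x, q (a • x) = a ^ 2 * q x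

theorem add_self' (x : F) : x + x = 0 := CharTwo.add_self_eq_zero x

variable (F) in
include F in
theorem vadd_self (x : V) : x + x = 0 := by
  have h : (2 : F) • x = x + x := two_smul F x
  rw [← h, CharTwo.two_eq_zero, zero_smul]

theorem sq_add (a b : F) : (a + b) ^ 2 = a ^ 2 + b ^ 2 := CharTwo.add_sq a b

/-- `q + f(v, .)²` -/
def sh (f : LinearMap.BilinForm F V) (q : V → F) (v : V) : V → F := fun x => q x + f v x ^ 2

theorem sh_apply (q : V → F) (v x : V) : sh f q v x = q x + f v x ^ 2 := rfl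

theorem IsQ.sh {q : V → F} (hq : IsQ f q) (v : V) : IsQ f (sh f q v) := by
  refine ⟨fun x y => ?_, fun a x => ?_⟩
  · rw [sh_apply, sh_apply, sh_apply, hq.add, map_add, sq_add]
    ring
  · rw [sh_apply, sh_apply, hq.smul, map_smul, smul_eq_mul]
    ring

theorem sh_sh (q : V → F) (v w : V) : Rg.sh f (Rg.sh f q v) w = Rg.sh f q (v + w) := by
  funext x
  rw [sh_apply, sh_apply, sh_apply, map_add, LinearMap.add_apply, sq_add]
  ring

theorem sh_zero (q : V → F) : Rg.sh f q 0 = q := by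
  funext x
  rw [sh_apply, map_zero, LinearMap.zero_apply]
  ring

theorem sh_inj (hnd : ∀ u, (∀ v, f u v = 0) → u = 0) {q : V → F} {v w : V} (h : Rg.sh f q v = Rg.sh f q w) : v = w := by
  rw [← sub_eq_zero]
  apply hnd
  intro x
  have h1 := congrFun h x
  rw [sh_apply, sh_apply] at h1
  have h2 : (f v x + f w x) ^ 2 = 0 := by
    rw [sq_add]
    have : f v x ^ 2 = f w x ^ 2 := add_left_cancel h1
    rw [this, add_self']
  have h3 := pow_eq_zero_iff (two_ne_zero) |>.1 h2
  rw [map_sub, LinearMap.sub_apply, CharTwo.sub_eq_add, h3]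

theorem IsQ.zero {q : V → F} (hq : IsQ f q) : q 0 = 0 := by
  have := hq.smul 0 0
  rw [zero_smul] at this
  rw [this]
  ring

theorem IsQ.symm {q : V → F} (hq : IsQ f q) (x y : V) : f x y = f y x := by
  have h1 := hq.add x y
  have h2 := hq.add y x
  rw [add_comm y x, h1] at h2
  linear_combination h2

theorem IsQ.self {q : V → F} (hq : IsQ f q) (x : V) : f x x = 0 := by
  have h1 := hq.add x x
  rw [vadd_self F, hq.zero, add_self', zero_add] at h1
  exact h1.symm

/-- the difference of two forms -/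
theorem exists_sh [FiniteDimensional F V] (hnd : ∀ u, (∀ v, f u v = 0) → u = 0) {q q' : V → F} (hq : IsQ f q)
    (hq' : IsQ f q') : ∃ v, q' = Rg.sh f q v := by
  have hperf : Function.Bijective (fun a : F => a ^ 2) := by
    rw [← Finite.injective_iff_bijective]
    intro a b hab
    have h1 : (a + b) ^ 2 = 0 := by
      rw [sq_add, show a ^ 2 = b ^ 2 from hab, add_self']
    have h2 := pow_eq_zero_iff (two_ne_zero) |>.1 h1
    exact (CharTwo.add_eq_zero).1 h2
  obtain ⟨s, hs⟩ : ∃ s : F → F, ∀ a, s a ^ 2 = a := by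
    choose s hs using hperf.2
    exact ⟨s, hs⟩
  have hinj := hperf.1
  let l : V →ₗ[F] F :=
    { toFun := fun x => s (q x + q' x)
      map_add' := fun x y => by
        apply hinj
        change s _ ^ 2 = (s _ + s _) ^ 2
        rw [sq_add, hs, hs, hs, hq.add, hq'.add]
        have := add_self' (f x y)
        linear_combination this
      map_smul' := fun a x => by
        apply hinj
        change s _ ^ 2 = (a * s _) ^ 2
        rw [mul_pow, hs, hs, hq.smul, hq'.smul]
        ring }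
  obtain ⟨v, hv⟩ := (LinearMap.injective_iff_surjective_of_finrank_eq_finrank
    (f := (f : V →ₗ[F] Module.Dual F V)) (by exact (Subspace.dual_finrank_eq).symm)).1 (by
      intro u w huw
      rw [← sub_eq_zero]
      apply hnd
      intro y
      rw [map_sub, huw, sub_self, LinearMap.zero_apply]) l
  refine ⟨v, ?_⟩
  funext x
  have h1 : f v x = s (q x + q' x) := LinearMap.congr_fun hv x
  rw [sh_apply, h1, hs]
  have := add_self' (q x)
  linear_combination -this

/-! ### transvections -/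

/-- the transvection `x ↦ x + c f(v, x) v` -/
def tv (hA : ∀ v, f v v = 0) (v : V) (c : F) : V ≃ₗ[F] V :=
  LinearEquiv.ofLinearMap (LinearMap.id + (c • f v).smulRight v) (LinearMap.id + (c • f v).smulRight v)
    (by
      ext x
      change (x + (c * f v x) • v) + (c * f v (x + (c * f v x) • v)) • v = x
      rw [map_add, map_smul, hA, smul_zero, add_zero, add_assoc, vadd_self F, add_zero])
    (by
      ext x
      change (x + (c * f v x) • v) + (c * f v (x + (c * f v x) • v)) • v = x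
      rw [map_add, map_smul, hA, smul_zero, add_zero, add_assoc, vadd_self F, add_zero])

theorem tv_apply (hA : ∀ v, f v v = 0) (v : V) (c : F) (x : V) : tv hA v c x = x + (c * f v x) • v := rfl

theorem symm_of_alt (hA : ∀ v, f v v = 0) (x y : V) : f x y = f y x := by
  have h := hA (x + y)
  have h1 : f x y + f y x = 0 := by
    rw [map_add, LinearMap.map_add₂, LinearMap.map_add₂, hA, hA, zero_add, add_zero] at h
    rw [add_comm]
    exact h
  exact CharTwo.add_eq_zero.1 h1

theorem tv_mem (hA : ∀ v, f v v = 0) (v : V) (c : F) : tv hA v c ∈ Iso (fun x y => f x y) := by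
  intro x y
  change f (tv hA v c x) (tv hA v c y) = f x y
  rw [tv_apply, tv_apply, map_add, map_add, LinearMap.add_apply, LinearMap.add_apply, map_smul, map_smul,
    map_smul, LinearMap.smul_apply, LinearMap.smul_apply, hA, symm_of_alt hA x v, smul_zero, smul_zero, add_zero,
    smul_eq_mul, smul_eq_mul]
  have := add_self' (c * f v x * f v y)
  linear_combination this

theorem tv_q (hA : ∀ v, f v v = 0) {q : V → F} (hq : IsQ f q) (v : V) (c : F) (x : V) :
    q (tv hA v c x) = q x + (c + c ^ 2 * q v) * f v x ^ 2 := by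
  rw [tv_apply, hq.add, hq.smul, map_smul, smul_eq_mul, symm_of_alt hA x v]
  ring

/-- `sh f q v` is conjugate to `q` if the trace of `q v` is zero -/
theorem exists_tv (hA : ∀ v, f v v = 0) {q : V → F} (hq : IsQ f q) {v : V} (h : T (q v) = 0) :
    ∃ c : F, ∀ x, q (tv hA v c x) = Rg.sh f q v x := by
  obtain ⟨s, hs⟩ := T_eq_zero.1 h
  rcases eq_or_ne (q v) 0 with h0 | h0
  · refine ⟨1, fun x => ?_⟩
    rw [tv_q hA hq, h0, sh_apply]
    ring
  · refine ⟨s / q v, fun x => ?_⟩
    rw [tv_q hA hq, sh_apply]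
    have : s / q v + (s / q v) ^ 2 * q v = 1 := by
      field_simp
      rw [← hs]
      ring
    rw [this, one_mul]

/-- **forms of the same type are conjugate** -/
theorem same_type (hA : ∀ v, f v v = 0) {q : V → F} (hq : IsQ f q) {v v' : V} (h : T (q v) = T (q v')) :
    ∃ t ∈ Iso (fun x y => f x y), ∀ x, Rg.sh f q v (t x) = Rg.sh f q v' x := by
  have h1 : T (Rg.sh f q v (v + v')) = 0 := by
    rw [sh_apply, hq.add, map_add (f v), hA, zero_add]
    have h2 : q v + q v' + f v v' + f v v' ^ 2 = (q v + q v') + (f v v' ^ 2 + f v v') := by ring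
    rw [h2, map_add, map_add, h, T_eq_zero.2 ⟨f v v', rfl⟩, add_zero]
    have h3 : ∀ a : ZMod 2, a + a = 0 := by decide
    exact h3 _
  obtain ⟨c, hc⟩ := exists_tv hA (hq.sh v) h1
  refine ⟨tv hA (v + v') c, tv_mem hA (v + v') c, fun x => ?_⟩
  rw [hc, sh_sh, ← add_assoc, vadd_self F, zero_add]

/-- the quadratic form of the library -/
def IsQ.toQ {q : V → F} (hq : IsQ f q) : QuadraticForm F V :=
  QuadraticMap.ofPolar q (fun a x => by rw [hq.smul, pow_two, smul_eq_mul])
    (fun x x' y => by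
      change q (x + x' + y) - q (x + x') - q y = (q (x + y) - q x - q y) + (q (x' + y) - q x' - q y)
      rw [hq.add (x + x') y, hq.add x y, hq.add x' y, map_add, LinearMap.add_apply]
      ring)
    (fun a x y => by
      change q (a • x + y) - q (a • x) - q y = a • (q (x + y) - q x - q y)
      rw [hq.add, hq.add x y, map_smul, LinearMap.smul_apply, smul_eq_mul, smul_eq_mul]
      ring)

theorem IsQ.toQ_apply {q : V → F} (hq : IsQ f q) (x : V) : hq.toQ x = q x := rfl

theorem IsQ.polar {q : V → F} (hq : IsQ f q) (x y : V) : QuadraticMap.polar hq.toQ x y = f x y := by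
  change q (x + y) - q x - q y = f x y
  rw [hq.add]
  ring

theorem IsQ.nondeg {q : V → F} (hq : IsQ f q) (hnd : ∀ u, (∀ v, f u v = 0) → u = 0) : Nondeg hq.toQ := by
  intro x hx
  apply hnd
  intro y
  rw [← hq.polar]
  exact hx y

end

end Cfsg.Agent.H383.Rg
end

-- part: H383/Rg/AllTv
section
/-!
# S3691, case C-: two orthogonal groups generate the symplectic group (helper383)

* `E_semi` : `E(q)` under semilinear bijections
* `all_tv` : a group containing `Ω(q)` and `Ω(q + f(w, .)²)`, `w ≠ 0`, contains all transvections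
-/

set_option autoImplicit false
set_option linter.unusedSectionVars false

namespace Cfsg.Agent.H383.Rg

open Module QuadraticMap
open Cfsg.Agent.LieClassical.OrthCore Cfsg.Agent.LieClassical.OrthTrans
open Cfsg.Agent.BpCl (Iso)

section

variable {F V : Type*} [Field F] [Finite F] [CharP F 2] [AddCommGroup V] [Module F V]
  {f : LinearMap.BilinForm F V}

variable (F) in
include F in
theorem vneg (x : V) : -x = x := by
  have h := vadd_self F x
  exact (eq_neg_of_add_eq_zero_left h).symm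

variable (F) in
include F in
theorem vsub (x y : V) : x - y = x + y := by rw [sub_eq_add_neg, vneg F]

/-- the Siegel transformation in characteristic 2 -/
theorem sgl_apply {q : V → F} (hq : IsQ f q) {u w : V} (hu : hq.toQ u = 0) (hw : polar hq.toQ u w = 0) (v : V) :
    siegel hq.toQ u w hu hw v = v + f u v • w + f w v • u + (q w * f u v) • u := by
  rw [siegel_apply, hq.polar, hq.polar, vsub F, vsub F]
  rfl

theorem exists_sq (a : F) : ∃ b : F, b ^ 2 = a := by
  have hperf : Function.Bijective (fun a : F => a ^ 2) := by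
    rw [← Finite.injective_iff_bijective]
    intro a b hab
    have h1 : (a + b) ^ 2 = 0 := by
      rw [sq_add, show a ^ 2 = b ^ 2 from hab, add_self']
    have h2 := pow_eq_zero_iff (two_ne_zero) |>.1 h1
    exact (CharTwo.add_eq_zero).1 h2
  exact hperf.2 a

/-- `E(q)` under a semilinear bijection -/
theorem E_semi {σ : F ≃+* F} {M : Equiv.Perm V} (hM1 : ∀ u v, M (u + v) = M u + M v)
    (hM2 : ∀ (a : F) v, M (a • v) = σ a • M v) (hM3 : ∀ u v, f (M u) (M v) = σ (f u v)) {q q' : V → F}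
    (hq : IsQ f q) (hq' : IsQ f q') (h : ∀ v, q' (M v) = σ (q v)) :
    ∀ s ∈ E hq.toQ, ∃ s' ∈ E hq'.toQ, ∀ v, s' (M v) = M (s v) := by
  intro s hs
  rw [E] at hs
  induction hs using Subgroup.closure_induction with
  | mem s hs =>
    obtain ⟨u, w, hu, hw, rfl⟩ := hs
    have hu' : hq'.toQ (M u) = 0 := by
      rw [hq'.toQ_apply, h, ← hq.toQ_apply, hu, map_zero]
    have hw' : polar hq'.toQ (M u) (M w) = 0 := by
      rw [hq'.polar, hM3, ← hq.polar, hw, map_zero]
    refine ⟨_, siegel_mem_E hu' hw', fun v => ?_⟩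
    rw [sgl_apply, sgl_apply, hM1, hM1, hM1, hM2, hM2, hM2, hM3, hM3, h, map_mul]
  | one => exact ⟨1, one_mem _, fun v => rfl⟩
  | mul a b _ _ ha hb =>
    obtain ⟨a', ha', ea⟩ := ha
    obtain ⟨b', hb', eb⟩ := hb
    refine ⟨a' * b', mul_mem ha' hb', fun v => ?_⟩
    change a' (b' (M v)) = M (a (b v))
    rw [eb, ea]
  | inv a _ ha =>
    obtain ⟨a', ha', ea⟩ := ha
    refine ⟨a'⁻¹, inv_mem ha', fun v => ?_⟩
    have h1 := ea (a⁻¹ v)
    have h2 : a (a⁻¹ v) = v := a.apply_symm_apply v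
    rw [h2] at h1
    rw [← h1]
    exact a'.symm_apply_apply _

/-- the quotient of two Siegel transformations is a transvection -/
theorem tv_of_siegel (hA : ∀ v, f v v = 0) {q : V → F} (hq : IsQ f q) {L : Subgroup (V ≃ₗ[F] V)} {w : V}
    (h1 : E hq.toQ ≤ L) (h2 : E (hq.sh w).toQ ≤ L) (hnd : ∀ u, (∀ v, f u v = 0) → u = 0) {u : V} (hu : q u = 0)
    (hw : f w u = 0) (hind : ∀ c : F, w ≠ c • u) (c : F) : tv hA u c ∈ L := by
  obtain ⟨y, hy1, hy2⟩ := exists_sep (hq.nondeg hnd) hind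
  rw [hq.polar] at hy1 hy2
  obtain ⟨a, ha⟩ := exists_sq c
  have hz : f u (a • y) = 0 := by rw [map_smul, hy1, smul_zero]
  have hu1 : hq.toQ u = 0 := hu
  have hu2 : (hq.sh w).toQ u = 0 := by
    change q u + f w u ^ 2 = 0
    rw [hu, hw]
    ring
  have hw1 : polar hq.toQ u (a • y) = 0 := by rw [hq.polar, hz]
  have hw2 : polar (hq.sh w).toQ u (a • y) = 0 := by rw [(hq.sh w).polar, hz]
  have e : siegel hq.toQ u (a • y) hu1 hw1 * siegel (hq.sh w).toQ u (a • y) hu2 hw2 = tv hA u c := by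
    apply LinearEquiv.ext
    intro v
    change siegel hq.toQ u (a • y) hu1 hw1 (siegel (hq.sh w).toQ u (a • y) hu2 hw2 v) = _
    rw [sgl_apply, sgl_apply, tv_apply]
    obtain ⟨z, hzdef⟩ : ∃ z, z = a • y := ⟨_, rfl⟩
    rw [← hzdef] at hz ⊢
    have hwz : f w z = a := by rw [hzdef, map_smul, hy2, smul_eq_mul, mul_one]
    have e1 : f u (v + f u v • z + f z v • u + (sh f q w z * f u v) • u) = f u v := by
      rw [map_add, map_add, map_add, map_smul, map_smul, map_smul, hz, hA]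
      simp
    have e2 : f z (v + f u v • z + f z v • u + (sh f q w z * f u v) • u) = f z v := by
      rw [map_add, map_add, map_add, map_smul, map_smul, map_smul, symm_of_alt hA z u, hz, hA]
      simp
    rw [e1, e2, sh_apply, hwz, ha]
    have e3 := vadd_self F (f u v • z)
    have e4 := vadd_self F (f z v • u)
    have e5 := vadd_self F ((q z * f u v) • u)
    have e6 : ((q z + c) * f u v) • u = (q z * f u v) • u + (c * f u v) • u := by rw [add_mul, add_smul]
    rw [e6]
    calc v + f u v • z + f z v • u + ((q z * f u v) • u + (c * f u v) • u) + f u v • z + f z v • u + (q z * f u v) • u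
        = v + (f u v • z + f u v • z) + (f z v • u + f z v • u) + ((q z * f u v) • u + (q z * f u v) • u) +
          (c * f u v) • u := by abel
      _ = v + (c * f u v) • u := by rw [e3, e4, e5]; simp
  rw [← e]
  exact mul_mem (h1 (siegel_mem_E _ _)) (h2 (siegel_mem_E _ _))

/-- `E(Q)` is transitive on the singular points -/
theorem trans_pt {Q : QuadraticForm F V} (hQ : Nondeg Q) (hd : 3 ≤ finrank F V) {u y : V} (hu : Q u = 0) (hy : Q y = 0)
    (hu0 : u ≠ 0) (hy0 : y ≠ 0) : ∃ g ∈ E Q, ∃ c : F, c ≠ 0 ∧ g u = c • y := by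
  by_cases h0 : polar Q u y = 0
  · by_cases hind : ∀ c : F, u ≠ c • (y - u)
    · obtain ⟨g, hg, e⟩ := exists_siegel_of_orth hQ hu hy h0 hind
      exact ⟨g, hg, 1, one_ne_zero, by rw [e, one_smul]⟩
    · push Not at hind
      obtain ⟨c, hc⟩ := hind
      have h1 : (1 + c) • u = c • y := by
        rw [add_smul, one_smul]
        nth_rw 1 [hc]
        rw [smul_sub]
        abel
      by_cases hc1 : 1 + c = 0
      · rw [hc1, zero_smul] at h1
        rcases smul_eq_zero.1 h1.symm with h2 | h2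
        · rw [h2, add_zero] at hc1
          exact absurd hc1 one_ne_zero
        · exact absurd h2 hy0
      · have h2 : u = ((1 + c)⁻¹ * c) • y := by
          rw [mul_smul, ← h1, smul_smul, inv_mul_cancel₀ hc1, one_smul]
        refine ⟨1, one_mem _, _, ?_, h2⟩
        intro h3
        rw [h3, zero_smul] at h2
        exact hu0 h2
  · -- a hyperbolic pair
    have hyp : Hyp Q u ((polar Q u y)⁻¹ • y) := ⟨hu, by rw [QuadraticMap.map_smul, hy, smul_zero], by
      rw [polar_smul_right, smul_eq_mul, inv_mul_cancel₀ h0]⟩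
    obtain ⟨a, c, xa, ya, xc, yc, hac⟩ := exists_perp2 hQ hd hyp
    obtain ⟨z, hz, xz, yz⟩ : ∃ z, Q z ≠ 0 ∧ polar Q u z = 0 ∧ polar Q ((polar Q u y)⁻¹ • y) z = 0 := by
      rcases exists_nonsing hac with h | h | h
      · exact ⟨a, h, xa, ya⟩
      · exact ⟨c, h, xc, yc⟩
      · exact ⟨a + c, h, by rw [polar_add_right, xa, xc, add_zero], by rw [polar_add_right, ya, yc, add_zero]⟩
    set y' := (polar Q u y)⁻¹ • y with hy'
    obtain ⟨v, hv⟩ : ∃ v, v = u + z - Q z • y' := ⟨_, rfl⟩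
    have hvQ : Q v = 0 := by rw [hv]; exact sing_vec hyp xz yz
    have hvu : polar Q v u = -Q z := by
      rw [hv, polar_sub_left, polar_add_left, polar_smul_left, polar_self_of_sing hu, polar_comm Q z u, xz, hyp.pair']
      simp
    have hvy : polar Q v y' = 1 := by
      rw [hv, polar_sub_left, polar_add_left, polar_smul_left, polar_self_of_sing hyp.right, polar_comm Q z y', yz, hyp.pair]
      simp
    have hne : polar Q v u ≠ 0 := by rw [hvu]; exact neg_ne_zero.2 hz
    have hyp1 : Hyp Q v ((polar Q v u)⁻¹ • u) := ⟨hvQ, by rw [QuadraticMap.map_smul, hu, smul_zero], by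
      rw [polar_smul_right, smul_eq_mul, inv_mul_cancel₀ hne]⟩
    have hyp2 : Hyp Q v y' := ⟨hvQ, hyp.right, hvy⟩
    obtain ⟨g, hg, -, e⟩ := siegel_partner hyp1 hyp2
    refine ⟨g, hg, polar Q v u * (polar Q u y)⁻¹, mul_ne_zero hne (inv_ne_zero h0), ?_⟩
    rw [map_smul, inv_smul_eq_iff₀ hne] at e
    rw [e, hy', smul_smul]

/-- from one centre to all -/
theorem all_of_one (hA : ∀ v, f v v = 0) {q : V → F} (hq : IsQ f q) {L : Subgroup (V ≃ₗ[F] V)}
    (h1 : E hq.toQ ≤ L) (hnd : ∀ u, (∀ v, f u v = 0) → u = 0) (hd : 3 ≤ finrank F V) {u : V} (hu : q u = 0)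
    (hu0 : u ≠ 0) (hc : ∀ c, tv hA u c ∈ L) (v : V) (c : F) : tv hA v c ∈ L := by
  -- transport
  have hEf : ∀ g ∈ E hq.toQ, ∀ x y, f (g x) (g y) = f x y := by
    intro g hg x y
    rw [← hq.polar, ← hq.polar, polar_map (E_le_O hg)]
  have htr : ∀ g ∈ L, (∀ x y, f (g x) (g y) = f x y) → ∀ v, (∀ c, tv hA v c ∈ L) → ∀ c, tv hA (g v) c ∈ L := by
    intro g hg hgf v hv c
    have e : tv hA (g v) c = g * tv hA v c * g⁻¹ := by
      rw [eq_mul_inv_iff_mul_eq]
      apply LinearEquiv.ext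
      intro x
      change tv hA (g v) c (g x) = g (tv hA v c x)
      rw [tv_apply, tv_apply, hgf, map_add, map_smul]
    rw [e]
    exact mul_mem (mul_mem hg (hv c)) (inv_mem hg)
  have hsm : ∀ (v : V) (a : F), (∀ c, tv hA v c ∈ L) → ∀ c, tv hA (a • v) c ∈ L := by
    intro v a hv c
    have e : tv hA (a • v) c = tv hA v (c * a ^ 2) := by
      apply LinearEquiv.ext
      intro x
      rw [tv_apply, tv_apply, map_smul, LinearMap.smul_apply, smul_eq_mul, smul_smul]
      congr 2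
      ring
    rw [e]
    exact hv _
  have hadd : ∀ v1 v2 : V, (∀ c, tv hA v1 c ∈ L) → (∀ c, tv hA v2 c ∈ L) → f v1 v2 ≠ 0 → ∀ a : F,
      ∀ c, tv hA (v2 + a • v1) c ∈ L := by
    intro v1 v2 h1 h2 h3 a
    have e : tv hA v1 (a * (f v1 v2)⁻¹) v2 = v2 + a • v1 := by
      rw [tv_apply, mul_assoc, inv_mul_cancel₀ h3, mul_one]
    rw [← e]
    exact htr _ (h1 _) (fun x y => tv_mem hA v1 _ x y) v2 h2
  -- singular vectors
  have hsing : ∀ y : V, q y = 0 → ∀ c, tv hA y c ∈ L := by
    intro y hy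
    by_cases hy0 : y = 0
    · subst hy0
      intro c
      have : tv hA (0 : V) c = 1 := by
        apply LinearEquiv.ext
        intro x
        rw [tv_apply, smul_zero, add_zero]
        rfl
      rw [this]
      exact one_mem L
    · obtain ⟨g, hg, a, ha, e⟩ := trans_pt (hq.nondeg hnd) hd hu hy hu0 hy0
      have e' : y = a⁻¹ • g u := by rw [e, smul_smul, inv_mul_cancel₀ ha, one_smul]
      rw [e']
      exact hsm _ _ (htr g (h1 hg) (hEf g hg) u hc)
  by_cases hv0 : v = 0
  · rw [hv0]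
    exact hsing 0 hq.zero c
  · obtain ⟨y, hy⟩ := exists_hyp (hq.nondeg hnd) (show hq.toQ u = 0 from hu) hu0
    obtain ⟨x', y', hyp, e⟩ := exists_hyp_decomp (hq.nondeg hnd) hy hv0
    rw [e]
    refine hadd y' x' (hsing _ hyp.right) (hsing _ hyp.left) ?_ _ c
    have := hyp.pair'
    rw [hq.polar] at this
    rw [this]
    exact one_ne_zero

/-- **two orthogonal groups** -/
theorem all_tv (hA : ∀ v, f v v = 0) {q : V → F} (hq : IsQ f q) {L : Subgroup (V ≃ₗ[F] V)} {w : V} (hw : w ≠ 0)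
    (h1 : E hq.toQ ≤ L) (h2 : E (hq.sh w).toQ ≤ L) (hnd : ∀ u, (∀ v, f u v = 0) → u = 0) (hd : 4 ≤ finrank F V)
    (hg : 2 < Nat.card F ∨ ∀ x y, Hyp hq.toQ x y → ∃ s, s ≠ 0 ∧ q s = 0 ∧ f x s = 0 ∧ f y s = 0) (v : V) (c : F) :
    tv hA v c ∈ L := by
  have hQ := hq.nondeg hnd
  -- a nonsingular `w`
  have key : ∀ w : V, q w ≠ 0 → E (hq.sh w).toQ ≤ L → tv hA v c ∈ L := by
    intro w hw0 h2
    have hwne : w ≠ 0 := by rintro rfl; exact hw0 hq.zero
    obtain ⟨r, hr⟩ := hQ.exists_polar_ne hwne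
    obtain ⟨p, hp0, hp⟩ := exists_perp_ne (Q := hq.toQ) ![w, r] (by omega)
    have hwp : f w p = 0 := by rw [← hq.polar]; exact hp 0
    have hrp : f r p = 0 := by rw [← hq.polar]; exact hp 1
    rw [hq.polar] at hr
    obtain ⟨a, ha⟩ := exists_sq (q p / q w)
    have hind : ∀ b : F, w ≠ b • (a • w + p) := by
      intro b hb
      have h3 := congrArg (fun x => f r x) hb
      simp only [map_smul, map_add, hrp, smul_eq_mul, add_zero] at h3
      rw [symm_of_alt hA r w] at h3
      have h4 : (1 - b * a) * f w r = 0 := by linear_combination h3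
      have h5 := (mul_eq_zero.1 h4).resolve_right hr
      have h6 : b • p = 0 := by
        have h7 : b • p = (1 - b * a) • w := by
          rw [sub_smul, one_smul, mul_smul]
          nth_rw 1 [hb]
          rw [smul_add]
          abel
        rw [h7, h5, zero_smul]
      rcases smul_eq_zero.1 h6 with h7 | h7
      · rw [h7, zero_mul, sub_zero] at h5
        exact one_ne_zero h5
      · exact hp0 h7
    have hu : q (a • w + p) = 0 := by
      rw [hq.add, hq.smul, map_smul, LinearMap.smul_apply, hwp, smul_zero, add_zero, ha, div_mul_cancel₀ _ hw0, add_self']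
    have hwu : f w (a • w + p) = 0 := by rw [map_add, map_smul, hA, hwp, smul_zero, add_zero]
    refine all_of_one hA hq h1 hnd (by omega) hu ?_ (tv_of_siegel hA hq h1 h2 hnd hu hwu hind) v c
    intro h3
    have := hind 0
    rw [h3, smul_zero] at this
    have h4 : p = -(a • w) := eq_neg_of_add_eq_zero_right h3
    apply hp0
    have h5 : f r p = 0 := hrp
    rw [h4, map_neg, map_smul, smul_eq_mul, symm_of_alt hA r w] at h5
    have h6 : a = 0 := by
      rcases mul_eq_zero.1 (neg_eq_zero.1 h5) with h7 | h7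
      · exact h7
      · exact absurd h7 hr
    rw [h4, h6, zero_smul, neg_zero]
  by_cases hw0 : q w = 0
  · by_cases hgood : ∃ s, s ≠ 0 ∧ q s = 0 ∧ f w s = 0 ∧ ∀ b : F, w ≠ b • s
    · obtain ⟨s, hs0, hs1, hs2, hs3⟩ := hgood
      exact all_of_one hA hq h1 hnd (by omega) hs1 hs0 (tv_of_siegel hA hq h1 h2 hnd hs1 hs2 hs3) v c
    · have hF : 2 < Nat.card F := by
        rcases hg with h | h
        · exact h
        · exfalso
          apply hgood
          obtain ⟨y, hy⟩ := exists_hyp hQ (show hq.toQ w = 0 from hw0) hw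
          obtain ⟨s, hs0, hs1, hs2, hs3⟩ := h w y hy
          refine ⟨s, hs0, hs1, hs2, fun b hb => ?_⟩
          have h3 := hy.pair
          rw [hq.polar, hb, map_smul, LinearMap.smul_apply, symm_of_alt hA s y, hs3, smul_zero] at h3
          exact zero_ne_one h3
      -- the trick
      have hqw := hq.sh w
      have hw1 : sh f q w w = 0 := by
        rw [sh_apply, hw0, hA]
        ring
      obtain ⟨y, hy⟩ := exists_hyp (hqw.nondeg hnd) (show hqw.toQ w = 0 from hw1) hw
      obtain ⟨a, c', xa, ya, xc, yc, hac⟩ := exists_perp2 (hqw.nondeg hnd) (by omega) hy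
      obtain ⟨z, hz, xz, yz⟩ : ∃ z, hqw.toQ z ≠ 0 ∧ polar hqw.toQ w z = 0 ∧ polar hqw.toQ y z = 0 := by
        rcases exists_nonsing hac with h | h | h
        · exact ⟨a, h, xa, ya⟩
        · exact ⟨c', h, xc, yc⟩
        · exact ⟨a + c', h, by rw [polar_add_right, xa, xc, add_zero], by rw [polar_add_right, ya, yc, add_zero]⟩
      obtain ⟨b, hb0, hb1⟩ : ∃ b : F, b ≠ 0 ∧ b ≠ 1 := by
        by_contra hcon
        push Not at hcon
        have h3 : (Set.univ : Set F) ⊆ {0, 1} := by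
          intro x _
          by_cases hx : x = 0
          · exact Or.inl hx
          · exact Or.inr (hcon x hx)
        have h4 := Set.ncard_le_ncard h3 (Set.toFinite _)
        have h5 := Set.ncard_insert_le (0 : F) {1}
        rw [Set.ncard_univ] at h4
        rw [Set.ncard_singleton] at h5
        omega
      rw [hqw.polar] at xz yz
      obtain ⟨t, ht⟩ := exists_sq (b / sh f q w z)
      have hz' : sh f q w z ≠ 0 := hz
      -- the element `g`
      have hyw : f y w = 1 := by rw [symm_of_alt hA, ← hqw.polar]; exact hy.pair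
      have e1 : polar hqw.toQ y (t • z) = 0 := by rw [hqw.polar, map_smul, yz, smul_zero]
      obtain ⟨g, hg⟩ : ∃ g, g = siegel hqw.toQ y (t • z) hy.right e1 := ⟨_, rfl⟩
      have hgE : g ∈ E hqw.toQ := by rw [hg]; exact siegel_mem_E _ _
      have hgO := E_le_O hgE
      have hqz : sh f q w (t • z) = b := by
        rw [hqw.smul, ht, div_mul_cancel₀ _ hz']
      have hgw : g w = w + t • z + b • y := by
        rw [hg, sgl_apply, hyw, hqz, map_smul, LinearMap.smul_apply, symm_of_alt hA z w, xz, smul_zero, zero_smul, one_smul,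
          mul_one, add_zero]
      have hgf : ∀ x y, f (g x) (g y) = f x y := by
        intro x y
        rw [← hqw.polar, ← hqw.polar, polar_map hgO]
      -- `E(q + f(w + g w)²) ≤ L`
      have h3 : E (hq.sh (w + g w)).toQ ≤ L := by
        intro s hs
        have h4 := E_semi (σ := RingEquiv.refl F) (M := (g⁻¹ : V ≃ₗ[F] V).toEquiv) (f := f)
          (fun u v => map_add (g⁻¹) u v) (fun a v => map_smul (g⁻¹) a v)
          (fun u v => by
            change f (g⁻¹ u) (g⁻¹ v) = f u v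
            have e : ∀ w, g (g⁻¹ w) = w := fun w => g.apply_symm_apply w
            rw [← hgf, e, e]) (hq.sh (w + g w)) hq (fun v => by
            change q (g⁻¹ v) = sh f q (w + g w) v
            have e : ∀ w, g (g⁻¹ w) = w := fun w => g.apply_symm_apply w
            have h5 : sh f q w (g (g⁻¹ v)) = sh f q w (g⁻¹ v) := hgO (g⁻¹ v)
            rw [e, sh_apply, sh_apply] at h5
            rw [sh_apply, map_add, LinearMap.add_apply, sq_add]
            have h6 : f (g w) v = f w (g⁻¹ v) := by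
              rw [← hgf w, e]
            rw [h6]
            have h7 := add_self' (f w (g⁻¹ v) ^ 2)
            linear_combination -h5 - h7) s hs
        obtain ⟨s', hs', e⟩ := h4
        have e2 : s = g * s' * g⁻¹ := by
          rw [eq_mul_inv_iff_mul_eq]
          apply LinearEquiv.ext
          intro x
          change s (g x) = g (s' x)
          have h5 := e (g x)
          change s' (g⁻¹ (g x)) = g⁻¹ (s (g x)) at h5
          have e3 : g⁻¹ (g x) = x := g.symm_apply_apply x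
          rw [e3] at h5
          rw [h5]
          exact (g.apply_symm_apply _).symm
        rw [e2]
        exact mul_mem (mul_mem (h2 hgE) (h1 hs')) (inv_mem (h2 hgE))
      refine key _ ?_ h3
      rw [hgw]
      have e4 : w + (w + t • z + b • y) = t • z + b • y := by
        rw [← add_assoc, ← add_assoc, vadd_self F w, zero_add]
      rw [e4]
      have e5 : q (t • z) = b := by
        have h5 := hqz
        rw [sh_apply, map_smul, xz, smul_zero] at h5
        rw [← h5]
        ring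
      have e6 : q y = 1 := by
        have h5 : sh f q w y = 0 := hy.right
        have h6 : f w y = 1 := by rw [symm_of_alt hA, hyw]
        rw [sh_apply, h6] at h5
        have h7 := add_self' (1 : F)
        linear_combination h5 - h7
      have e7 : f z y = 0 := by rw [symm_of_alt hA]; exact yz
      rw [hq.add, hq.smul b y, e5, e6, map_smul (f (t • z)), map_smul f, LinearMap.smul_apply, e7, smul_zero, smul_zero,
        add_zero, mul_one]
      intro h5
      have h6 : b * (1 + b) = 0 := by linear_combination h5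
      rcases mul_eq_zero.1 h6 with h7 | h7
      · exact hb0 h7
      · apply hb1
        exact (CharTwo.add_eq_zero.1 h7).symm
  · exact key w hw0 h2

end

end Cfsg.Agent.H383.Rg
end

-- part: H383/Rg/Act
section
/-!
# S3691, case C-: the group `G` acts on the vectors and on the quadratic forms (helper383)

* `form_scalar` : a semilinear map normalising the transvections is a semisimilarity;
* `Lf R g σ M` : normalised lifts; `exists_lf`, `Lf.uniq`, `Lf.mul`, `Lf.of`, `Lf.mem_T`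
* `lf`, `sg` : the lift and its automorphism; `ac` : the action on the forms.
-/

set_option autoImplicit false
set_option linter.unusedSectionVars false

namespace Cfsg.Agent.H383.Rg

open Module QuadraticMap
open Cfsg.Agent.LieClassical.OrthCore Cfsg.Agent.LieClassical.OrthTrans
open Cfsg.Agent.BpCl (Iso)
open Cfsg.Agent.H454.Reg Cfsg.Agent.H449.Reg

universe u v

section

variable {F V : Type*} [Field F] [Finite F] [CharP F 2] [AddCommGroup V] [Module F V]
  {f : LinearMap.BilinForm F V}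

/-- a semilinear map normalising the transvections is a semisimilarity -/
theorem form_scalar (hA : ∀ v, f v v = 0) {σ : F ≃+* F} {M : V → V}
    (hM1 : ∀ u v, M (u + v) = M u + M v) (hM2 : ∀ (a : F) v, M (a • v) = σ a • M v)
    (hinv : ∀ u x y, f (M (tv hA u 1 x)) (M (tv hA u 1 y)) = f (M x) (M y)) :
    ∃ c : F, ∀ x y, f (M x) (M y) = c * σ (f x y) := by
  have key : ∀ u x y, σ (f u y) * f (M x) (M u) = σ (f u x) * f (M u) (M y) := by
    intro u x y
    have h1 := hinv u x y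
    rw [tv_apply, tv_apply, hM1, hM1, hM2, hM2, map_add, map_add, LinearMap.add_apply, LinearMap.add_apply, map_smul,
      map_smul, map_smul, LinearMap.smul_apply, LinearMap.smul_apply, hA, smul_zero, smul_zero, add_zero, one_mul,
      one_mul, smul_eq_mul, smul_eq_mul] at h1
    have h2 := add_self' (σ (f u x) * f (M u) (M y))
    linear_combination h1 - h2
  by_cases h0 : ∀ x y, f x y = 0
  · refine ⟨1, fun x y => ?_⟩
    rw [h0, h0, map_zero, mul_zero]
  push Not at h0
  obtain ⟨u0, v1, h0⟩ := h0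
  obtain ⟨v0, huv⟩ : ∃ v0, f u0 v0 = 1 := ⟨(f u0 v1)⁻¹ • v1, by rw [map_smul, smul_eq_mul, inv_mul_cancel₀ h0]⟩
  have sym := symm_of_alt hA
  have hvu : f v0 u0 = 1 := by rw [sym, huv]
  refine ⟨f (M u0) (M v0), fun u y => ?_⟩
  have hA1 : ∀ x, f (M u0) (M x) = f (M u0) (M v0) * σ (f u0 x) := by
    intro x
    have h1 := key u0 x v0
    rw [huv, map_one, one_mul, sym (M x)] at h1
    rw [h1, mul_comm]
  have hB1 : ∀ x, f (M v0) (M x) = f (M u0) (M v0) * σ (f v0 x) := by
    intro x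
    have h1 := key v0 x u0
    rw [hvu, map_one, one_mul, sym (M x), sym (M v0) (M u0)] at h1
    rw [h1, mul_comm]
  -- general vectors not orthogonal to `u0` or `v0`
  have hC1 : ∀ u, f u u0 ≠ 0 → ∀ y, f (M u) (M y) = f (M u0) (M v0) * σ (f u y) := by
    intro u hu y
    have h1 := key u u0 y
    rw [hA1, sym u0 u] at h1
    have h2 : σ (f u u0) ≠ 0 := fun h => hu ((map_eq_zero_iff σ σ.injective).1 h)
    apply mul_left_cancel₀ h2
    rw [← h1]; ring
  have hD1 : ∀ u, f u v0 ≠ 0 → ∀ y, f (M u) (M y) = f (M u0) (M v0) * σ (f u y) := by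
    intro u hu y
    have h1 := key u v0 y
    rw [hB1, sym v0 u] at h1
    have h2 : σ (f u v0) ≠ 0 := fun h => hu ((map_eq_zero_iff σ σ.injective).1 h)
    apply mul_left_cancel₀ h2
    rw [← h1]; ring
  by_cases hu : f u v0 = 0
  · have h1 := hD1 (u + u0) (by rw [map_add, LinearMap.add_apply, hu, zero_add, huv]; exact one_ne_zero) y
    rw [hM1, map_add, LinearMap.add_apply, map_add f, LinearMap.add_apply, map_add σ, hA1] at h1
    linear_combination h1
  · exact hD1 u hu y

end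

variable {G : Type u} [Group G] {T : Subgroup G} {F : Type*} {V : Type*} [Field F] [Finite F] [CharP F 2]
  [AddCommGroup V] [Module F V] {f : LinearMap.BilinForm F V}

/-- a normalised lift of `g` -/
structure Lf (R : Real T (Iso (F := F) fun x y => f x y)) (g : G) (σ : F ≃+* F) (M : Semi F V) : Prop where
  ind : Induces R.π M g
  add : ∀ u v, M.1 (u + v) = M.1 u + M.1 v
  smul : ∀ (a : F) v, M.1 (a • v) = σ a • M.1 v
  form : ∀ u v, f (M.1 u) (M.1 v) = σ (f u v)

/-- multiplication by a scalar -/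
def scal (b : F) (hb : b ≠ 0) : Semi F V :=
  ⟨{ toFun := fun v => b • v, invFun := fun v => b⁻¹ • v
     left_inv := fun v => by change b⁻¹ • b • v = v; rw [smul_smul, inv_mul_cancel₀ hb, one_smul]
     right_inv := fun v => by change b • b⁻¹ • v = v; rw [smul_smul, mul_inv_cancel₀ hb, one_smul] },
   RingEquiv.refl F, fun u v => smul_add b u v, fun a v => smul_comm b a v⟩

theorem scal_apply (b : F) (hb : b ≠ 0) (v : V) : (scal b hb).1 v = b • v := rfl

variable (R : _root_.Cfsg.Agent.H449.Reg.Real T (Iso (F := F) fun x y => f x y))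

theorem scal_ind (b : F) (hb : b ≠ 0) : Induces R.π (scal b hb : Semi F V) (1 : G) := by
  refine ⟨fun x => ⟨x, fun v => ?_⟩, fun x y h => ?_⟩
  · rw [scal_apply, scal_apply, map_smul]
  · have h1 : y = x := by
      apply Subtype.ext
      apply LinearEquiv.ext
      intro v
      have h2 := h v
      rw [scal_apply, scal_apply, map_smul] at h2
      exact smul_right_injective V hb h2
    rw [h1]; group

variable (hA : ∀ v, f v v = 0) (hnd : ∀ u, (∀ v, f u v = 0) → u = 0) (hV : ∃ v : V, v ≠ 0)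

include hA hnd hV in
theorem exists_lf (g : G) : ∃ σ M, Lf R g σ M := by
  obtain ⟨M, hM⟩ := R.ind g
  obtain ⟨σ, hM1, hM2⟩ := M.2
  obtain ⟨c, hc⟩ := form_scalar (f := f) hA (σ := σ) (M := M.1) hM1 hM2 (by
    intro u x y
    obtain ⟨z, hz⟩ := hM.1 ⟨tv hA u 1, tv_mem hA u 1⟩
    have h1 := hz x
    have h2 := hz y
    change z.1 (M.1 x) = M.1 (tv hA u 1 x) at h1
    change z.1 (M.1 y) = M.1 (tv hA u 1 y) at h2
    rw [← h1, ← h2]
    exact z.2 _ _)
  have hc0 : c ≠ 0 := by
    rintro rfl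
    obtain ⟨v, hv⟩ := hV
    apply hv
    have h1 : M.1 v = 0 := by
      apply hnd
      intro w
      obtain ⟨w, rfl⟩ := M.1.surjective w
      rw [hc, zero_mul]
    have h2 : M.1 0 = 0 := by
      have := hM2 0 0
      rwa [zero_smul, map_zero σ, zero_smul] at this
    exact M.1.injective (h1.trans h2.symm)
  obtain ⟨b, hb⟩ := exists_sq (F := F) c⁻¹
  have hb0 : b ≠ 0 := by
    rintro rfl
    rw [zero_pow two_ne_zero] at hb
    exact inv_ne_zero hc0 hb.symm
  refine ⟨σ, scal b hb0 * M, ?_, fun u v => ?_, fun a v => ?_, fun u v => ?_⟩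
  · have := Real.induces_mul (scal_ind R b hb0) hM
    rwa [one_mul] at this
  · change b • M.1 (u + v) = b • M.1 u + b • M.1 v
    rw [hM1, smul_add]
  · change b • M.1 (a • v) = σ a • (b • M.1 v)
    rw [hM2, smul_comm]
  · change f (b • M.1 u) (b • M.1 v) = σ (f u v)
    rw [map_smul, map_smul, LinearMap.smul_apply, hc, smul_eq_mul, smul_eq_mul]
    have : b * (b * (c * σ (f u v))) = (b ^ 2 * c) * σ (f u v) := by ring
    rw [this, hb, inv_mul_cancel₀ hc0, one_mul]

variable {R}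

include hnd hV in
theorem exists_one : ∃ u v : V, f u v = 1 := by
  obtain ⟨u, hu⟩ := hV
  by_contra hcon
  push Not at hcon
  apply hu
  apply hnd
  intro v
  by_contra h0
  exact hcon u ((f u v)⁻¹ • v) (by rw [map_smul, smul_eq_mul, inv_mul_cancel₀ h0])

include hnd hV in
theorem Lf.uniq {g : G} {σ σ' : F ≃+* F} {M M' : Semi F V} (h : Lf R g σ M) (h' : Lf R g σ' M') : σ = σ' ∧ M = M' := by
  -- `M'⁻¹ M` is a scalar
  obtain ⟨a, ha, hM⟩ : ∃ a : F, a ≠ 0 ∧ ∀ v, M.1 v = a • M'.1 v := by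
    obtain ⟨a, ha, hM⟩ := R.comm (M'⁻¹ * M) (by
      intro x
      obtain ⟨y, hy⟩ := h.ind.1 x
      obtain ⟨z, hz⟩ := h'.ind.1 x
      have h2 := h.ind.2 x y hy
      have h3 := h'.ind.2 x z hz
      have h4 : R.π (z⁻¹ * y) = 1 := by
        rw [map_mul, map_inv, inv_mul_eq_one]
        apply Subtype.ext
        rw [← h2, ← h3]
      obtain ⟨a, ha⟩ := R.ker _ h4
      have h5 : ∀ v, y.1 v = a • z.1 v := by
        intro v
        have h6 : z.1 ((z⁻¹ * y).1 v) = y.1 v := by
          change (z.1 * (z.1⁻¹ * y.1)) v = _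
          rw [mul_inv_cancel_left]
        rw [← h6, ha, map_smul]
      obtain ⟨τ, hσ1, hσ2⟩ := (M'⁻¹ : Semi F V).2
      refine ⟨τ a, fun v => ?_⟩
      change (M'⁻¹ : Semi F V).1 (M.1 (x.1 v)) = τ a • x.1 ((M'⁻¹ : Semi F V).1 (M.1 v))
      rw [← hy, h5, hσ2]
      congr 1
      apply M'.1.injective
      rw [Real.semi_inv_apply]
      have h7 := hz ((M'⁻¹ : Semi F V).1 (M.1 v))
      rw [Real.semi_inv_apply] at h7
      exact h7)
    refine ⟨σ' a, fun h => ha ((map_eq_zero_iff σ' σ'.injective).1 h), fun v => ?_⟩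
    have h1 : (M'⁻¹ : Semi F V).1 (M.1 v) = a • v := hM v
    rw [← h'.smul, ← h1, Real.semi_inv_apply]
  obtain ⟨u, v, huv⟩ := exists_one hnd hV
  have h1 : a = 1 := by
    have h2 := h.form u v
    rw [huv, map_one, hM, hM, map_smul, map_smul, LinearMap.smul_apply, h'.form, huv, map_one, smul_eq_mul, smul_eq_mul,
      mul_one] at h2
    have h3 : (a + 1) ^ 2 = 0 := by
      rw [sq_add, one_pow]
      have := add_self' (1 : F)
      linear_combination h2 + this
    have h4 := pow_eq_zero_iff (two_ne_zero) |>.1 h3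
    exact CharTwo.add_eq_zero.1 h4
  have hMM : M = M' := by
    apply Subtype.ext
    apply Equiv.ext
    intro w
    rw [hM, h1, one_smul]
  refine ⟨?_, hMM⟩
  subst hMM
  ext b
  have h2 := h.form u (b • v)
  rw [h'.form, map_smul, huv, smul_eq_mul, mul_one] at h2
  exact h2.symm

theorem Lf.mul {g g' : G} {σ σ' : F ≃+* F} {M M' : Semi F V} (h : Lf R g σ M) (h' : Lf R g' σ' M') :
    Lf R (g * g') (σ'.trans σ) (M * M') where
  ind := Real.induces_mul h.ind h'.ind
  add u v := by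
    change M.1 (M'.1 (u + v)) = M.1 (M'.1 u) + M.1 (M'.1 v)
    rw [h'.add, h.add]
  smul a v := by
    change M.1 (M'.1 (a • v)) = σ (σ' a) • M.1 (M'.1 v)
    rw [h'.smul, h.smul]
  form u v := by
    change f (M.1 (M'.1 u)) (M.1 (M'.1 v)) = σ (σ' (f u v))
    rw [h.form, h'.form]

variable (R) in
theorem Lf.of (x : Iso (F := F) fun x y => f x y) : Lf R (R.π x : G) (RingEquiv.refl F) (slg x.1) where
  ind := by
    refine ⟨fun y => ⟨x * y * x⁻¹, fun v => ?_⟩, fun y z h => ?_⟩
    · change (x.1 * y.1 * x.1⁻¹) (x.1 v) = x.1 (y.1 v)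
      have h1 : (x.1 * y.1 * x.1⁻¹) (x.1 v) = (x.1 * y.1) ((x.1⁻¹ * x.1) v) := rfl
      rw [h1, inv_mul_cancel]
      rfl
    · have h1 : z = x * y * x⁻¹ := by
        apply Subtype.ext
        apply LinearEquiv.ext
        intro v
        obtain ⟨v, rfl⟩ := x.1.surjective v
        have h2 : z.1 (x.1 v) = x.1 (y.1 v) := h v
        rw [h2]
        have h3 : ((x * y * x⁻¹ : Iso (F := F) fun x y => f x y).1) (x.1 v) = (x.1 * y.1) ((x.1⁻¹ * x.1) v) := rfl
        rw [h3, inv_mul_cancel]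
        rfl
      rw [h1, map_mul, map_mul, map_inv]
      rfl
  add u v := map_add x.1 u v
  smul a v := map_smul x.1 a v
  form u v := x.2 u v

theorem Lf.one : Lf R (1 : G) (RingEquiv.refl F) 1 := by
  have h := Lf.of R 1
  rw [map_one] at h
  exact h

/-- the linear ones are in `T` -/
theorem Lf.mem_T (hc : Subgroup.centralizer (T : Set G) = ⊥) {g : G} {M : Semi F V} (h : Lf R g (RingEquiv.refl F) M) :
    ∃ x : Iso (F := F) fun x y => f x y, (R.π x : G) = g ∧ ∀ v, x.1 v = M.1 v := by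
  let x : Iso (F := F) fun x y => f x y :=
    ⟨{ toFun := M.1, invFun := M.1.symm, left_inv := M.1.left_inv, right_inv := M.1.right_inv
       map_add' := h.add, map_smul' := h.smul }, h.form⟩
  refine ⟨x, ?_, fun v => rfl⟩
  have h1 : (R.π x : G)⁻¹ * g ∈ Subgroup.centralizer (T : Set G) := by
    rw [Subgroup.mem_centralizer_iff]
    intro t ht
    obtain ⟨y, hy⟩ := R.surj ⟨t, ht⟩
    have hy' : (R.π y : G) = t := congrArg Subtype.val hy
    obtain ⟨z, hz⟩ := h.ind.1 y
    have h2 := h.ind.2 y z hz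
    have h3 := (Lf.of R x).ind.2 y z hz
    rw [← hy']
    have h4 : (R.π x : G) * (R.π y : G) * (R.π x : G)⁻¹ = g * (R.π y : G) * g⁻¹ := h3.trans h2.symm
    have h5 : (R.π y : G) = (R.π x : G)⁻¹ * (g * (R.π y : G) * g⁻¹) * (R.π x : G) := by rw [← h4]; group
    calc (R.π y : G) * ((R.π x : G)⁻¹ * g) = ((R.π x : G)⁻¹ * (g * (R.π y : G) * g⁻¹) * (R.π x : G)) * ((R.π x : G)⁻¹ * g) := by
          rw [← h5]
      _ = (R.π x : G)⁻¹ * g * (R.π y : G) := by group
  rw [hc, Subgroup.mem_bot] at h1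
  have h2 : g = (R.π x : G) := (inv_mul_eq_one.1 h1).symm
  exact h2.symm

/-- `π` is injective -/
theorem pi_inj (hnd : ∀ u, (∀ v, f u v = 0) → u = 0) (hV : ∃ v : V, v ≠ 0) : Function.Injective R.π := by
  rw [injective_iff_map_eq_one]
  intro x hx
  have h1 := Lf.of R x
  rw [hx] at h1
  obtain ⟨-, h2⟩ := Lf.uniq hnd hV h1 (Lf.one (R := R))
  apply Subtype.ext
  apply LinearEquiv.ext
  intro v
  have h3 : (slg x.1).1 v = (1 : Semi F V).1 v := by rw [h2]
  exact h3


/-- the data : `T = Sp(V)`, normal in `G`, trivial centralizer -/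
structure Sd (T : Subgroup G) (f : LinearMap.BilinForm F V) where
  /-- the realisation -/
  R : Real T (Iso (F := F) fun x y => f x y)
  alt : ∀ v, f v v = 0
  nd : ∀ u, (∀ v, f u v = 0) → u = 0
  ne : ∃ v : V, v ≠ 0
  cent : Subgroup.centralizer (T : Set G) = ⊥
  normal : T.Normal

namespace Sd

variable (D : Sd T f)

/-- the field automorphism of `g` -/
noncomputable def sg (g : G) : F ≃+* F := (exists_lf D.R D.alt D.nd D.ne g).choose

/-- the lift of `g` -/
noncomputable def lf (g : G) : Semi F V := (exists_lf D.R D.alt D.nd D.ne g).choose_spec.choose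

theorem spec (g : G) : Lf D.R g (D.sg g) (D.lf g) := (exists_lf D.R D.alt D.nd D.ne g).choose_spec.choose_spec

theorem eq_lf {g : G} {σ : F ≃+* F} {M : Semi F V} (h : Lf D.R g σ M) : D.sg g = σ ∧ D.lf g = M :=
  Lf.uniq D.nd D.ne (D.spec g) h

theorem lf_mul (g h : G) : D.lf (g * h) = D.lf g * D.lf h := (D.eq_lf ((D.spec g).mul (D.spec h))).2

theorem sg_mul (g h : G) (a : F) : D.sg (g * h) a = D.sg g (D.sg h a) := by
  rw [(D.eq_lf ((D.spec g).mul (D.spec h))).1]
  rfl

theorem lf_mul_apply (g h : G) (v : V) : (D.lf (g * h)).1 v = (D.lf g).1 ((D.lf h).1 v) := by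
  rw [lf_mul]
  rfl

theorem lf_one : D.lf (1 : G) = 1 := (D.eq_lf Lf.one).2

theorem lf_one_apply (v : V) : (D.lf (1 : G)).1 v = v := by
  rw [lf_one]
  rfl

theorem sg_one (a : F) : D.sg (1 : G) a = a := by
  rw [(D.eq_lf Lf.one).1]
  rfl

theorem lf_inv_apply (g : G) (v : V) : (D.lf g⁻¹).1 ((D.lf g).1 v) = v := by
  rw [← lf_mul_apply, inv_mul_cancel, lf_one_apply]

theorem lf_apply_inv (g : G) (v : V) : (D.lf g).1 ((D.lf g⁻¹).1 v) = v := by
  rw [← lf_mul_apply, mul_inv_cancel, lf_one_apply]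

theorem sg_inv_apply (g : G) (a : F) : D.sg g⁻¹ (D.sg g a) = a := by
  rw [← sg_mul, inv_mul_cancel, sg_one]

theorem sg_apply_inv (g : G) (a : F) : D.sg g (D.sg g⁻¹ a) = a := by
  rw [← sg_mul, mul_inv_cancel, sg_one]

theorem lf_T (x : Iso (F := F) fun x y => f x y) (v : V) : (D.lf (D.R.π x : G)).1 v = x.1 v := by
  rw [(D.eq_lf (Lf.of D.R x)).2]
  rfl

theorem sg_T {t : G} (ht : t ∈ T) (a : F) : D.sg t a = a := by
  obtain ⟨x, hx⟩ := D.R.surj ⟨t, ht⟩
  have hx' : (D.R.π x : G) = t := congrArg Subtype.val hx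
  rw [← hx', (D.eq_lf (Lf.of D.R x)).1]
  rfl

theorem exists_T {t : G} (ht : t ∈ T) : ∃ x : Iso (F := F) fun x y => f x y, (D.R.π x : G) = t ∧
    ∀ v, (D.lf t).1 v = x.1 v := by
  obtain ⟨x, hx⟩ := D.R.surj ⟨t, ht⟩
  have hx' : (D.R.π x : G) = t := congrArg Subtype.val hx
  exact ⟨x, hx', fun v => by rw [← hx', lf_T]⟩

/-- linear elements are in `T` -/
theorem mem_T {g : G} (h : ∀ a, D.sg g a = a) : g ∈ T := by
  have h1 : D.sg g = RingEquiv.refl F := RingEquiv.ext h
  have h2 := D.spec g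
  rw [h1] at h2
  obtain ⟨x, hx, -⟩ := Lf.mem_T D.cent h2
  rw [← hx]
  exact (D.R.π x).2

/-- the lift is faithful -/
theorem lf_inj {g : G} (h : ∀ v, (D.lf g).1 v = v) : g = 1 := by
  obtain ⟨u, v, huv⟩ := exists_one D.nd D.ne
  have h1 : ∀ a, D.sg g a = a := by
    intro a
    have h2 := (D.spec g).form u (a • v)
    rw [h, h, map_smul, huv, smul_eq_mul, mul_one] at h2
    exact h2.symm
  obtain ⟨x, hx, hx2⟩ := D.exists_T (D.mem_T h1)
  have h3 : x = 1 := by
    apply Subtype.ext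
    apply LinearEquiv.ext
    intro v
    rw [← hx2, h]
    rfl
  rw [← hx, h3, map_one]
  rfl

theorem lf_add (g : G) (u v : V) : (D.lf g).1 (u + v) = (D.lf g).1 u + (D.lf g).1 v := (D.spec g).add u v

theorem lf_smul (g : G) (a : F) (v : V) : (D.lf g).1 (a • v) = D.sg g a • (D.lf g).1 v := (D.spec g).smul a v

theorem lf_form (g : G) (u v : V) : f ((D.lf g).1 u) ((D.lf g).1 v) = D.sg g (f u v) := (D.spec g).form u v

theorem lf_zero (g : G) : (D.lf g).1 0 = 0 := by
  have h := D.lf_smul g 0 0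
  rwa [zero_smul, map_zero (D.sg g), zero_smul] at h

/-- the ring automorphisms of a finite field commute -/
theorem aut_comm (σ τ : F ≃+* F) (a : F) : σ (τ a) = τ (σ a) := by
  rcases eq_or_ne a 0 with rfl | ha
  · simp
  obtain ⟨ζ, hζ⟩ := IsCyclic.exists_generator (α := Fˣ)
  obtain ⟨i, hi⟩ := hζ (Units.map (σ : F →* F) ζ)
  obtain ⟨j, hj⟩ := hζ (Units.map (τ : F →* F) ζ)
  obtain ⟨k, hk⟩ := hζ (Units.mk0 a ha)
  have e1 : Units.map (σ : F →* F) (Units.map (τ : F →* F) ζ) = Units.map (τ : F →* F) (Units.map (σ : F →* F) ζ) := by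
    have hi' : ζ ^ i = Units.map (σ : F →* F) ζ := hi
    have hj' : ζ ^ j = Units.map (τ : F →* F) ζ := hj
    rw [← hi', ← hj', map_zpow, map_zpow, ← hi', ← hj', ← zpow_mul, ← zpow_mul, mul_comm]
  have e2 : Units.map (σ : F →* F) (Units.map (τ : F →* F) (Units.mk0 a ha)) =
      Units.map (τ : F →* F) (Units.map (σ : F →* F) (Units.mk0 a ha)) := by
    have hk' : ζ ^ k = Units.mk0 a ha := hk
    rw [← hk', map_zpow, map_zpow, map_zpow, map_zpow, e1]
  exact congrArg Units.val e2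

include D in
/-- commutators are in `T` -/
theorem comm_mem_T (g h : G) : g * h * g⁻¹ * h⁻¹ ∈ T := by
  apply D.mem_T
  intro a
  rw [sg_mul, sg_mul, sg_mul, aut_comm (D.sg h) (D.sg g⁻¹), sg_apply_inv, sg_apply_inv]

/-! ### the action on the forms -/

/-- the action on the forms -/
noncomputable def ac (g : G) (q : V → F) : V → F := fun v => D.sg g (q ((D.lf g⁻¹).1 v))

theorem ac_apply (g : G) (q : V → F) (v : V) : D.ac g q ((D.lf g).1 v) = D.sg g (q v) := by
  rw [ac, lf_inv_apply]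

theorem ac_one (q : V → F) : D.ac 1 q = q := by
  funext v
  rw [ac, sg_one, inv_one, lf_one_apply]

theorem ac_mul (g h : G) (q : V → F) : D.ac (g * h) q = D.ac g (D.ac h q) := by
  funext v
  rw [ac, ac, ac, sg_mul, mul_inv_rev, lf_mul_apply]

theorem ac_isQ (g : G) {q : V → F} (hq : IsQ f q) : IsQ f (D.ac g q) where
  add x y := by
    rw [ac, ac, ac, lf_add, hq.add, map_add, map_add, lf_form, sg_apply_inv]
  smul a x := by
    rw [ac, ac, lf_smul, hq.smul, map_mul, map_pow, sg_apply_inv]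

theorem ac_sh (g : G) (q : V → F) (w : V) : D.ac g (sh f q w) = sh f (D.ac g q) ((D.lf g).1 w) := by
  funext v
  rw [ac, sh_apply, sh_apply, map_add, map_pow, ac]
  have h1 := D.lf_form g w ((D.lf g⁻¹).1 v)
  rw [lf_apply_inv] at h1
  rw [h1]

theorem ac_T (x : Iso (F := F) fun x y => f x y) (q : V → F) (v : V) : D.ac (D.R.π x : G) q (x.1 v) = q v := by
  have h := D.ac_apply (D.R.π x : G) q v
  rw [lf_T, sg_T D (D.R.π x).2] at h
  exact h

theorem ac_eq_of_T {t : G} (x : Iso (F := F) fun x y => f x y) (hx : (D.R.π x : G) = t) {q q' : V → F}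
    (h : ∀ v, q' (x.1 v) = q v) : D.ac t q = q' := by
  funext v
  obtain ⟨v, rfl⟩ := x.1.surjective v
  rw [← hx, ac_T, h]

end Sd

end Cfsg.Agent.H383.Rg
end

-- part: H383/Rg/Stab
section
/-!
# S3691, case C-: the groups containing `E(q)` (helper383)

* `Sd.pre L` : the preimage of `L`; `Sd.T_le` : if it contains all transvections then `T ≤ L`;
* `Sd.stab_of_le` : if it contains `E(q)` and `¬ T ≤ L` then `L` fixes `q`;
* `orb_two` : one of two forms of different type is conjugate to a given one; `exists_zero_form` : a form vanishing on a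
  totally isotropic subspace
-/

set_option autoImplicit false
set_option linter.unusedSectionVars false

namespace Cfsg.Agent.H383.Rg

open Module QuadraticMap
open Cfsg.Agent.LieClassical.OrthCore Cfsg.Agent.LieClassical.OrthTrans Cfsg.Agent.LieClassical.OrthFinite
open Cfsg.Agent.BpCl (Iso)
open Cfsg.Agent.H454.Reg Cfsg.Agent.H449.Reg
open Cfsg.Agent.H934.ArfO (T_eq_zero T_sq exists_T_one)

local notation "Tr" => Cfsg.Agent.H934.ArfO.T

universe u v

section

variable {F V : Type*} [Field F] [Finite F] [CharP F 2] [AddCommGroup V] [Module F V]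
  {f : LinearMap.BilinForm F V}

theorem two_eq {a : ZMod 2} (h : a ≠ 0) : a = 1 := by
  revert a
  decide

/-- one of two forms of different type is conjugate to a given one -/
theorem orb_two [FiniteDimensional F V] (hA : ∀ v, f v v = 0) (hnd : ∀ u, (∀ v, f u v = 0) → u = 0) {q q' : V → F}
    (hq : IsQ f q) (hq' : IsQ f q') {e : V} (he : Tr (q' e) = 1) :
    ∃ t ∈ Iso (F := F) (fun x y => f x y), (∀ z, q' (t z) = q z) ∨ (∀ z, sh f q' e (t z) = q z) := by
  obtain ⟨v, rfl⟩ := exists_sh hnd hq' hq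
  by_cases h : Tr (q' v) = 0
  · obtain ⟨c, hc⟩ := exists_tv hA hq' h
    exact ⟨tv hA v c, tv_mem hA v c, Or.inl hc⟩
  · obtain ⟨t, ht, h1⟩ := same_type hA hq' (v := e) (v' := v) (by rw [he, two_eq h])
    exact ⟨t, ht, Or.inr h1⟩

/-- a form vanishing on a totally isotropic subspace -/
theorem exists_zero_form [FiniteDimensional F V] (hnd : ∀ u, (∀ v, f u v = 0) → u = 0) {q : V → F} (hq : IsQ f q)
    {W : Submodule F V} (hW : ∀ u ∈ W, ∀ v ∈ W, f u v = 0) : ∃ q0 : V → F, IsQ f q0 ∧ ∀ w ∈ W, q0 w = 0 := by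
  choose s hs using exists_sq (F := F)
  have hinj : ∀ a b : F, a ^ 2 = b ^ 2 → a = b := by
    intro a b hab
    have h1 : (a + b) ^ 2 = 0 := by rw [sq_add, hab, add_self']
    exact CharTwo.add_eq_zero.1 (pow_eq_zero_iff (two_ne_zero) |>.1 h1)
  let l : W →ₗ[F] F :=
    { toFun := fun x => s (q x)
      map_add' := fun x y => by
        apply hinj
        rw [sq_add, hs, hs, hs, Submodule.coe_add, hq.add, hW _ x.2 _ y.2, add_zero]
      map_smul' := fun a x => by
        apply hinj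
        change s _ ^ 2 = (a * s _) ^ 2
        rw [mul_pow, hs, hs, Submodule.coe_smul, hq.smul] }
  obtain ⟨l', hl'⟩ := LinearMap.exists_extend l
  obtain ⟨v, hv⟩ := (LinearMap.injective_iff_surjective_of_finrank_eq_finrank
    (f := (f : V →ₗ[F] Module.Dual F V)) (by exact (Subspace.dual_finrank_eq).symm)).1 (by
      intro u w huw
      rw [← sub_eq_zero]
      apply hnd
      intro y
      rw [map_sub, huw, sub_self, LinearMap.zero_apply]) l'
  refine ⟨sh f q v, hq.sh v, fun w hw => ?_⟩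
  have h1 : f v w = s (q w) := by
    have h2 := LinearMap.congr_fun hl' ⟨w, hw⟩
    have h3 : f v w = l' w := LinearMap.congr_fun hv w
    rw [h3]
    exact h2
  rw [sh_apply, h1, hs, add_self']

end

variable {G : Type u} [Group G] {T : Subgroup G} {F : Type*} {V : Type*} [Field F] [Finite F] [CharP F 2]
  [AddCommGroup V] [Module F V] {f : LinearMap.BilinForm F V}

namespace Sd

variable (D : Sd T f)

/-- the preimage -/
def pre (L : Subgroup G) : Subgroup (V ≃ₗ[F] V) :=
  ((L.comap T.subtype).comap D.R.π).map (Iso (F := F) fun x y => f x y).subtype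

theorem mem_pre {L : Subgroup G} {x : V ≃ₗ[F] V} :
    x ∈ D.pre L ↔ ∃ h : x ∈ Iso (F := F) fun x y => f x y, (D.R.π ⟨x, h⟩ : G) ∈ L := by
  constructor
  · rintro ⟨y, hy, rfl⟩
    exact ⟨y.2, hy⟩
  · rintro ⟨h, h1⟩
    exact ⟨⟨x, h⟩, h1, rfl⟩

theorem T_le [IsSimpleGroup T] {L : Subgroup G} (h : ∀ v c, tv D.alt v c ∈ D.pre L) : T ≤ L := by
  set! S : Set T := {t | ∃ v c, t = D.R.π ⟨tv D.alt v c, tv_mem D.alt v c⟩} with hS
  have h1 : Subgroup.normalClosure S ≤ L.subgroupOf T := by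
    rw [Subgroup.normalClosure, Subgroup.closure_le]
    intro t ht
    obtain ⟨s, ⟨v, c, rfl⟩, hc⟩ := Group.mem_conjugatesOfSet_iff.1 ht
    obtain ⟨k, rfl⟩ := isConj_iff.1 hc
    obtain ⟨x, rfl⟩ := D.R.surj k
    have h2 : D.R.π x * D.R.π ⟨tv D.alt v c, tv_mem D.alt v c⟩ * (D.R.π x)⁻¹ =
        D.R.π ⟨tv D.alt (x.1 v) c, tv_mem D.alt (x.1 v) c⟩ := by
      rw [← map_mul, ← map_inv, ← map_mul]
      congr 1
      apply Subtype.ext
      apply LinearEquiv.ext
      intro z
      obtain ⟨z, rfl⟩ := x.1.surjective z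
      change x.1 (tv D.alt v c (x.1⁻¹ (x.1 z))) = tv D.alt (x.1 v) c (x.1 z)
      have h3 : x.1⁻¹ (x.1 z) = z := x.1.symm_apply_apply z
      have h4 : f (x.1 v) (x.1 z) = f v z := x.2 v z
      rw [h3, tv_apply, tv_apply, map_add, map_smul, h4]
    rw [h2]
    obtain ⟨_, h3⟩ := D.mem_pre.1 (h (x.1 v) c)
    exact h3
  rcases IsSimpleGroup.eq_bot_or_eq_top_of_normal (Subgroup.normalClosure S) Subgroup.normalClosure_normal with h2 | h2
  · exfalso
    obtain ⟨u, v, huv⟩ := exists_one D.nd D.ne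
    have h3 : D.R.π ⟨tv D.alt u 1, tv_mem D.alt u 1⟩ ∈ Subgroup.normalClosure S :=
      Subgroup.subset_normalClosure ⟨u, 1, rfl⟩
    rw [h2, Subgroup.mem_bot] at h3
    have h4 := pi_inj (R := D.R) D.nd D.ne (h3.trans (map_one _).symm)
    have h5 := congrArg (fun x : Iso (F := F) fun x y => f x y => x.1 v) h4
    change tv D.alt u 1 v = v at h5
    rw [tv_apply, huv, mul_one, one_smul] at h5
    have h6 : u = 0 := left_eq_add.1 h5.symm
    rw [h6, map_zero, LinearMap.zero_apply] at huv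
    exact zero_ne_one huv
  · rw [h2] at h1
    exact Subgroup.subgroupOf_eq_top.1 (top_le_iff.1 h1)

/-- **a group containing `E(q)` fixes `q`** -/
theorem stab_of_le [FiniteDimensional F V] [IsSimpleGroup T] {L : Subgroup G} (hL : ¬ T ≤ L) {q : V → F}
    (hq : IsQ f q) (hd : 4 ≤ finrank F V) (hF : 2 < Nat.card F ∨ 6 ≤ finrank F V) (hE : E hq.toQ ≤ D.pre L) {g : G}
    (hg : g ∈ L) : D.ac g q = q := by
  obtain ⟨w, hw⟩ := exists_sh D.nd hq (D.ac_isQ g hq)
  by_cases hw0 : w = 0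
  · rw [hw, hw0, sh_zero]
  exfalso
  apply hL
  apply D.T_le
  have h2 : E (hq.sh w).toQ ≤ D.pre L := by
    intro s hs
    -- pull back by `g`
    obtain ⟨s', hs', e⟩ := E_semi (f := f) (D.lf_add g⁻¹) (D.lf_smul g⁻¹) (D.lf_form g⁻¹) (hq.sh w) hq (by
      intro v
      rw [← hw, ac, sg_inv_apply]) s hs
    obtain ⟨h3, h4⟩ := D.mem_pre.1 (hE hs')
    have hsI : s ∈ Iso (F := F) fun x y => f x y := by
      intro x y
      have h5 := polar_map (E_le_O hs) x y
      rwa [(hq.sh w).polar, (hq.sh w).polar] at h5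
    rw [mem_pre]
    refine ⟨hsI, ?_⟩
    have h5 := (D.spec g).ind.2 ⟨s', h3⟩ ⟨s, hsI⟩ (by
      intro v
      change s ((D.lf g).1 v) = (D.lf g).1 (s' v)
      have h6 := e ((D.lf g).1 v)
      rw [lf_inv_apply] at h6
      rw [h6, lf_apply_inv])
    rw [← h5]
    exact L.mul_mem (L.mul_mem hg h4) (L.inv_mem hg)
  refine all_tv D.alt hq hw0 hE h2 D.nd hd ?_
  rcases hF with h | h
  · exact Or.inl h
  · right
    intro x y hxy
    obtain ⟨s, hs0, hs1, hs2⟩ := exists_sing_perp (Q := hq.toQ) ![x, y] (by omega)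
    refine ⟨s, hs0, hs1, ?_, ?_⟩
    · rw [← hq.polar]; exact hs2 0
    · rw [← hq.polar]; exact hs2 1

/-- the stabiliser of a form -/
def stab (q : V → F) : Subgroup G where
  carrier := {g | D.ac g q = q}
  mul_mem' {a b} ha hb := by
    change D.ac (a * b) q = q
    rw [ac_mul, show D.ac b q = q from hb, show D.ac a q = q from ha]
  one_mem' := D.ac_one q
  inv_mem' {a} ha := by
    change D.ac a⁻¹ q = q
    have h : D.ac a q = q := ha
    rw [← h, ← ac_mul, inv_mul_cancel, ac_one, h]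

theorem mem_stab {q : V → F} {g : G} : g ∈ D.stab q ↔ D.ac g q = q := Iff.rfl

/-- some element of `T` moves `q` -/
theorem exists_move {q : V → F} (hq : IsQ f q) (hd : 3 ≤ finrank F V) : ¬ T ≤ D.stab q := by
  intro hT
  obtain ⟨u, hu0, hu, -⟩ := exists_sing_perp (Q := hq.toQ) (n := 0) ![] (by omega)
  have hu1 : q u = 0 := hu
  obtain ⟨x, hx⟩ : ∃ x, f u x ≠ 0 := by
    by_contra hcon
    push Not at hcon
    exact hu0 (D.nd u hcon)
  have h1 := hT (D.R.π ⟨tv D.alt u 1, tv_mem D.alt u 1⟩).2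
  rw [mem_stab] at h1
  have h2 := D.ac_T ⟨tv D.alt u 1, tv_mem D.alt u 1⟩ q x
  rw [h1] at h2
  change q (tv D.alt u 1 x) = q x at h2
  rw [tv_q D.alt hq, hu1] at h2
  apply hx
  have h3 : f u x ^ 2 = 0 := by linear_combination h2
  exact pow_eq_zero_iff (two_ne_zero) |>.1 h3

/-- **a maximal subgroup containing `E(q)` is the stabiliser of `q`** -/
theorem eq_stab [FiniteDimensional F V] [IsSimpleGroup T] {L : Subgroup G} (hmax : IsCoatom L) (hL : ¬ T ≤ L)
    {q : V → F} (hq : IsQ f q) (hd : 4 ≤ finrank F V) (hF : 2 < Nat.card F ∨ 6 ≤ finrank F V)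
    (hE : E hq.toQ ≤ D.pre L) : L = D.stab q := by
  rcases hmax.le_iff.1 (show L ≤ D.stab q from fun g hg => D.stab_of_le hL hq hd hF hE hg) with h | h
  · exfalso
    apply D.exists_move hq (by omega)
    rw [h]
    exact le_top
  · exact h.symm

end Sd

end Cfsg.Agent.H383.Rg
end

-- part: H383/Rg/Fpf
section
/-!
# S3691, case C-: an element of order `r` and the fixed space of a normal 2-subgroup (helper383)

* `fpf` : an element of odd order fixing no form conjugate to `q` has no fixed vectors;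
* `card_inv` : the subgroups invariant under an element of prime order `r`, `orderOf (2 : ZMod r) = n`, `|V| = 2 ^ (2 n)`;
* `exists_W` : the fixed space of a normal 2-subgroup is a maximal totally isotropic subspace, invariant, unique.
-/

set_option autoImplicit false
set_option linter.unusedSectionVars false

namespace Cfsg.Agent.H383.Rg

open Module QuadraticMap
open Cfsg.Agent.LieClassical.OrthCore Cfsg.Agent.LieClassical.OrthTrans
open Cfsg.Agent.BpCl (Iso)
open Cfsg.Agent.H934.ArfO (T_eq_zero T_sq exists_T_one)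

local notation "Tr" => Cfsg.Agent.H934.ArfO.T

variable {F V : Type*} [Field F] [Finite F] [CharP F 2] [AddCommGroup V] [Module F V]
  {f : LinearMap.BilinForm F V}

theorem nat_odd_cast {r : ℕ} (hr : Odd r) : (r : F) = 1 := by
  obtain ⟨k, rfl⟩ := hr
  push_cast
  rw [CharTwo.two_eq_zero, zero_mul, zero_add]

/-- the sum over the powers of `y` is fixed -/
theorem sum_fix {A : Type*} [AddCommGroup A] {r : ℕ} {y : V ≃ₗ[F] V} (hy : y ^ r = 1) (φ : V → A) (v : V) :
    ∑ i ∈ Finset.range r, φ ((y ^ i) (y v)) = ∑ i ∈ Finset.range r, φ ((y ^ i) v) := by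
  have h1 := Finset.sum_range_succ (fun i => φ ((y ^ i) v)) r
  have h2 := Finset.sum_range_succ' (fun i => φ ((y ^ i) v)) r
  rw [hy] at h1
  rw [h1] at h2
  have h3 : ∀ i, (y ^ (i + 1)) v = (y ^ i) (y v) := by
    intro i
    rw [pow_succ]
    rfl
  simp only [h3, pow_zero] at h2
  exact (add_right_cancel h2).symm

theorem pow_Iso {y : V ≃ₗ[F] V} (hy : y ∈ Iso (F := F) fun x y => f x y) (i : ℕ) (u v : V) :
    f ((y ^ i) u) ((y ^ i) v) = f u v :=
  (Iso (F := F) fun x y => f x y).pow_mem hy i u v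

/-- **no fixed vectors** -/
theorem fpf [FiniteDimensional F V] (hA : ∀ v, f v v = 0) (hnd : ∀ u, (∀ v, f u v = 0) → u = 0) {q : V → F}
    (hq : IsQ f q) {y : V ≃ₗ[F] V} (hy : y ∈ Iso (F := F) fun x y => f x y) {r : ℕ} (hr : Odd r) (hyr : y ^ r = 1)
    (hno : ∀ x ∈ Iso (F := F) (fun x y => f x y), ¬ ∀ z, q (x⁻¹ (y (x z))) = q z) {e : V} (he : y e = e) : e = 0 := by
  by_contra he0
  -- a fixed form
  have hq' : IsQ f (fun v => ∑ i ∈ Finset.range r, q ((y ^ i) v)) := by
    refine ⟨fun a b => ?_, fun a b => ?_⟩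
    · simp only [map_add, hq.add]
      rw [Finset.sum_add_distrib, Finset.sum_add_distrib]
      congr 1
      simp only [pow_Iso hy]
      rw [Finset.sum_const, Finset.card_range, nsmul_eq_mul, nat_odd_cast hr, one_mul]
    · simp only [map_smul, hq.smul]
      rw [Finset.mul_sum]
  set q' : V → F := fun v => ∑ i ∈ Finset.range r, q ((y ^ i) v) with hq'd
  have hfix : ∀ v, q' (y v) = q' v := fun v => sum_fix hyr q v
  -- a fixed vector not singular
  have hpe : ∀ {e : V}, y e = e → ∀ i, (y ^ i) e = e := by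
    intro e he i
    induction i with
    | zero => rfl
    | succ i ih =>
      rw [pow_succ]
      change (y ^ i) (y e) = e
      rw [he, ih]
  obtain ⟨e1, he1, hq1⟩ : ∃ e1, y e1 = e1 ∧ q' e1 ≠ 0 := by
    by_cases h0 : q' e = 0
    · obtain ⟨v, hv⟩ : ∃ v, f e v = 1 := by
        by_contra hcon
        push Not at hcon
        apply he0
        apply hnd
        intro v
        by_contra h1
        exact hcon ((f e v)⁻¹ • v) (by rw [map_smul, smul_eq_mul, inv_mul_cancel₀ h1])
      set! s : V := ∑ i ∈ Finset.range r, (y ^ i) v with hs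
      have hys : y s = s := by
        have h1 := sum_fix hyr (fun v => v) v
        rw [hs, map_sum]
        rw [← h1]
        refine Finset.sum_congr rfl fun i _ => ?_
        change (y * y ^ i) v = (y ^ i * y) v
        rw [← pow_succ', pow_succ]
      have hes : f e s = 1 := by
        rw [hs, map_sum]
        have h1 : ∀ i ∈ Finset.range r, f e ((y ^ i) v) = 1 := by
          intro i _
          have h2 := pow_Iso hy i e v
          rw [hpe he, hv] at h2
          exact h2
        rw [Finset.sum_congr rfl h1, Finset.sum_const, Finset.card_range, nsmul_eq_mul, nat_odd_cast hr, one_mul]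
      by_cases h1 : q' s = 0
      · refine ⟨e + s, by rw [map_add, he, hys], ?_⟩
        rw [hq'.add, h0, h1, hes, add_zero, zero_add]
        exact one_ne_zero
      · exact ⟨s, hys, h1⟩
    · exact ⟨e, he, h0⟩
  obtain ⟨c, hc⟩ := exists_T_one F
  obtain ⟨a, ha⟩ := exists_sq (F := F) (c / q' e1)
  have hw : Tr (q' (a • e1)) = 1 := by
    rw [hq'.smul, ha, div_mul_cancel₀ _ hq1, hc]
  have hyw : y (a • e1) = a • e1 := by rw [map_smul, he1]
  have hfix2 : ∀ v, sh f q' (a • e1) (y v) = sh f q' (a • e1) v := by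
    intro v
    rw [sh_apply, sh_apply, hfix]
    have h1 : f (y (a • e1)) (y v) = f (a • e1) v := hy _ _
    rw [hyw] at h1
    rw [h1]
  obtain ⟨x, hx, h1 | h1⟩ := orb_two hA hnd hq hq' hw
  · refine hno x hx fun z => ?_
    rw [← h1, ← h1]
    have h2 : x (x⁻¹ (y (x z))) = y (x z) := x.apply_symm_apply _
    rw [h2, hfix]
  · refine hno x hx fun z => ?_
    rw [← h1, ← h1]
    have h2 : x (x⁻¹ (y (x z))) = y (x z) := x.apply_symm_apply _
    rw [h2, hfix2]

/-- sizes of the invariant subgroups -/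
theorem card_inv {A : Type*} [AddCommGroup A] [Finite A] {n r : ℕ} (hr : r.Prime) (hrn : orderOf (2 : ZMod r) = n)
    {k : ℕ} (hk : Nat.card A = 2 ^ k) (y : A → A) (hyr : y^[r] = id) (h0 : y 0 = 0)
    (hfpf : ∀ a, y a = a → a = 0) : n ∣ k := by
  classical
  have := Fact.mk hr
  have := Fintype.ofFinite A
  have h1 : Fintype.card A ≡ Fintype.card (Function.fixedPoints y) [MOD r] := by
    have h2 := Equiv.Perm.card_fixedPoints_modEq (f := (show Function.End A from y)) (p := r) (n := 1) (by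
      rw [pow_one]
      funext a
      have h3 := congrFun hyr a
      have h4 : ∀ (m : ℕ) (g : Function.End A) (a : A), (g ^ m) a = (g : A → A)^[m] a := by
        intro m g
        induction m with
        | zero => intro a; rfl
        | succ m ih =>
          intro a
          rw [pow_succ]
          exact ih (g a)
      rw [h4]
      exact h3)
    convert h2
  have h2 : Fintype.card (Function.fixedPoints y) = 1 := by
    rw [Fintype.card_eq_one_iff]
    exact ⟨⟨0, h0⟩, fun a => Subtype.ext (hfpf a.1 a.2)⟩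
  rw [h2, ← Nat.card_eq_fintype_card, hk] at h1
  rw [← hrn, orderOf_dvd_iff_pow_eq_one]
  have h3 := (ZMod.natCast_eq_natCast_iff _ _ _).2 h1
  push_cast at h3
  exact h3

/-- the sizes of the invariant subgroups of `V` -/
theorem card_inv_V [Finite V] {n r : ℕ} (hn : 0 < n) (hr : r.Prime) (hrn : orderOf (2 : ZMod r) = n)
    (hV : Nat.card V = 2 ^ (2 * n)) {y : V ≃ₗ[F] V} (hyr : y ^ r = 1) (hfpf : ∀ v, y v = v → v = 0)
    (X : AddSubgroup V) (hX : ∀ v ∈ X, y v ∈ X) : Nat.card X = 1 ∨ Nat.card X = 2 ^ n ∨ X = ⊤ := by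
  obtain ⟨k, hk, hk2⟩ := (Nat.dvd_prime_pow Nat.prime_two).1 (hV ▸ X.card_addSubgroup_dvd_card)
  have h1 : n ∣ k := by
    refine card_inv hr hrn hk2 (fun v => ⟨y v, hX v v.2⟩) ?_ (Subtype.ext (map_zero y))
      (fun a ha => Subtype.ext (hfpf a.1 (congrArg Subtype.val ha)))
    funext v
    have h2 : ∀ (m : ℕ) (v : X), ((fun v : X => (⟨y v, hX v v.2⟩ : X))^[m] v : V) = (y ^ m) v := by
      intro m
      induction m with
      | zero => intro v; rfl
      | succ m ih =>
        intro v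
        rw [Function.iterate_succ_apply, ih, pow_succ]
        rfl
    apply Subtype.ext
    rw [h2, hyr]
    rfl
  obtain ⟨j, rfl⟩ := h1
  have h3 : j ≤ 2 := by
    by_contra hcon
    have : n * 3 ≤ n * j := Nat.mul_le_mul_left n (by omega)
    omega
  rcases (by omega : j = 0 ∨ j = 1 ∨ j = 2) with rfl | rfl | rfl
  · left; rw [hk2]; simp
  · right; left; rw [hk2, mul_one]
  · right; right
    rw [← AddSubgroup.card_eq_iff_eq_top, hk2, hV, mul_comm]

/-- a 2-group has a nonzero fixed vector in an invariant subgroup -/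
theorem exists_fixed_vec [Finite V] {N : Subgroup (V ≃ₗ[F] V)} (hN : IsPGroup 2 N) (X : AddSubgroup V) (hX0 : X ≠ ⊥)
    (hX : ∀ g ∈ N, ∀ v ∈ X, g v ∈ X) : ∃ v ∈ X, v ≠ 0 ∧ ∀ g ∈ N, g v = v := by
  have : Fact (Nat.Prime 2) := ⟨Nat.prime_two⟩
  let act : MulAction N X :=
    { smul := fun g v => ⟨g.1 v, hX g.1 g.2 v v.2⟩
      one_smul := fun v => rfl
      mul_smul := fun g h v => rfl }
  have hcard : 2 ∣ Nat.card X := by
    obtain ⟨v, hv0⟩ := AddSubgroup.ne_bot_iff_exists_ne_zero.1 hX0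
    have h1 : addOrderOf v = 2 := by
      apply addOrderOf_eq_prime
      · apply Subtype.ext
        change 2 • v.1 = 0
        rw [two_smul, vadd_self F]
      · exact hv0
    rw [← h1]
    exact addOrderOf_dvd_natCard _
  obtain ⟨v, hv, hv0⟩ := hN.exists_fixed_point_of_prime_dvd_card_of_fixed_point (α := X) hcard (a := 0) (by
    intro g
    exact Subtype.ext (map_zero g.1))
  refine ⟨v.1, v.2, fun h => hv0 (Subtype.ext h.symm), fun g hg => ?_⟩
  exact congrArg Subtype.val (hv ⟨g, hg⟩)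

/-- **the fixed space of a normal 2-subgroup** -/
theorem exists_W [FiniteDimensional F V] [Finite V] (hA : ∀ v, f v v = 0) (hnd : ∀ u, (∀ v, f u v = 0) → u = 0)
    {n r : ℕ} (hn : 0 < n) (hr : r.Prime) (hrn : orderOf (2 : ZMod r) = n) (hV : Nat.card V = 2 ^ (2 * n))
    {D0 : Subgroup (V ≃ₗ[F] V)} (hDI : D0 ≤ Iso (F := F) fun x y => f x y) {y : V ≃ₗ[F] V} (hyD : y ∈ D0)
    (hyr : y ^ r = 1) (hfpf : ∀ v, y v = v → v = 0) {N : Subgroup (V ≃ₗ[F] V)} (hN : IsPGroup 2 N) (hN1 : N ≠ ⊥)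
    (hND : N ≤ D0) (hNn : ∀ x ∈ D0, ∀ g ∈ N, x * g * x⁻¹ ∈ N) :
    ∃ W : Submodule F V, (∀ w, w ∈ W ↔ ∀ g ∈ N, g w = w) ∧ Nat.card W = 2 ^ n ∧ (∀ u ∈ W, ∀ v ∈ W, f u v = 0) ∧
      (∀ u, (∀ w ∈ W, f u w = 0) → u ∈ W) ∧ (∀ x ∈ D0, ∀ w ∈ W, x w ∈ W) ∧
      ∀ X : AddSubgroup V, (∀ x ∈ D0, ∀ v ∈ X, x v ∈ X) → Nat.card X = 2 ^ n → X = W.toAddSubgroup := by
  have hinvapp : ∀ (x : V ≃ₗ[F] V) (v : V), x (x⁻¹ v) = v := fun x v => x.apply_symm_apply v
  have h2n : 2 ^ n < 2 ^ (2 * n) := Nat.pow_lt_pow_right (by norm_num) (by omega)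
  have h1n : 1 < 2 ^ n := Nat.one_lt_two_pow (by omega)
  let W : Submodule F V :=
    { carrier := {w | ∀ g ∈ N, g w = w}
      add_mem' := fun {a b} ha hb g hg => by rw [map_add, ha g hg, hb g hg]
      zero_mem' := fun g _ => map_zero g
      smul_mem' := fun c v hv g hg => by rw [map_smul, hv g hg] }
  have hW : ∀ w, w ∈ W ↔ ∀ g ∈ N, g w = w := fun w => Iff.rfl
  have hWinv : ∀ x ∈ D0, ∀ w ∈ W, x w ∈ W := by
    intro x hx w hw g hg
    have h1 := hw _ (hNn x⁻¹ (inv_mem hx) g hg)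
    rw [inv_inv] at h1
    have h2 : (x⁻¹ * g * x) w = x⁻¹ (g (x w)) := rfl
    rw [h2] at h1
    have h3 := congrArg x h1
    rwa [hinvapp] at h3
  have hW0 : W ≠ ⊥ := by
    obtain ⟨v, -, hv0, hv⟩ := exists_fixed_vec hN (⊤ : AddSubgroup V) (by
      intro h
      have h1 : Nat.card (⊤ : AddSubgroup V) = 1 := by rw [h]; exact AddSubgroup.card_bot
      rw [AddSubgroup.card_top, hV] at h1
      omega) (fun _ _ _ _ => AddSubgroup.mem_top _)
    intro h
    apply hv0
    have h1 : v ∈ W := hv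
    rwa [h, Submodule.mem_bot] at h1
  have hWt : W ≠ ⊤ := by
    intro h
    apply hN1
    rw [Subgroup.eq_bot_iff_forall]
    intro g hg
    apply LinearEquiv.ext
    intro v
    have h1 : v ∈ W := by rw [h]; exact Submodule.mem_top
    exact h1 g hg
  have hWc : Nat.card W = 2 ^ n := by
    rcases card_inv_V hn hr hrn hV hyr hfpf W.toAddSubgroup (fun v hv => hWinv y hyD v hv) with h | h | h
    · exfalso
      apply hW0
      rw [Submodule.eq_bot_iff]
      intro w hw
      have h1 := AddSubgroup.card_eq_one.1 h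
      have h2 : w ∈ W.toAddSubgroup := hw
      rwa [h1, AddSubgroup.mem_bot] at h2
    · exact h
    · exfalso
      apply hWt
      rw [Submodule.eq_top_iff']
      intro w
      have h2 : w ∈ W.toAddSubgroup := by rw [h]; exact AddSubgroup.mem_top _
      exact h2
  -- the perpendicular space
  let P : Submodule F V :=
    { carrier := {u | ∀ w ∈ W, f u w = 0}
      add_mem' := fun {a b} ha hb w hw => by rw [map_add, LinearMap.add_apply, ha w hw, hb w hw, add_zero]
      zero_mem' := fun w _ => by rw [map_zero, LinearMap.zero_apply]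
      smul_mem' := fun c v hv w hw => by rw [map_smul, LinearMap.smul_apply, hv w hw, smul_zero] }
  have hPinv : ∀ x ∈ D0, ∀ w ∈ P, x w ∈ P := by
    intro x hx u hu w hw
    have h1 := hDI hx u (x⁻¹ w)
    change f (x u) (x (x⁻¹ w)) = f u (x⁻¹ w) at h1
    rw [hinvapp] at h1
    rw [h1]
    exact hu _ (hWinv _ (inv_mem hx) w hw)
  have hP0 : P ≠ ⊥ := by
    intro h
    apply hWt
    apply Submodule.eq_top_of_finrank_eq
    apply le_antisymm (Submodule.finrank_le W)
    let φ : V →ₗ[F] (Module.Dual F W) := (LinearMap.lcomp F F W.subtype).comp f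
    have hφ : Function.Injective φ := by
      rw [← LinearMap.ker_eq_bot, eq_bot_iff]
      intro u hu
      rw [← h]
      intro w hw
      have h1 := LinearMap.congr_fun (LinearMap.mem_ker.1 hu) ⟨w, hw⟩
      exact h1
    have h1 := LinearMap.finrank_le_finrank_of_injective hφ
    rwa [Subspace.dual_finrank_eq] at h1
  have hti : W ≤ P := by
    have h1 : Nat.card (W ⊓ P : Submodule F V) ≤ 2 ^ n := by
      rw [← hWc]
      exact Nat.card_le_card_of_injective (Submodule.inclusion (inf_le_left : W ⊓ P ≤ W))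
        (Submodule.inclusion_injective _)
    rcases card_inv_V hn hr hrn hV hyr hfpf (W ⊓ P).toAddSubgroup
      (fun v hv => ⟨hWinv y hyD v hv.1, hPinv y hyD v hv.2⟩) with h | h | h
    · exfalso
      obtain ⟨v, hv, hv0, hvN⟩ := exists_fixed_vec hN P.toAddSubgroup (by
        intro h
        apply hP0
        rw [Submodule.eq_bot_iff]
        intro w hw
        have h2 : w ∈ P.toAddSubgroup := hw
        rwa [h, AddSubgroup.mem_bot] at h2) (fun g hg v hv => hPinv g (hND hg) v hv)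
      have h2 : v ∈ (W ⊓ P).toAddSubgroup := ⟨hvN, hv⟩
      rw [AddSubgroup.card_eq_one.1 h, AddSubgroup.mem_bot] at h2
      exact hv0 h2
    · have h2 : W ⊓ P = W := by
        apply Submodule.toAddSubgroup_injective
        apply AddSubgroup.eq_of_le_of_card_ge
        · exact fun v hv => hv.1
        · rw [h]; exact hWc.le
      exact inf_eq_left.1 h2
    · exfalso
      have h2 : Nat.card (W ⊓ P).toAddSubgroup = 2 ^ (2 * n) := by
        rw [h, AddSubgroup.card_top, hV]
      have h3 : Nat.card (W ⊓ P).toAddSubgroup ≤ 2 ^ n := h1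
      omega
  have hPW : P = W := by
    rcases card_inv_V hn hr hrn hV hyr hfpf P.toAddSubgroup (fun v hv => hPinv y hyD v hv) with h | h | h
    · exfalso
      apply hP0
      rw [Submodule.eq_bot_iff]
      intro w hw
      have h2 : w ∈ P.toAddSubgroup := hw
      rwa [AddSubgroup.card_eq_one.1 h, AddSubgroup.mem_bot] at h2
    · symm
      apply Submodule.toAddSubgroup_injective
      apply AddSubgroup.eq_of_le_of_card_ge
      · exact fun v hv => hti hv
      · rw [h]; exact hWc.ge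
    · exfalso
      apply hW0
      rw [Submodule.eq_bot_iff]
      intro w hw
      -- `f v w = 0` for all `v`, symmetric
      have h3 : ∀ v, f v w = 0 := by
        intro v
        have h4 : v ∈ P.toAddSubgroup := by rw [h]; exact AddSubgroup.mem_top _
        exact h4 w hw
      exact hnd w fun v => by rw [symm_of_alt hA w v, h3]
  refine ⟨W, hW, hWc, fun u hu v hv => hti hu v hv, fun u hu => ?_, hWinv, fun X hX hXc => ?_⟩
  · rw [← hPW]
    exact hu
  · have hXt : X ≠ ⊤ := by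
      rintro rfl
      rw [AddSubgroup.card_top, hV] at hXc
      omega
    rcases card_inv_V hn hr hrn hV hyr hfpf (X ⊓ W.toAddSubgroup)
      (fun v hv => ⟨hX y hyD v hv.1, hWinv y hyD v hv.2⟩) with h | h | h
    · exfalso
      obtain ⟨v, hv, hv0, hvN⟩ := exists_fixed_vec hN X (by
        rintro rfl
        rw [AddSubgroup.card_bot] at hXc
        omega) (fun g hg v hv => hX g (hND hg) v hv)
      have h2 : v ∈ X ⊓ W.toAddSubgroup := ⟨hv, hvN⟩
      rw [AddSubgroup.card_eq_one.1 h, AddSubgroup.mem_bot] at h2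
      exact hv0 h2
    · have h2 : X ⊓ W.toAddSubgroup = X := by
        apply AddSubgroup.eq_of_le_of_card_ge inf_le_left
        rw [h, hXc]
      have h3 : X ⊓ W.toAddSubgroup = W.toAddSubgroup := by
        apply AddSubgroup.eq_of_le_of_card_ge inf_le_right
        rw [h]
        exact hWc.le
      rw [← h2, h3]
    · exfalso
      apply hXt
      rw [eq_top_iff, ← h]
      exact inf_le_left

end Cfsg.Agent.H383.Rg
end

-- part: H383/Rg/Cs
section
/-!
# S3691, case C-: a group regular on the minus forms and preserving a maximal totally isotropic subspace (helper383)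

* `Cs D B W q0 n` : the situation; `Cs.card_B` : `|B| = 2 ^ (n - 1) (2 ^ n - 1)`;
* the semiregularity over the cosets of `W` : `Cs.exists_over`, `Cs.card_A`
-/

set_option autoImplicit false
set_option linter.unusedSectionVars false

namespace Cfsg.Agent.H383.Rg

open Module QuadraticMap
open Cfsg.Agent.BpCl (Iso)
open Cfsg.Agent.H454.Reg Cfsg.Agent.H449.Reg
open Cfsg.Agent.H934.ArfO (T_eq_zero T_sq exists_T_one)

local notation "Tr" => Cfsg.Agent.H934.ArfO.T

universe u v

/-- the fibres of a surjective map to `ZMod 2` -/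
theorem card_fib {A : Type*} [AddCommGroup A] [Finite A] (φ : A →+ ZMod 2) (hφ : ∃ a, φ a = 1) (ε : ZMod 2) :
    2 * Nat.card {a // φ a = ε} = Nat.card A := by
  classical
  obtain ⟨a1, ha1⟩ := hφ
  have := Fintype.ofFinite A
  have e1 : Nat.card {a // φ a = ε} = Nat.card {a // φ a = ε + 1} := by
    refine Nat.card_congr (Equiv.subtypeEquiv (Equiv.addRight a1) fun a => ?_)
    rw [Equiv.coe_addRight, map_add, ha1]
    constructor
    · rintro rfl; rfl
    · intro h; exact add_right_cancel h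
  have e2 : Nat.card A = Nat.card {a // φ a = ε} + Nat.card {a // ¬ φ a = ε} := by
    rw [← Nat.card_congr (Equiv.sumCompl fun a => φ a = ε), Nat.card_sum]
  have e3 : Nat.card {a // ¬ φ a = ε} = Nat.card {a // φ a = ε + 1} := by
    refine Nat.card_congr (Equiv.subtypeEquivRight fun a => ?_)
    have : ∀ x y : ZMod 2, ¬ x = y ↔ x = y + 1 := by decide
    exact this _ _
  omega

variable {G : Type u} [Group G] {T : Subgroup G} {F : Type*} {V : Type*} [Field F] [Finite F] [CharP F 2]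
  [AddCommGroup V] [Module F V] {f : LinearMap.BilinForm F V}

/-- the situation -/
structure Cs (D : Sd T f) (B : Subgroup G) (W : Submodule F V) (q0 : V → F) (n : ℕ) : Prop where
  inv : ∀ b ∈ B, ∀ w ∈ W, (D.lf b).1 w ∈ W
  cW : Nat.card W = 2 ^ n
  cV : Nat.card V = 2 ^ (2 * n)
  ti : ∀ u ∈ W, ∀ v ∈ W, f u v = 0
  perp : ∀ u, (∀ w ∈ W, f u w = 0) → u ∈ W
  hq : IsQ f q0
  zero : ∀ w ∈ W, q0 w = 0
  free : ∀ v, Tr (q0 v) = 1 → ∀ b ∈ B, D.ac b (sh f q0 v) = sh f q0 v → b = 1
  trans : ∀ v v', Tr (q0 v) = 1 → Tr (q0 v') = 1 → ∃ b ∈ B, D.ac b (sh f q0 v) = sh f q0 v'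
  typ : ∀ v, Tr (q0 v) = 1 → ∀ b ∈ B, ∀ v', D.ac b (sh f q0 v) = sh f q0 v' → Tr (q0 v') = 1

namespace Cs

variable {D : Sd T f} {B : Subgroup G} {W : Submodule F V} {q0 : V → F} {n : ℕ} (C : Cs D B W q0 n)

include C

theorem n_pos : 0 < n := by
  rcases Nat.eq_zero_or_pos n with h | h
  · exfalso
    obtain ⟨v, hv⟩ := D.ne
    have h1 := C.cV
    rw [h, mul_zero, pow_zero, Nat.card_eq_one_iff_unique] at h1
    obtain ⟨h2, -⟩ := h1
    exact hv (Subsingleton.elim _ _)
  · exact h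

theorem finV : Finite V := Nat.finite_of_card_ne_zero (by rw [C.cV]; positivity)

theorem q_add {v w : V} (hw : w ∈ W) : Tr (q0 (v + w)) = Tr (q0 v) + Tr (f v w) := by
  rw [C.hq.add, C.zero w hw, add_zero, map_add]

/-- the trace map on `W` -/
theorem exists_w {v : V} (hv : v ∉ W) : ∃ w ∈ W, Tr (f v w) = 1 := by
  obtain ⟨w, hw, h⟩ : ∃ w ∈ W, f v w ≠ 0 := by
    by_contra hcon
    push Not at hcon
    exact hv (C.perp v hcon)
  obtain ⟨z, hz⟩ := exists_T_one F
  exact ⟨(z / f v w) • w, W.smul_mem _ hw, by rw [map_smul, smul_eq_mul, div_mul_cancel₀ _ h, hz]⟩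

theorem card_half {v : V} (hv : v ∉ W) : 2 * Nat.card {w : W // Tr (q0 (v + w)) = 1} = 2 ^ n := by
  have := C.finV
  let φ : W →+ ZMod 2 :=
    { toFun := fun w => Tr (f v w)
      map_zero' := by rw [Submodule.coe_zero, map_zero, map_zero]
      map_add' := fun a b => by rw [Submodule.coe_add, map_add, map_add] }
  obtain ⟨w, hw, h⟩ := C.exists_w hv
  have h1 := card_fib φ ⟨⟨w, hw⟩, h⟩ (1 + Tr (q0 v))
  rw [C.cW] at h1
  rw [← h1]
  congr 1
  refine Nat.card_congr (Equiv.subtypeEquivRight fun a => ?_)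
  change Tr (q0 (v + a)) = 1 ↔ Tr (f v a) = 1 + Tr (q0 v)
  rw [C.q_add a.2]
  have h2 : ∀ x y : ZMod 2, x + y = 1 ↔ y = 1 + x := by decide
  exact h2 _ _

theorem card_S : Nat.card {v : V // Tr (q0 v) = 1} * 2 ^ n = (2 ^ (2 * n) - 2 ^ n) * 2 ^ (n - 1) := by
  classical
  have := C.finV
  have := Fintype.ofFinite V
  have h1 : ∑ v : V, ∑ w : W, (if Tr (q0 (v + w)) = 1 then 1 else 0) =
      ∑ v : V, (if v ∈ W then 0 else 2 ^ (n - 1)) := by
    refine Finset.sum_congr rfl fun v _ => ?_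
    split_ifs with hv
    · refine Finset.sum_eq_zero fun w _ => ?_
      rw [if_neg]
      rw [C.zero _ (W.add_mem hv w.2), map_zero]
      exact zero_ne_one
    · rw [← Finset.card_filter, ← Fintype.card_subtype, ← Nat.card_eq_fintype_card]
      have h2 := C.card_half hv
      have h3 : 2 ^ n = 2 * 2 ^ (n - 1) := by
        rw [← pow_succ']
        congr 1
        have := C.n_pos
        omega
      omega
  have h2 : ∑ v : V, (if v ∈ W then 0 else 2 ^ (n - 1)) = (2 ^ (2 * n) - 2 ^ n) * 2 ^ (n - 1) := by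
    rw [Finset.sum_ite, Finset.sum_const_zero, zero_add, Finset.sum_const, smul_eq_mul]
    congr 1
    rw [← Fintype.card_subtype, Fintype.card_subtype_compl, ← Nat.card_eq_fintype_card, C.cV]
    congr 1
    rw [← C.cW, Nat.card_eq_fintype_card]
  have h3 : ∑ v : V, ∑ w : W, (if Tr (q0 (v + w)) = 1 then 1 else 0) = Nat.card {v : V // Tr (q0 v) = 1} * 2 ^ n := by
    rw [Finset.sum_comm]
    have h4 : ∀ w ∈ (Finset.univ : Finset W), ∑ v : V, (if Tr (q0 (v + w)) = 1 then 1 else 0) =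
        Nat.card {v : V // Tr (q0 v) = 1} := by
      intro w _
      rw [Nat.card_eq_fintype_card, Fintype.card_subtype, Finset.card_filter]
      exact Fintype.sum_equiv (Equiv.addRight (w : V)) _ _ fun v => rfl
    rw [Finset.sum_congr rfl h4, Finset.sum_const, smul_eq_mul, Finset.card_univ, ← Nat.card_eq_fintype_card, C.cW,
      mul_comm]
  rw [← h3, h1, h2]

theorem card_S' : Nat.card {v : V // Tr (q0 v) = 1} = 2 ^ (n - 1) * (2 ^ n - 1) := by
  have h1 := C.card_S
  have h2 : 2 ^ (2 * n) - 2 ^ n = (2 ^ n - 1) * 2 ^ n := by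
    rw [Nat.sub_mul, one_mul, ← pow_add, two_mul]
  rw [h2] at h1
  have h3 : 0 < 2 ^ n := by positivity
  apply Nat.eq_of_mul_eq_mul_right h3
  rw [h1]
  ring

/-- a vector over each coset -/
theorem exists_over {v : V} (hv : v ∉ W) : ∃ w ∈ W, Tr (q0 (v + w)) = 1 := by
  by_cases h : Tr (q0 v) = 1
  · exact ⟨0, W.zero_mem, by rwa [add_zero]⟩
  · obtain ⟨w, hw, h1⟩ := C.exists_w hv
    refine ⟨w, hw, ?_⟩
    rw [C.q_add hw, h1]
    have : ∀ x : ZMod 2, ¬ x = 1 → x + 1 = 1 := by decide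
    exact this _ h

theorem exists_not_mem : ∃ v : V, v ∉ W := by
  by_contra hcon
  push Not at hcon
  have h1 : W = ⊤ := by rw [Submodule.eq_top_iff']; exact hcon
  have h2 := C.cW
  rw [h1] at h2
  have h3 : Nat.card (⊤ : Submodule F V) = Nat.card V := Nat.card_congr Submodule.topEquiv.toEquiv
  rw [h3, C.cV] at h2
  have h4 := C.n_pos
  have h5 : 2 ^ n < 2 ^ (2 * n) := Nat.pow_lt_pow_right (by norm_num) (by omega)
  omega

/-- **the order of `B`** -/
theorem card_B [FiniteDimensional F V] : Nat.card B = 2 ^ (n - 1) * (2 ^ n - 1) := by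
  rw [← C.card_S']
  obtain ⟨v0, hv0⟩ := C.exists_not_mem
  obtain ⟨w0, -, h0⟩ := C.exists_over hv0
  set v1 := v0 + w0
  have hex : ∀ b : B, ∃ v, Tr (q0 v) = 1 ∧ D.ac b.1 (sh f q0 v1) = sh f q0 v := by
    intro b
    obtain ⟨v, hv⟩ := exists_sh D.nd C.hq (D.ac_isQ b.1 (C.hq.sh v1))
    exact ⟨v, C.typ v1 h0 b.1 b.2 v hv, hv⟩
  choose φ hφ1 hφ2 using hex
  refine Nat.card_congr (Equiv.ofBijective (fun b : B => (⟨φ b, hφ1 b⟩ : {v : V // Tr (q0 v) = 1})) ⟨?_, ?_⟩)
  · intro b c hbc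
    have h1 : φ b = φ c := congrArg Subtype.val hbc
    have h2 : D.ac b.1 (sh f q0 v1) = D.ac c.1 (sh f q0 v1) := by rw [hφ2, hφ2, h1]
    have h3 : D.ac ((c⁻¹ * b : B) : G) (sh f q0 v1) = sh f q0 v1 := by
      rw [Subgroup.coe_mul, Subgroup.coe_inv, D.ac_mul, h2, ← D.ac_mul, inv_mul_cancel, D.ac_one]
    have h4 := C.free v1 h0 _ (c⁻¹ * b).2 h3
    have h5 : c⁻¹ * b = 1 := Subtype.ext h4
    exact (inv_mul_eq_one.1 h5).symm
  · rintro ⟨v, hv⟩
    obtain ⟨b, hb, h1⟩ := C.trans v1 v h0 hv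
    refine ⟨⟨b, hb⟩, Subtype.ext ?_⟩
    apply sh_inj D.nd (q := q0)
    rw [← hφ2]
    exact h1

end Cs

end Cfsg.Agent.H383.Rg
end

-- part: H383/Rg/CAl
section
/-!
# S3691, case C-: the final step (alpha) (helper383)

* `cent_of_small` : an element of order `r` centralises a normal 2-subgroup of order `< 2 ^ n`;
* `Cs.false` : the situation is impossible if `B ∩ T` contains an element of order `r` and an element trivial on `V / W`.
-/

set_option autoImplicit false
set_option linter.unusedSectionVars false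

namespace Cfsg.Agent.H383.Rg

open Module QuadraticMap
open Cfsg.Agent.BpCl (Iso)
open Cfsg.Agent.H454.Reg Cfsg.Agent.H449.Reg
open Cfsg.Agent.H934.ArfO (T_eq_zero T_sq exists_T_one)

local notation "Tr" => Cfsg.Agent.H934.ArfO.T

universe u v

/-- an element of order `r` centralises a small normal 2-subgroup -/
theorem cent_of_small {X : Type*} [Group X] [Finite X] {A : Subgroup X} (hAn : A.Normal) (hA : IsPGroup 2 A) {n r : ℕ}
    (hn : 0 < n) (hlt : Nat.card A < 2 ^ n) (hr : r.Prime) (hrn : orderOf (2 : ZMod r) = n) {y : X} (hy : y ^ r = 1)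
    {a : X} (ha : a ∈ A) : y * a = a * y := by
  classical
  have := Fact.mk hr
  have : Fact (Nat.Prime 2) := ⟨Nat.prime_two⟩
  have := Fintype.ofFinite A
  let g : Function.End A := fun a => ⟨y * a * y⁻¹, hAn.conj_mem a a.2 y⟩
  have hg : ∀ (m : ℕ) (a : A), ((g ^ m) a : X) = y ^ m * a * (y ^ m)⁻¹ := by
    intro m
    induction m with
    | zero => intro a; simp; rfl
    | succ m ih =>
      intro a
      rw [pow_succ]
      have h1 := ih (g a)
      have h2 : ((g ^ m * g) a : X) = ((g ^ m) (g a) : X) := rfl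
      rw [h2, h1]
      change y ^ m * (y * a * y⁻¹) * (y ^ m)⁻¹ = _
      rw [pow_succ]
      group
  have h1 := Equiv.Perm.card_fixedPoints_modEq (f := g) (p := r) (n := 1) (by
    rw [pow_one]
    funext a
    apply Subtype.ext
    rw [hg, hy]
    simp
    rfl)
  let S : Subgroup A := (Subgroup.centralizer {y}).subgroupOf A
  have h2 : Fintype.card (Function.fixedPoints g) = Nat.card S := by
    rw [Nat.card_eq_fintype_card]
    refine Fintype.card_congr (Equiv.subtypeEquivRight fun a => ?_)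
    rw [Subgroup.mem_subgroupOf, Subgroup.mem_centralizer_singleton_iff]
    constructor
    · intro h
      have h3 : y * a * y⁻¹ = a := congrArg Subtype.val h
      exact (mul_inv_eq_iff_eq_mul.1 h3).symm
    · intro h
      apply Subtype.ext
      change y * a * y⁻¹ = a
      rw [mul_inv_eq_iff_eq_mul]
      exact h.symm
  obtain ⟨k, hk⟩ := IsPGroup.iff_card.1 hA
  obtain ⟨j, hj⟩ := IsPGroup.iff_card.1 (hA.to_subgroup S)
  rw [h2, ← Nat.card_eq_fintype_card, hk, hj] at h1
  have hkn : k < n := (Nat.pow_lt_pow_iff_right (by norm_num)).1 (hk ▸ hlt)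
  have hjk : j ≤ k := by
    have h3 : Nat.card S ≤ Nat.card A := Nat.card_le_card_of_injective (fun s : S => (s : A)) Subtype.val_injective
    rw [hj, hk] at h3
    exact (Nat.pow_le_pow_iff_right (by norm_num)).1 h3
  have hr2 : (2 : ZMod r) ≠ 0 := by
    intro h
    rw [h, orderOf_eq_zero_iff'.2 (by
      intro m hm h3
      rw [zero_pow hm.ne'] at h3
      exact zero_ne_one h3)] at hrn
    omega
  have h3 := (ZMod.natCast_eq_natCast_iff _ _ _).2 h1
  push_cast at h3
  have h4 : (2 : ZMod r) ^ (k - j) = 1 := by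
    apply mul_right_cancel₀ (pow_ne_zero j hr2)
    rw [← pow_add, Nat.sub_add_cancel hjk, h3, one_mul]
  have h5 : n ∣ k - j := by
    rw [← hrn]
    exact orderOf_dvd_of_pow_eq_one h4
  have h6 : k - j = 0 := Nat.eq_zero_of_dvd_of_lt h5 (by omega)
  have h7 : S = ⊤ := by
    rw [← Subgroup.card_eq_iff_eq_top, hj, hk]
    congr 1
    omega
  have h8 : (⟨a, ha⟩ : A) ∈ S := by rw [h7]; exact Subgroup.mem_top _
  rw [Subgroup.mem_subgroupOf, Subgroup.mem_centralizer_singleton_iff] at h8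
  exact h8.symm

/-- additive maps to a representation over `ZMod 2` -/
noncomputable def actHom {X U : Type*} [Group X] [AddCommGroup U] [Module (ZMod 2) U] (ρ : X → U →+ U)
    (h1 : ∀ u, ρ 1 u = u) (hm : ∀ a b u, ρ (a * b) u = ρ a (ρ b u)) : X →* (U ≃ₗ[ZMod 2] U) where
  toFun a := LinearEquiv.ofLinearMap ((ρ a).toZModLinearMap 2) ((ρ a⁻¹).toZModLinearMap 2)
    (by
      ext u
      change ρ a (ρ a⁻¹ u) = u
      rw [← hm, mul_inv_cancel, h1])
    (by
      ext u
      change ρ a⁻¹ (ρ a u) = u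
      rw [← hm, inv_mul_cancel, h1])
  map_one' := by
    apply LinearEquiv.ext
    intro u
    exact h1 u
  map_mul' a b := by
    apply LinearEquiv.ext
    intro u
    exact hm a b u

theorem sq_lt {n : ℕ} (hn : 9 ≤ n) : n ^ 2 < 2 ^ (n - 2) := by
  induction n, hn using Nat.le_induction with
  | base => norm_num
  | succ n hn ih =>
    have h1 : 2 ^ (n + 1 - 2) = 2 * 2 ^ (n - 2) := by
      rw [← pow_succ']
      congr 1
      omega
    rw [h1]
    nlinarith

variable {G : Type u} [Group G] {T : Subgroup G} {F : Type*} {V : Type v} [Field F] [Finite F] [CharP F 2]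
  [AddCommGroup V] [Module F V] {f : LinearMap.BilinForm F V}

/-- the action of `B ∩ T` on `V` -/
@[instance_reducible]
noncomputable def Sd.actB (D : Sd T f) (B : Subgroup G) : DistribMulAction (B.subgroupOf T) V where
  smul x v := (D.lf (x.1.1 : G)).1 v
  one_smul v := D.lf_one_apply v
  mul_smul _ _ v := D.lf_mul_apply _ _ v
  smul_zero _ := D.lf_zero _
  smul_add _ u v := D.lf_add _ u v

/-- `β = f` -/
noncomputable def bet (f : LinearMap.BilinForm F V) : V →+ V →+ F where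
  toFun u := (f u).toAddMonoidHom
  map_zero' := by
    ext v
    change f 0 v = 0
    rw [map_zero, LinearMap.zero_apply]
  map_add' u v := by
    ext w
    change f (u + v) w = f u w + f v w
    rw [map_add, LinearMap.add_apply]

/-- `B ∩ T → B` -/
def iot (T B : Subgroup G) : B.subgroupOf T →* B where
  toFun x := ⟨x.1.1, x.2⟩
  map_one' := rfl
  map_mul' _ _ := rfl

namespace Cs

variable {D : Sd T f} {B : Subgroup G} {W : Submodule F V} {q0 : V → F} {n : ℕ} (C : Cs D B W q0 n)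

include C

/-- the cocycle -/
theorem exists_d [FiniteDimensional F V] (b : G) (hb : b ∈ B) : ∃ d ∈ W, D.ac b q0 = sh f q0 d := by
  obtain ⟨d, hd⟩ := exists_sh D.nd C.hq (D.ac_isQ b C.hq)
  refine ⟨d, C.perp d fun w hw => ?_, hd⟩
  have h1 := congrFun hd w
  rw [sh_apply, C.zero w hw, zero_add, Sd.ac, C.zero _ (C.inv b⁻¹ (B.inv_mem hb) w hw), map_zero] at h1
  exact pow_eq_zero_iff (two_ne_zero) |>.1 h1.symm

/-- the elements of `B ∩ T` trivial on `V / W` are trivial on `W` -/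
theorem triv {a : G} (ha : a ∈ T) (hab : a ∈ B) (h : ∀ v, (D.lf a).1 v - v ∈ W) {w : V} (hw : w ∈ W) :
    (D.lf a).1 w = w := by
  rw [← sub_eq_zero]
  apply D.nd
  intro v
  have h1 := D.lf_form a w v
  rw [D.sg_T ha] at h1
  have h2 : (D.lf a).1 v = v + ((D.lf a).1 v - v) := by abel
  rw [h2, map_add, C.ti _ (C.inv a hab w hw) _ (h v), add_zero] at h1
  rw [map_sub, LinearMap.sub_apply, h1, sub_self]

theorem sq_one {a : G} (ha : a ∈ T) (hab : a ∈ B) (h : ∀ v, (D.lf a).1 v - v ∈ W) : a * a = 1 := by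
  apply D.lf_inj
  intro v
  rw [D.lf_mul_apply]
  have h2 : (D.lf a).1 v = v + ((D.lf a).1 v - v) := by abel
  rw [h2, D.lf_add, C.triv ha hab h (h v)]
  nth_rw 1 [h2]
  rw [add_assoc, vadd_self F, add_zero]

theorem false_aux [FiniteDimensional F V] [Finite G] (hMain : H667.HerFin.Main.{v}) (hbig : 2 ^ 50 ≤ 2 ^ n) {r : ℕ}
    (hr : r.Prime) (hrn : orderOf (2 : ZMod r) = n) {x0 : Iso (F := F) fun x y => f x y} (hx0B : (D.R.π x0 : G) ∈ B)
    (hx0r : x0.1 ^ r = 1) (hx01 : x0 ≠ 1) (hfpf : ∀ v, x0.1 v = v → v = 0)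
    (hN : ∃ a ∈ T, a ∈ B ∧ a ≠ 1 ∧ ∀ v, (D.lf a).1 v - v ∈ W)
    {U : Type v} [AddCommGroup U] [Module (ZMod 2) U] [Finite U] (pr : V →+ U) (hpr : Function.Surjective pr)
    (hprW : ∀ v, pr v = 0 ↔ v ∈ W) (ρ : B → U →+ U) (hρ : ∀ b v, ρ b (pr v) = pr ((D.lf (b : G)).1 v)) : False := by
  classical
  have hnpos := C.n_pos
  have hfinV := C.finV
  have h50 : 50 ≤ n := (Nat.pow_le_pow_iff_right (by norm_num)).1 hbig
  have h1ρ : ∀ u, ρ 1 u = u := by
    intro u
    obtain ⟨v, rfl⟩ := hpr u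
    rw [hρ, Subgroup.coe_one, D.lf_one_apply]
  have hmρ : ∀ a b u, ρ (a * b) u = ρ a (ρ b u) := by
    intro a b u
    obtain ⟨v, rfl⟩ := hpr u
    rw [hρ, hρ, hρ, Subgroup.coe_mul, D.lf_mul_apply]
  let ρ' : B →* (U ≃ₗ[ZMod 2] U) := actHom ρ h1ρ hmρ
  have hρ' : ∀ (b : B) (v : V), ρ' b (pr v) = pr ((D.lf (b : G)).1 v) := hρ
  let τ : B.subgroupOf T →* (U ≃ₗ[ZMod 2] U) := ρ'.comp (iot T B)
  let actI : DistribMulAction (B.subgroupOf T) V := D.actB B
  have hsm : ∀ (x : B.subgroupOf T) (v : V), x • v = (D.lf (x.1.1 : G)).1 v := fun _ _ => rfl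
  have hτ : ∀ (x : B.subgroupOf T) (v : V), τ x (pr v) = pr ((D.lf (x.1.1 : G)).1 v) := fun x v => hρ' _ _
  have hkerW : ∀ v, v ∈ pr.ker ↔ v ∈ W := fun v => by rw [AddMonoidHom.mem_ker, hprW]
  have hsubW : ∀ u v, pr u = pr v ↔ u - v ∈ W := fun u v => by rw [← hprW, map_sub, sub_eq_zero]
  have hkerB : ∀ b : B, b ∈ ρ'.ker ↔ ∀ v, (D.lf (b : G)).1 v - v ∈ W := by
    intro b
    rw [MonoidHom.mem_ker]
    constructor
    · intro h v
      rw [← hsubW, ← hρ', h]
      rfl
    · intro h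
      apply LinearEquiv.ext
      intro u
      obtain ⟨v, rfl⟩ := hpr u
      rw [hρ', (hsubW _ _).2 (h v)]
      rfl
  have hker : ∀ a : B.subgroupOf T, a ∈ τ.ker ↔ ∀ v, (D.lf (a.1.1 : G)).1 v - v ∈ W := fun a => hkerB (iot T B a)
  have hcU : Nat.card U = 2 ^ n := by
    have h1 := pr.ker.card_mul_index
    rw [AddSubgroup.index_ker, C.cV] at h1
    have h2 : Nat.card pr.range = Nat.card U := by
      rw [AddMonoidHom.range_eq_top.2 hpr, AddSubgroup.card_top]
    have h3 : Nat.card pr.ker = Nat.card W := Nat.card_congr (Equiv.subtypeEquivRight hkerW)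
    rw [h2, h3, C.cW, two_mul, pow_add] at h1
    exact Nat.eq_of_mul_eq_mul_left (by positivity) h1
  -- the cocycle
  choose d hdW hd using fun b : B => C.exists_d b.1 b.2
  have hdm : ∀ a b : B, d (a * b) = d a + (D.lf (a : G)).1 (d b) := by
    intro a b
    apply sh_inj D.nd (q := q0)
    rw [← hd, Subgroup.coe_mul, D.ac_mul, hd b, D.ac_sh, hd a, sh_sh]
  have hact : ∀ (b : B) (v : V), D.ac (b : G) (sh f q0 v) = sh f q0 (d b + (D.lf (b : G)).1 v) := by
    intro b v
    rw [D.ac_sh, hd b, sh_sh]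
  have hover : ∀ u : U, u ≠ 0 → ∃ v, pr v = u ∧ Tr (q0 v) = 1 := by
    intro u hu
    obtain ⟨v, rfl⟩ := hpr u
    have hv : v ∉ W := fun h => hu ((hprW v).2 h)
    obtain ⟨w, hw, h⟩ := C.exists_over hv
    exact ⟨v + w, by rw [map_add, (hprW w).2 hw, add_zero], h⟩
  have hAp : IsPGroup 2 τ.ker := by
    intro a
    refine ⟨1, ?_⟩
    apply Subtype.ext
    apply Subtype.ext
    apply Subtype.ext
    rw [pow_one, pow_two]
    exact C.sq_one a.1.1.2 a.1.2 ((hker a.1).1 a.2)
  have hAle : Nat.card τ.ker ≤ 2 ^ (n - 1) := by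
    obtain ⟨v, hv⟩ := C.exists_not_mem
    obtain ⟨w0, hw0, h0⟩ := C.exists_over hv
    have h2 : Nat.card {w : W // Tr (q0 (v + w)) = 1} = 2 ^ (n - 1) := by
      have h3 := C.card_half hv
      have h4 : 2 ^ n = 2 * 2 ^ (n - 1) := by
        rw [← pow_succ']
        congr 1
        omega
      omega
    rw [← h2]
    have hmem : ∀ a : τ.ker, d (iot T B a.1) + ((D.lf (a.1.1.1 : G)).1 (v + w0) - (v + w0)) + w0 ∈ W := fun a =>
      W.add_mem (W.add_mem (hdW _) ((hker a.1).1 a.2 _)) hw0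
    have heq : ∀ a : τ.ker, v + (d (iot T B a.1) + ((D.lf (a.1.1.1 : G)).1 (v + w0) - (v + w0)) + w0) =
        d (iot T B a.1) + (D.lf (a.1.1.1 : G)).1 (v + w0) := fun a => by abel
    have hac : ∀ a : τ.ker, D.ac (a.1.1.1 : G) (sh f q0 (v + w0)) =
        sh f q0 (d (iot T B a.1) + (D.lf (a.1.1.1 : G)).1 (v + w0)) := fun a => hact (iot T B a.1) (v + w0)
    refine Nat.card_le_card_of_injective (fun a : τ.ker => (⟨⟨_, hmem a⟩, by
      rw [heq]
      exact C.typ _ h0 _ a.1.2 _ (hac a)⟩ : {w : W // Tr (q0 (v + w)) = 1})) ?_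
    intro a b hab
    have h3 : d (iot T B a.1) + ((D.lf (a.1.1.1 : G)).1 (v + w0) - (v + w0)) + w0 =
        d (iot T B b.1) + ((D.lf (b.1.1.1 : G)).1 (v + w0) - (v + w0)) + w0 := congrArg (fun z => ((z.1 : W) : V)) hab
    have h4 : D.ac (a.1.1.1 : G) (sh f q0 (v + w0)) = D.ac (b.1.1.1 : G) (sh f q0 (v + w0)) := by
      rw [hac, hac, ← heq, ← heq, h3]
    have h5 : D.ac ((b.1.1.1 : G)⁻¹ * (a.1.1.1 : G)) (sh f q0 (v + w0)) = sh f q0 (v + w0) := by
      rw [D.ac_mul, h4, ← D.ac_mul, inv_mul_cancel, D.ac_one]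
    have h6 := C.free _ h0 _ (B.mul_mem (B.inv_mem b.1.2) a.1.2) h5
    apply Subtype.ext
    apply Subtype.ext
    apply Subtype.ext
    exact (inv_mul_eq_one.1 h6).symm
  have h2n : 2 ^ (n - 1) < 2 ^ n := Nat.pow_lt_pow_right (by norm_num) (by omega)
  have hAlt : Nat.card τ.ker < 2 ^ n := lt_of_le_of_lt hAle h2n
  -- the element of order `r`
  let y : B.subgroupOf T := ⟨D.R.π x0, hx0B⟩
  have hyr : y ^ r = 1 := by
    have h1 : x0 ^ r = 1 := Subtype.ext hx0r
    apply Subtype.ext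
    change D.R.π x0 ^ r = 1
    rw [← map_pow, h1, map_one]
  have hyv : ∀ v, (D.lf (y.1.1 : G)).1 v = x0.1 v := fun v => D.lf_T x0 v
  have hAfix : ∀ a ∈ τ.ker, a ≠ 1 → ∀ v : V, a • v = v → v ∈ pr.ker := by
    intro a ha ha1 v hv
    have hc := cent_of_small (MonoidHom.normal_ker τ) hAp hnpos hAlt hr hrn hyr ha
    let X : AddSubgroup V :=
      { carrier := {v | (D.lf (a.1.1 : G)).1 v = v}
        add_mem' := fun {u v} hu hv => by
          change (D.lf (a.1.1 : G)).1 (u + v) = u + v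
          rw [D.lf_add, show (D.lf (a.1.1 : G)).1 u = u from hu, show (D.lf (a.1.1 : G)).1 v = v from hv]
        zero_mem' := D.lf_zero _
        neg_mem' := fun {u} hu => by
          change (D.lf (a.1.1 : G)).1 (-u) = -u
          rw [vneg F]
          exact hu }
    have hXy : ∀ v ∈ X, x0.1 v ∈ X := by
      intro v hv
      change (D.lf (a.1.1 : G)).1 (x0.1 v) = x0.1 v
      have h1 : (D.lf (a.1.1 : G)).1 v = v := hv
      have h2 := hsm (a * y) v
      rw [← hc, hsm, ] at h2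
      have h3 : (D.lf ((y * a).1.1 : G)).1 v = (D.lf (y.1.1 : G)).1 ((D.lf (a.1.1 : G)).1 v) := D.lf_mul_apply _ _ _
      have h4 : (D.lf ((a * y).1.1 : G)).1 v = (D.lf (a.1.1 : G)).1 ((D.lf (y.1.1 : G)).1 v) := D.lf_mul_apply _ _ _
      rw [← hc, h3, h1, hyv] at h4
      exact h4.symm
    have hWX : W.toAddSubgroup ≤ X := fun w hw => C.triv a.1.2 a.2 ((hker a).1 ha) hw
    have h1n : 1 < 2 ^ n := Nat.one_lt_two_pow (by omega)
    rcases card_inv_V hnpos hr hrn C.cV hx0r hfpf X hXy with h | h | h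
    · exfalso
      have h1 : Nat.card W.toAddSubgroup ≤ Nat.card X :=
        Nat.card_le_card_of_injective _ (AddSubgroup.inclusion_injective hWX)
      rw [h] at h1
      have h2 : Nat.card W.toAddSubgroup = 2 ^ n := C.cW
      omega
    · have h1 : W.toAddSubgroup = X := AddSubgroup.eq_of_le_of_card_ge hWX (by rw [h]; exact C.cW.ge)
      rw [hkerW]
      have h2 : v ∈ X := hv
      rw [← h1] at h2
      exact h2
    · exfalso
      apply ha1
      apply Subtype.ext
      apply Subtype.ext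
      apply D.lf_inj
      intro v
      have h1 : v ∈ X := by rw [h]; exact AddSubgroup.mem_top _
      exact h1
  have hAne : τ.ker ≠ ⊥ := by
    obtain ⟨a, haT, haB, ha1, ha⟩ := hN
    intro h
    have h1 : (⟨⟨a, haT⟩, haB⟩ : B.subgroupOf T) ∈ τ.ker := (hker _).2 ha
    rw [h, Subgroup.mem_bot] at h1
    exact ha1 (congrArg (fun z : B.subgroupOf T => z.1.1) h1)
  -- kernel of `ρ'`
  have hkerT : ∀ b : B, b ∈ ρ'.ker → (b : G) ∈ T := by
    intro b hb
    rw [hkerB] at hb
    apply D.mem_T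
    intro a
    obtain ⟨v, hv⟩ := C.exists_not_mem
    by_contra hne
    apply hv
    have h1 := W.sub_mem (W.smul_mem (D.sg (b : G) a) (hb v)) (hb (a • v))
    rw [D.lf_smul] at h1
    have h2 : D.sg (b : G) a • ((D.lf (b : G)).1 v - v) - (D.sg (b : G) a • (D.lf (b : G)).1 v - a • v) =
        (a - D.sg (b : G) a) • v := by
      rw [smul_sub, sub_smul]
      abel
    rw [h2] at h1
    have h3 := W.smul_mem (a - D.sg (b : G) a)⁻¹ h1
    rwa [smul_smul, inv_mul_cancel₀ (sub_ne_zero.2 (Ne.symm hne)), one_smul] at h3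
  have hcker : Nat.card ρ'.ker = Nat.card τ.ker := by
    refine (Nat.card_congr (Equiv.ofBijective (fun a : τ.ker => (⟨iot T B a.1, a.2⟩ : ρ'.ker)) ⟨?_, ?_⟩)).symm
    · intro a b hab
      apply Subtype.ext
      apply Subtype.ext
      apply Subtype.ext
      exact congrArg (fun z : ρ'.ker => ((z.1 : B) : G)) hab
    · rintro ⟨b, hb⟩
      exact ⟨⟨⟨⟨b.1, hkerT b hb⟩, b.2⟩, hb⟩, rfl⟩
  have hcB : Nat.card τ.ker * Nat.card ρ'.range = 2 ^ (n - 1) * (2 ^ n - 1) := by
    rw [← C.card_B, ← hcker, ← Subgroup.index_ker, Subgroup.card_mul_index]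
  refine H386.Rg.alpha (p := 2) (n := n) hMain (V := V) (fun v => by rw [two_smul, vadd_self F]) (U := U) hcU hbig
    (D := B.subgroupOf T) pr hpr τ (fun x v => (hτ x v).symm) ?_ hAp ?_ hAfix hAne hAlt ρ'.range ?_ ?_ (Z := F)
    (AddMonoidHom.id F) (bet f) ?_ ?_ ?_ 1 (n - 1) one_pos ?_ ?_ ?_ hr hrn ?_ (fun x => d (iot T B x)) ?_ ?_ ?_
  · rw [hcU, Nat.card_congr (Equiv.subtypeEquivRight hkerW)]
    exact C.cW
  · intro a ha w hw
    exact C.triv a.1.2 a.2 ((hker a).1 ha) ((hkerW w).1 hw)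
  · -- transitive
    intro u u' hu hu'
    obtain ⟨v, rfl, hv⟩ := hover u hu
    obtain ⟨v', rfl, hv'⟩ := hover u' hu'
    obtain ⟨b, hb, h⟩ := C.trans v v' hv hv'
    refine ⟨ρ' ⟨b, hb⟩, ⟨_, rfl⟩, ?_⟩
    rw [hρ']
    have h1 := hact ⟨b, hb⟩ v
    have h2 : d ⟨b, hb⟩ + (D.lf b).1 v = v' := sh_inj D.nd (h1.symm.trans h)
    rw [← h2, map_add, (hprW _).2 (hdW _), zero_add]
  · refine ⟨1, ?_⟩
    rw [Subgroup.map_le_iff_le_comap, derivedSeries_one, commutator_def, Subgroup.commutator_le]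
    rintro ⟨_, b1, rfl⟩ - ⟨_, b2, rfl⟩ -
    refine ⟨⟨⟨(b1 : G) * b2 * (b1 : G)⁻¹ * (b2 : G)⁻¹, D.comm_mem_T _ _⟩,
      B.mul_mem (B.mul_mem (B.mul_mem b1.2 b2.2) (B.inv_mem b1.2)) (B.inv_mem b2.2)⟩, ?_⟩
    change ρ' (b1 * b2 * b1⁻¹ * b2⁻¹) = _
    rw [map_mul, map_mul, map_mul, map_inv, map_inv]
    rfl
  · intro x u v
    change f ((D.lf (x.1.1 : G)).1 u) ((D.lf (x.1.1 : G)).1 v) = f u v
    rw [D.lf_form, D.sg_T x.1.2]
  · intro u hu
    rw [hkerW]
    exact C.perp u fun w hw => hu w ((hkerW w).2 hw)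
  · intro a ha u v
    change f u ((D.lf (a.1.1 : G)).1 v - v) = f v ((D.lf (a.1.1 : G)).1 u - u)
    rw [map_sub, map_sub, symm_of_alt D.alt u v]
    congr 1
    have h1 := D.lf_form (a.1.1 : G) u ((D.lf (a.1.1 : G)).1 v)
    rw [D.sg_T a.1.2, ← D.lf_mul_apply, C.sq_one a.1.2 a.2 ((hker a).1 ha), D.lf_one_apply] at h1
    rw [← h1, symm_of_alt D.alt]
  · rw [one_mul, ← C.card_B]
    refine Subgroup.card_dvd_of_injective (iot T B) ?_
    intro a b hab
    apply Subtype.ext
    apply Subtype.ext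
    exact congrArg (fun z : B => (z : G)) hab
  · have h1 : (1 + 1) ^ 3 < 2 ^ 50 := by norm_num
    exact lt_of_lt_of_le h1 hbig
  · -- the 2-part
    have : Fact (Nat.Prime 2) := ⟨Nat.prime_two⟩
    obtain ⟨k, hk⟩ := IsPGroup.iff_card.1 hAp
    have hfr : Finite ρ'.range := Finite.of_surjective _ ρ'.rangeRestrict_surjective
    have h1 : Nat.card τ.ker * 2 ^ (Nat.card ρ'.range).factorization 2 = 2 ^ (n - 1) := by
      have h2 : 2 ^ (Nat.card τ.ker * Nat.card ρ'.range).factorization 2 = 2 ^ (2 ^ (n - 1) * (2 ^ n - 1)).factorization 2 := by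
        rw [hcB]
      have h3 : (2 ^ n - 1).factorization 2 = 0 := by
        apply Nat.factorization_eq_zero_of_not_dvd
        intro h4
        have h5 : 2 ∣ 2 ^ n := dvd_pow_self 2 (by omega)
        have h6 : 0 < 2 ^ n := by positivity
        omega
      rw [Nat.factorization_mul Nat.card_pos.ne' Nat.card_pos.ne', Nat.factorization_mul (by positivity) (by
        have : 1 < 2 ^ n := Nat.one_lt_two_pow (by omega)
        omega), Finsupp.add_apply, Finsupp.add_apply, h3, add_zero, pow_add, hk,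
        Nat.prime_two.factorization_pow, Nat.prime_two.factorization_pow, Finsupp.single_eq_same,
        Finsupp.single_eq_same] at h2
      rw [hk]
      exact h2
    rw [h1, ← pow_mul]
    have h2 := sq_lt (show 9 ≤ n by omega)
    calc n ^ 2 * 2 ^ n < 2 ^ (n - 2) * 2 ^ n := Nat.mul_lt_mul_of_pos_right h2 (by positivity)
      _ = 2 ^ ((n - 1) * 2) := by
        rw [← pow_add]
        congr 1
        omega
  · have h1 : orderOf y = r := by
      have := Fact.mk hr
      refine orderOf_eq_prime hyr ?_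
      intro h
      apply hx01
      apply pi_inj (R := D.R) D.nd D.ne
      rw [map_one]
      exact congrArg Subtype.val h
    rw [← h1]
    exact orderOf_dvd_natCard _
  · intro x
    rw [hkerW]
    exact hdW _
  · intro a b
    exact hdm (iot T B a) (iot T B b)
  · intro u hu
    obtain ⟨v, hv, h⟩ := hover u hu
    refine ⟨v, hv, fun x hx => ?_⟩
    have h1 : D.ac (x.1.1 : G) (sh f q0 v) = sh f q0 v := by
      have h2 := hact (iot T B x) v
      have h3 : d (iot T B x) + (D.lf (x.1.1 : G)).1 v = v := by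
        rw [add_comm]
        exact hx
      change D.ac (x.1.1 : G) (sh f q0 v) = sh f q0 (d (iot T B x) + (D.lf (x.1.1 : G)).1 v) at h2
      rw [h2, h3]
    apply Subtype.ext
    apply Subtype.ext
    exact C.free v h _ x.2 h1

/-- **the situation is impossible** -/
theorem false [FiniteDimensional F V] [Finite G] (hMain : H667.HerFin.Main.{v}) (hbig : 2 ^ 50 ≤ 2 ^ n) {r : ℕ}
    (hr : r.Prime) (hrn : orderOf (2 : ZMod r) = n) {x0 : Iso (F := F) fun x y => f x y} (hx0B : (D.R.π x0 : G) ∈ B)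
    (hx0r : x0.1 ^ r = 1) (hx01 : x0 ≠ 1) (hfpf : ∀ v, x0.1 v = v → v = 0)
    (hN : ∃ a ∈ T, a ∈ B ∧ a ≠ 1 ∧ ∀ v, (D.lf a).1 v - v ∈ W) : False := by
  have hfinV := C.finV
  let lfh : G → V →+ V := fun g => ⟨⟨(D.lf g).1, D.lf_zero g⟩, D.lf_add g⟩
  have hfinU : Finite (V ⧸ W.toAddSubgroup) := Quotient.finite _
  refine @Cs.false_aux G _ T F V _ _ _ _ _ f D B W q0 n C _ _ hMain hbig r hr hrn x0 hx0B hx0r hx01 hfpf hN
    (V ⧸ W.toAddSubgroup) _ (AddCommGroup.zmodModule (n := 2) ?_) hfinU (QuotientAddGroup.mk' W.toAddSubgroup)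
    (QuotientAddGroup.mk'_surjective _) ?_
    (fun b => QuotientAddGroup.map W.toAddSubgroup W.toAddSubgroup (lfh b) (fun w hw => C.inv b.1 b.2 w hw)) ?_
  · intro u
    obtain ⟨v, rfl⟩ := QuotientAddGroup.mk'_surjective _ u
    rw [← map_nsmul, two_smul, vadd_self F, map_zero]
  · intro v
    exact QuotientAddGroup.eq_zero_iff v
  · intro b v
    rfl

end Cs

end Cfsg.Agent.H383.Rg
end

-- part: H383/Rg/CMinus
section
/-!
# S3691, case C-: `alpha_minus` (helper383)

* `alpha_minus` : `T = Sp(V)`, `H ≥ E(q)`, `q` without totally singular subspaces of dimension `m`, `r | |B ∩ T|`: the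
  preimage of `B` has no nontrivial normal 2-subgroup.
-/

set_option autoImplicit false
set_option linter.unusedSectionVars false

namespace Cfsg.Agent.H383.Rg

open Module QuadraticMap
open Cfsg.Agent.LieClassical.OrthCore Cfsg.Agent.LieClassical.OrthTrans
open Cfsg.Agent.BpCl (Iso)
open Cfsg.Agent.H454.Reg Cfsg.Agent.H449.Reg
open Cfsg.Agent.H934.ArfO (T_eq_zero T_sq exists_T_one)

local notation "Tr" => Cfsg.Agent.H934.ArfO.T

universe u v

/-- a 2-group acting on a finite set of even order with a fixed point has another one -/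
theorem exists_fixed_gen {N : Type*} [Group N] [Finite N] (hN : IsPGroup 2 N) {A : Type*} [Finite A]
    (act : N → A → A) (h1 : ∀ a, act 1 a = a) (hm : ∀ g h a, act (g * h) a = act g (act h a)) (a0 : A)
    (h0 : ∀ g, act g a0 = a0) (hA : 2 ∣ Nat.card A) : ∃ a, a ≠ a0 ∧ ∀ g, act g a = a := by
  have : Fact (Nat.Prime 2) := ⟨Nat.prime_two⟩
  let actI : MulAction N A :=
    { smul := act
      one_smul := h1
      mul_smul := hm }
  obtain ⟨a, ha, ha0⟩ := hN.exists_fixed_point_of_prime_dvd_card_of_fixed_point (α := A) hA (a := a0) h0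
  exact ⟨a, ha0.symm, ha⟩

theorem card_gl_le {F V : Type*} [Field F] [Finite F] [AddCommGroup V] [Module F V] [FiniteDimensional F V] [Finite V]
    (S : Subgroup (V ≃ₗ[F] V)) : Nat.card S ≤ Nat.card V ^ finrank F V := by
  let bs := Module.finBasis F V
  have h1 : Nat.card (Fin (finrank F V) → V) = Nat.card V ^ finrank F V := by
    rw [Nat.card_fun, Nat.card_eq_fintype_card (α := Fin (finrank F V)), Fintype.card_fin]
  rw [← h1]
  refine Nat.card_le_card_of_injective (fun g : S => fun i => g.1 (bs i)) ?_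
  intro g h hgh
  apply Subtype.ext
  apply LinearEquiv.toLinearMap_injective
  apply bs.ext
  intro i
  exact congrFun hgh i

variable {G : Type u} [Group G] {T : Subgroup G} {F : Type*} {V : Type v} [Field F] [Finite F] [CharP F 2]
  [AddCommGroup V] [Module F V] {f : LinearMap.BilinForm F V}

theorem Sd.conj_stab (D : Sd T f) {q : V → F} {b t : G} (h : D.ac b (D.ac t q) = D.ac t q) : t⁻¹ * b * t ∈ D.stab q := by
  rw [D.mem_stab, D.ac_mul, D.ac_mul, h, ← D.ac_mul, inv_mul_cancel, D.ac_one]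

theorem Sd.orb_typ [FiniteDimensional F V] (D : Sd T f) {m : ℕ} {q : V → F}
    (hmin : ¬ ∃ U : Submodule F V, finrank F U = m ∧ ∀ u ∈ U, q u = 0) {W : Submodule F V}
    (hW : finrank F W = m) {q0 : V → F} (hq0 : IsQ f q0) (h0 : ∀ w ∈ W, q0 w = 0) {g : G} {v : V}
    (h : D.ac g q = sh f q0 v) : Tr (q0 v) = 1 := by
  apply two_eq
  intro hT
  obtain ⟨c, hc⟩ := exists_tv D.alt hq0 hT
  apply hmin
  refine ⟨simg (D.lf g⁻¹) (W.map ((tv D.alt v c)⁻¹ : V ≃ₗ[F] V).toLinearMap), ?_, ?_⟩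
  · rw [finrank_simg, LinearEquiv.finrank_map_eq, hW]
  · rintro _ ⟨_, ⟨w, hw, rfl⟩, rfl⟩
    have h1 := D.ac_apply g q ((D.lf g⁻¹).1 ((tv D.alt v c)⁻¹ w))
    rw [D.lf_apply_inv, h, ← hc] at h1
    have h2 : tv D.alt v c ((tv D.alt v c)⁻¹ w) = w := (tv D.alt v c).apply_symm_apply w
    rw [h2, h0 w hw] at h1
    exact (map_eq_zero_iff (D.sg g) (D.sg g).injective).1 h1.symm

theorem Sd.exists_orb [FiniteDimensional F V] (D : Sd T f) {m : ℕ} {q : V → F} (hq : IsQ f q)
    (hmin : ¬ ∃ U : Submodule F V, finrank F U = m ∧ ∀ u ∈ U, q u = 0) {W : Submodule F V}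
    (hW : finrank F W = m) {q0 : V → F} (hq0 : IsQ f q0) (h0 : ∀ w ∈ W, q0 w = 0) {v : V} (hv : Tr (q0 v) = 1) :
    ∃ t ∈ T, D.ac t q = sh f q0 v := by
  obtain ⟨v1, hv1⟩ := exists_sh D.nd hq0 hq
  have h1 : Tr (q0 v1) = 1 := D.orb_typ hmin hW hq0 h0 (g := 1) (by rw [D.ac_one, hv1])
  obtain ⟨t, ht, h2⟩ := same_type D.alt hq0 (v := v) (v' := v1) (by rw [hv, h1])
  refine ⟨D.R.π ⟨t, ht⟩, (D.R.π ⟨t, ht⟩).2, D.ac_eq_of_T ⟨t, ht⟩ rfl fun z => ?_⟩
  rw [h2, hv1]

/-- the preimage of `B` and its invariant subspaces -/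
theorem Sd.inv_of_uniq [FiniteDimensional F V] (D : Sd T f) {B : Subgroup G} {W : Submodule F V} {n : ℕ}
    (hW : Nat.card W = 2 ^ n) (hinv : ∀ x ∈ D.pre B, ∀ w ∈ W, x w ∈ W)
    (huniq : ∀ X : AddSubgroup V, (∀ x ∈ D.pre B, ∀ v ∈ X, x v ∈ X) → Nat.card X = 2 ^ n → X = W.toAddSubgroup) :
    ∀ b ∈ B, ∀ w ∈ W, (D.lf b).1 w ∈ W := by
  intro b hb w hw
  have hTn := D.normal
  have h1 := huniq (simg (D.lf b) W).toAddSubgroup (by
    rintro x hx _ ⟨w, hw, rfl⟩
    obtain ⟨hxI, hxB⟩ := D.mem_pre.1 hx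
    -- `t = b⁻¹ x b`
    have ht : b⁻¹ * (D.R.π ⟨x, hxI⟩ : G) * b ∈ T := by
      have := hTn.conj_mem _ (D.R.π ⟨x, hxI⟩).2 b⁻¹
      rwa [inv_inv] at this
    obtain ⟨x', hx', h2⟩ := D.exists_T ht
    have hx'B : x'.1 ∈ D.pre B := by
      rw [D.mem_pre]
      refine ⟨x'.2, ?_⟩
      have : (D.R.π ⟨x'.1, x'.2⟩ : G) = b⁻¹ * (D.R.π ⟨x, hxI⟩ : G) * b := hx'
      rw [this]
      exact B.mul_mem (B.mul_mem (B.inv_mem hb) hxB) hb
    refine ⟨x'.1 w, hinv _ hx'B w hw, ?_⟩
    have h3 := D.lf_T ⟨x, hxI⟩ ((D.lf b).1 w)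
    rw [← h2, ← D.lf_mul_apply]
    rw [← D.lf_mul_apply] at h3
    have h4 : b * (b⁻¹ * (D.R.π ⟨x, hxI⟩ : G) * b) = (D.R.π ⟨x, hxI⟩ : G) * b := by group
    rw [h4, h3]) ((card_simg _ _).trans hW)
  have h2 : (D.lf b).1 w ∈ (simg (D.lf b) W).toAddSubgroup := ⟨w, hw, rfl⟩
  rw [h1] at h2
  exact h2

/-- an element of order `r` in the preimage -/
theorem Sd.exists_y [Finite G] (D : Sd T f) {X : Subgroup G} {r : ℕ} (hr : r.Prime)
    (hrX : r ∣ Nat.card (X.subgroupOf T)) :
    ∃ x0 : Iso (F := F) fun x y => f x y, (D.R.π x0 : G) ∈ X ∧ x0.1 ^ r = 1 ∧ x0 ≠ 1 := by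
  have := Fact.mk hr
  obtain ⟨y, hy⟩ := exists_prime_orderOf_dvd_card' r hrX
  obtain ⟨x0, hx0⟩ := D.R.surj y.1
  refine ⟨x0, by rw [hx0]; exact y.2, ?_, ?_⟩
  · have h1 : D.R.π (x0 ^ r) = D.R.π 1 := by
      rw [map_pow, hx0, map_one, ← Subgroup.coe_pow, ← hy, pow_orderOf_eq_one]
      rfl
    have h2 := pi_inj (R := D.R) D.nd D.ne h1
    exact congrArg Subtype.val h2
  · rintro rfl
    rw [map_one] at hx0
    have h1 : y = 1 := Subtype.ext hx0.symm
    rw [h1, orderOf_one] at hy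
    exact hr.one_lt.ne hy

/-- a normal 2-subgroup is trivial on `V / W` -/
theorem triv_quot [FiniteDimensional F V] [Finite V] {n r : ℕ} (hn : 0 < n) (hr : r.Prime)
    (hrn : orderOf (2 : ZMod r) = n) (hV : Nat.card V = 2 ^ (2 * n)) {D0 : Subgroup (V ≃ₗ[F] V)} {y : V ≃ₗ[F] V}
    (hyD : y ∈ D0) (hyr : y ^ r = 1) (hfpf : ∀ v, y v = v → v = 0) {N : Subgroup (V ≃ₗ[F] V)} (hN : IsPGroup 2 N)
    (hND : N ≤ D0) (hNn : ∀ x ∈ D0, ∀ g ∈ N, x * g * x⁻¹ ∈ N) {W : Submodule F V} (hW : Nat.card W = 2 ^ n)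
    (hinv : ∀ x ∈ D0, ∀ w ∈ W, x w ∈ W) : ∀ g ∈ N, ∀ v, g v - v ∈ W := by
  have hinvapp : ∀ (x : V ≃ₗ[F] V) (v : V), x (x⁻¹ v) = v := fun x v => x.apply_symm_apply v
  let X : AddSubgroup V :=
    { carrier := {v | ∀ g ∈ N, g v - v ∈ W}
      add_mem' := fun {u v} hu hv g hg => by
        have h1 := W.add_mem (hu g hg) (hv g hg)
        rw [map_add]
        have h2 : g u + g v - (u + v) = g u - u + (g v - v) := by abel
        rw [h2]
        exact h1
      zero_mem' := fun g _ => by rw [map_zero, sub_zero]; exact W.zero_mem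
      neg_mem' := fun {u} hu g hg => by
        rw [map_neg]
        have h2 : -g u - -u = -(g u - u) := by abel
        rw [h2]
        exact W.neg_mem (hu g hg) }
  have hX : ∀ v ∈ X, y v ∈ X := by
    intro v hv g hg
    have h1 := hinv y hyD _ (hv _ (hNn y⁻¹ (inv_mem hyD) g hg))
    rw [inv_inv] at h1
    have h2 : (y⁻¹ * g * y) v = y⁻¹ (g (y v)) := rfl
    rw [h2, map_sub, hinvapp] at h1
    exact h1
  have h2n : 1 < 2 ^ n := Nat.one_lt_two_pow (by omega)
  have hlt : 2 ^ n < 2 ^ (2 * n) := Nat.pow_lt_pow_right (by norm_num) (by omega)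
  have hWX : ∀ w ∈ W, w ∈ X := fun w hw g hg => W.sub_mem (hinv g (hND hg) w hw) hw
  -- a fixed vector in the quotient
  have hfinN : Finite N := by
    have : Finite (V ≃ₗ[F] V) := Finite.of_injective (fun g : V ≃ₗ[F] V => (g : V → V)) DFunLike.coe_injective
    infer_instance
  have hfinQ : Finite (V ⧸ W) := Quotient.finite _
  obtain ⟨a, ha0, ha⟩ := exists_fixed_gen hN (A := V ⧸ W)
    (fun g => W.mapQ W (g.1 : V →ₗ[F] V) (fun w hw => hinv g.1 (hND g.2) w hw)) (by
      intro a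
      obtain ⟨v, rfl⟩ := Submodule.Quotient.mk_surjective W a
      rfl) (by
      intro g h a
      obtain ⟨v, rfl⟩ := Submodule.Quotient.mk_surjective W a
      rfl) 0 (fun g => map_zero _) (by
      have h1 := Submodule.card_eq_card_quotient_mul_card W
      rw [hV, hW] at h1
      have h2 : Nat.card (V ⧸ W) = 2 ^ n := by
        have h3 : 2 ^ (2 * n) = 2 ^ n * 2 ^ n := by rw [← pow_add, two_mul]
        rw [h3] at h1
        have h4 : 0 < 2 ^ n := by positivity
        nlinarith only [h2n, h1]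
      rw [h2]
      exact dvd_pow_self 2 (by omega))
  obtain ⟨v, rfl⟩ := Submodule.Quotient.mk_surjective W a
  have hvW : v ∉ W := fun h => ha0 ((Submodule.Quotient.mk_eq_zero W).2 h)
  have hvX : v ∈ X := by
    intro g hg
    have h1 := ha ⟨g, hg⟩
    exact (Submodule.Quotient.eq W).1 h1
  have hXt : X = ⊤ := by
    have hle : W.toAddSubgroup ≤ X := hWX
    rcases card_inv_V hn hr hrn hV hyr hfpf X hX with h | h | h
    · exfalso
      have h1 : Nat.card W.toAddSubgroup ≤ Nat.card X :=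
        Nat.card_le_card_of_injective _ (AddSubgroup.inclusion_injective hle)
      rw [h] at h1
      have h2 : Nat.card W.toAddSubgroup = 2 ^ n := hW
      omega
    · exfalso
      have h1 : W.toAddSubgroup = X := AddSubgroup.eq_of_le_of_card_ge hle (by rw [h]; exact hW.ge)
      apply hvW
      rw [← h1] at hvX
      exact hvX
    · exact h
  intro g hg v
  have h1 : v ∈ X := by rw [hXt]; exact AddSubgroup.mem_top v
  exact h1 g hg

/-- an element of odd order not conjugate into the stabiliser of `q` has no fixed vectors -/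
theorem Sd.fpf_of [FiniteDimensional F V] (D : Sd T f) {q : V → F} (hq : IsQ f q)
    {x0 : Iso (F := F) fun x y => f x y} {r : ℕ} (hodd : Odd r) (hx0r : x0.1 ^ r = 1)
    (hno : ∀ t ∈ T, t⁻¹ * (D.R.π x0 : G) * t ∉ D.stab q) {v : V} (hv : x0.1 v = v) : v = 0 := by
  refine fpf D.alt D.nd hq x0.2 hodd hx0r ?_ hv
  intro x hx hcon
  obtain ⟨x', rfl⟩ : ∃ x' : Iso (F := F) fun x y => f x y, x'.1 = x := ⟨⟨x, hx⟩, rfl⟩
  have h0 : ∀ z, q ((x'⁻¹ * x0 * x').1 z) = q z := fun z => hcon z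
  have h1 := D.ac_eq_of_T (x'⁻¹ * x0 * x') rfl h0
  refine hno (D.R.π x') (D.R.π x').2 ?_
  rw [map_mul, map_mul, map_inv] at h1
  exact h1

/-- **(alpha), case C-**: the factor `H` contains `E(q)` -/
theorem alpha_minus [FiniteDimensional F V] [Finite G] {H B : Subgroup G} (hMain : H667.HerFin.Main.{v})
    (R : Real T (Iso (F := F) fun x y => f x y)) (hA : ∀ v, f v v = 0) (hnd : ∀ u, (∀ v, f u v = 0) → u = 0)
    (e : Ex T H B) (hTB : ¬ T ≤ B) {m : ℕ} (hm : 2 ≤ m) (hdim : finrank F V = 2 * m) {q : V → F} (hq : IsQ f q)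
    (hmin : ¬ ∃ U : Submodule F V, finrank F U = m ∧ ∀ u ∈ U, q u = 0)
    (hE : ∀ x : Iso (F := F) fun x y => f x y, x.1 ∈ E hq.toQ → (R.π x : G) ∈ H) {r n : ℕ} (hr : r.Prime)
    (hF : Nat.card F ^ m = 2 ^ n) (hrn : orderOf (2 : ZMod r) = n) (hrB : r ∣ Nat.card (B.subgroupOf T))
    {N : Subgroup (Iso (F := F) fun x y => f x y)} (hN2 : IsPGroup 2 N) (hN1 : N ≠ ⊥)
    (hNB : ∀ x ∈ N, (R.π x : G) ∈ B)
    (hNn : ∀ x : Iso (F := F) fun x y => f x y, (R.π x : G) ∈ B → ∀ g ∈ N, x * g * x⁻¹ ∈ N) : False := by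
  have hTs : IsSimpleGroup T := e.simple
  have hTn : T.Normal := e.normal
  have hne : ∃ v : V, v ≠ 0 := by
    have : Nontrivial V := Module.nontrivial_of_finrank_pos (R := F) (by omega)
    exact exists_ne 0
  let D : Sd T f := ⟨R, hA, hnd, hne, e.cent, e.normal⟩
  have hfinV : Finite V := Module.finite_of_finite F
  have hFV : Nat.card V = 2 ^ (2 * n) := by
    rw [Module.natCard_eq_pow_finrank (K := F), hdim, mul_comm, pow_mul, hF, ← pow_mul, mul_comm]
  have hF1 : 1 < Nat.card F := Finite.one_lt_card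
  have hn : 0 < n := by
    rcases Nat.eq_zero_or_pos n with h | h
    · exfalso
      rw [h, pow_zero] at hF
      have := Nat.one_lt_pow (show m ≠ 0 by omega) hF1
      omega
    · exact h
  have hpiinj := pi_inj (R := R) hnd hne
  -- the size
  have hsize : 2 < Nat.card F ∨ 6 ≤ finrank F V := by
    by_contra hcon
    push Not at hcon
    obtain ⟨h1, h2⟩ := hcon
    have h3 : m = 2 := by omega
    have h4 : Nat.card F = 2 := by omega
    have h5 : Nat.card T ≤ Nat.card V ^ finrank F V := by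
      have h6 : Nat.card T ≤ Nat.card (Iso (F := F) fun x y => f x y) := by
        have : Finite (V ≃ₗ[F] V) := Finite.of_injective (fun g : V ≃ₗ[F] V => (g : V → V)) DFunLike.coe_injective
        exact Nat.card_le_card_of_surjective _ R.surj
      exact h6.trans (card_gl_le _)
    rw [Module.natCard_eq_pow_finrank (K := F) (V := V), hdim, h3, h4] at h5
    have h6 := e.large_socle
    norm_num only [] at h5
    have h7 : 3 * Nat.factorial 29 ≤ 65536 := by omega
    norm_num [Nat.factorial] at h7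
  -- `H` is the stabiliser
  have hH : H = D.stab q := by
    refine D.eq_stab e.max e.not_le hq (by omega) hsize fun x hx => ?_
    have hxI : x ∈ Iso (F := F) fun x y => f x y := by
      intro u v
      have h5 := polar_map (E_le_O hx) u v
      rwa [hq.polar, hq.polar] at h5
    rw [D.mem_pre]
    exact ⟨hxI, hE ⟨x, hxI⟩ hx⟩
  have hfac : Fac T B H := (e.fac hTB).symm
  have hfree : ∀ b ∈ B, ∀ t : G, D.ac b (D.ac t q) = D.ac t q → b = 1 := by
    intro b hb t h
    have h1 := D.conj_stab h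
    rw [← hH] at h1
    exact hfac.not_conj hb t⁻¹ (by rwa [inv_inv])
  -- the element `y`
  obtain ⟨x0, hx0B, hx0r, hx01⟩ := D.exists_y hr hrB
  have hr2 : r ≠ 2 := by
    rintro rfl
    have h1 : orderOf (2 : ZMod 2) = 0 := by
      rw [orderOf_eq_zero_iff']
      intro k hk h2
      have h3 : (2 : ZMod 2) = 0 := by decide
      rw [h3, zero_pow hk.ne'] at h2
      exact zero_ne_one h2
    omega
  have hodd : Odd r := hr.odd_of_ne_two hr2
  have hfpf : ∀ v, x0.1 v = v → v = 0 := by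
    intro v hv
    refine D.fpf_of hq hodd hx0r (fun t _ ht => ?_) hv
    rw [← hH] at ht
    have h3 := hfac.not_conj hx0B t⁻¹ (by rwa [inv_inv])
    apply hx01
    apply hpiinj
    rw [map_one]
    exact Subtype.ext h3
  -- the fixed space of `N`
  have hpre : D.pre B ≤ Iso (F := F) fun x y => f x y := fun x hx => (D.mem_pre.1 hx).1
  have hyD : x0.1 ∈ D.pre B := D.mem_pre.2 ⟨x0.2, hx0B⟩
  have hN2' : IsPGroup 2 (N.map (Iso (F := F) fun x y => f x y).subtype) := hN2.map _
  have hN1' : N.map (Iso (F := F) fun x y => f x y).subtype ≠ ⊥ := by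
    intro h
    apply hN1
    exact (Subgroup.map_eq_bot_iff_of_injective _ (Subgroup.subtype_injective _)).1 h
  have hND : N.map (Iso (F := F) fun x y => f x y).subtype ≤ D.pre B := by
    rintro _ ⟨x, hx, rfl⟩
    exact D.mem_pre.2 ⟨x.2, hNB x hx⟩
  have hNn' : ∀ x ∈ D.pre B, ∀ g ∈ N.map (Iso (F := F) fun x y => f x y).subtype,
      x * g * x⁻¹ ∈ N.map (Iso (F := F) fun x y => f x y).subtype := by
    rintro x hx _ ⟨g, hg, rfl⟩
    obtain ⟨h1, h2⟩ := D.mem_pre.1 hx
    exact ⟨(⟨x, h1⟩ * g * ⟨x, h1⟩⁻¹ :), (hNn ⟨x, h1⟩ h2 g hg :), rfl⟩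
  obtain ⟨W, hWfix, hWc, hti, hperp, hinv, huniq⟩ := exists_W hA hnd hn hr hrn hFV hpre hyD hx0r hfpf hN2' hN1' hND hNn'
  have hWm : finrank F W = m := by
    have h1 := Module.natCard_eq_pow_finrank (K := F) (V := W)
    rw [hWc, ← hF] at h1
    exact (Nat.pow_right_injective hF1 h1).symm
  have hBW := D.inv_of_uniq hWc hinv huniq
  obtain ⟨q0, hq0, h0⟩ := exists_zero_form hnd hq hti
  have C : Cs D B W q0 n :=
    { inv := hBW
      cW := hWc
      cV := hFV
      ti := hti
      perp := hperp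
      hq := hq0
      zero := h0
      free := by
        intro v hv b hb h
        obtain ⟨t, -, ht⟩ := D.exists_orb hq hmin hWm hq0 h0 hv
        rw [← ht] at h
        exact hfree b hb t h
      trans := by
        intro v v' hv hv'
        obtain ⟨t, -, ht⟩ := D.exists_orb hq hmin hWm hq0 h0 hv
        obtain ⟨t', -, ht'⟩ := D.exists_orb hq hmin hWm hq0 h0 hv'
        obtain ⟨b1, hb1, h1, hh1, e1⟩ := hfac.exists_mul t
        obtain ⟨b2, hb2, h2, hh2, e2⟩ := hfac.exists_mul t'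
        rw [hH, D.mem_stab] at hh1 hh2
        refine ⟨b2 * b1⁻¹, B.mul_mem hb2 (B.inv_mem hb1), ?_⟩
        rw [← ht, ← ht', ← e1, ← e2, D.ac_mul, D.ac_mul, D.ac_mul, hh1, hh2, ← D.ac_mul b1⁻¹, inv_mul_cancel, D.ac_one]
      typ := by
        intro v hv b hb v' h
        obtain ⟨t, -, ht⟩ := D.exists_orb hq hmin hWm hq0 h0 hv
        rw [← ht, ← D.ac_mul] at h
        exact D.orb_typ hmin hWm hq0 h0 h }
  have hbig : 2 ^ 50 ≤ 2 ^ n := by
    apply Nat.pow_le_pow_right (by norm_num)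
    by_contra hcon
    have h1 := e.large
    rw [C.card_B] at h1
    have h2 : 2 ^ (n - 1) ≤ 2 ^ 48 := Nat.pow_le_pow_right (by norm_num) (by omega)
    have h3 : 2 ^ n ≤ 2 ^ 49 := Nat.pow_le_pow_right (by norm_num) (by omega)
    have h4 : 2 ^ (n - 1) * (2 ^ n - 1) ≤ 2 ^ 48 * 2 ^ 49 := Nat.mul_le_mul h2 ((Nat.sub_le _ _).trans h3)
    have h5 : 3 * Nat.factorial 29 < 2 ^ 48 * 2 ^ 49 := lt_of_lt_of_le h1 h4
    norm_num [Nat.factorial] at h5
  have htriv := triv_quot hn hr hrn hFV hyD hx0r hfpf hN2' hND hNn' hWc hinv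
  refine C.false hMain hbig hr hrn hx0B hx0r hx01 hfpf ?_
  obtain ⟨⟨a, ha⟩, ha1⟩ := Subgroup.ne_bot_iff_exists_ne_one.1 hN1
  refine ⟨D.R.π a, (D.R.π a).2, hNB a ha, ?_, fun v => ?_⟩
  · intro h
    apply ha1
    apply Subtype.ext
    apply hpiinj
    rw [Subgroup.coe_one, map_one]
    exact Subtype.ext h
  · rw [D.lf_T]
    exact htriv a.1 ⟨a, ha, rfl⟩ v

end Cfsg.Agent.H383.Rg
end

-- part: H383/Rg/OddE
section
/-!
# S3691, case C-: elements of odd order of the orthogonal group, characteristic 2 (helper383)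

* `odd_mem_E` : an element of odd order of `O(q)` is in `E(q)`, dimension at least 4.
-/

set_option autoImplicit false
set_option linter.unusedSectionVars false

namespace Cfsg.Agent.H383.Rg

open Module QuadraticMap
open Cfsg.Agent.LieClassical.OrthCore Cfsg.Agent.LieClassical.OrthTrans
open Cfsg.Agent.BpCl (Iso)

variable {F V : Type*} [Field F] [Finite F] [CharP F 2] [AddCommGroup V] [Module F V]
  {f : LinearMap.BilinForm F V}

theorem rf_apply {q : V → F} (hq : IsQ f q) {v : V} (hv : hq.toQ v ≠ 0) (x : V) :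
    refl hq.toQ v hv x = x + ((q v)⁻¹ * f v x) • v := by
  rw [refl_apply, hq.polar, vsub F]
  rfl

/-- orthogonal reflections of the same norm -/
theorem rf_rf_same {q : V → F} (hq : IsQ f q) {v w : V} (hv : hq.toQ v ≠ 0) (hw : hq.toQ w ≠ 0) (h : q v = q w)
    (ho : f v w = 0) : refl hq.toQ v hv * refl hq.toQ w hw ∈ E hq.toQ := by
  have hA := hq.self
  have hs := symm_of_alt hA
  have hu : hq.toQ (v + w) = 0 := by
    change q (v + w) = 0
    rw [hq.add, ho, h, add_zero, add_self']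
  have hqv : q v ≠ 0 := hv
  have hw' : polar hq.toQ (v + w) ((q v)⁻¹ • v) = 0 := by
    rw [hq.polar, map_smul, map_add, LinearMap.add_apply, hA, zero_add, hs w v, ho, smul_zero]
  have e : refl hq.toQ v hv * refl hq.toQ w hw = siegel hq.toQ (v + w) ((q v)⁻¹ • v) hu hw' := by
    apply LinearEquiv.ext
    intro x
    change refl hq.toQ v hv (refl hq.toQ w hw x) = _
    rw [rf_apply, rf_apply, sgl_apply hq hu hw', ← h]
    simp only [map_add, map_smul, LinearMap.add_apply, LinearMap.smul_apply, smul_eq_mul, hA, ho, mul_zero, add_zero,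
      hq.smul, smul_add, smul_smul]
    match_scalars
    · ring
    · field_simp
      linear_combination -(add_self' (f v x))
    · field_simp
      linear_combination -(add_self' (f v x)) - (add_self' (f w x))
  rw [e]
  exact siegel_mem_E hu hw'

/-- a nonsingular vector orthogonal to a nondegenerate pair -/
theorem exists_ns_perp {q : V → F} (hq : IsQ f q) (hnd : ∀ u, (∀ v, f u v = 0) → u = 0) (hd : 3 ≤ finrank F V)
    {v v' : V} (h : f v v' ≠ 0) : ∃ p, f v p = 0 ∧ f v' p = 0 ∧ q p ≠ 0 := by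
  have hA := hq.self
  have hs := symm_of_alt hA
  obtain ⟨p, hp0, hp⟩ := exists_perp_ne (Q := hq.toQ) ![v, v'] (by omega)
  have hvp : f v p = 0 := by rw [← hq.polar]; exact hp 0
  have hv'p : f v' p = 0 := by rw [← hq.polar]; exact hp 1
  by_cases hqp : q p = 0
  · obtain ⟨z, hz⟩ : ∃ z, f p z = 1 := by
      by_contra hcon
      push Not at hcon
      apply hp0
      apply hnd
      intro v
      by_contra h1
      exact hcon ((f p v)⁻¹ • v) (by rw [map_smul, smul_eq_mul, inv_mul_cancel₀ h1])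
    set! p' : V := z + (f v' z / f v v') • v + (f v z / f v v') • v' with hp'
    have h1 : f v p' = 0 := by
      rw [hp', map_add, map_add, map_smul, map_smul, hA, smul_zero, add_zero, smul_eq_mul, div_mul_cancel₀ _ h, add_self']
    have h2 : f v' p' = 0 := by
      rw [hp', map_add, map_add, map_smul, map_smul, hA, smul_zero, add_zero, smul_eq_mul, hs v' v, div_mul_cancel₀ _ h,
        add_self']
    have h3 : f p p' = 1 := by
      rw [hp', map_add, map_add, map_smul, map_smul, hs p v, hs p v', hvp, hv'p, smul_zero, smul_zero, add_zero, add_zero,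
        hz]
    by_cases h4 : q p' = 0
    · refine ⟨p + p', by rw [map_add, hvp, h1, add_zero], by rw [map_add, hv'p, h2, add_zero], ?_⟩
      rw [hq.add, hqp, h4, h3, add_zero, zero_add]
      exact one_ne_zero
    · exact ⟨p', h1, h2, h4⟩
  · exact ⟨p, hvp, hv'p, hqp⟩

/-- **all reflections agree modulo `E(q)`** -/
theorem rf_rf {q : V → F} (hq : IsQ f q) (hnd : ∀ u, (∀ v, f u v = 0) → u = 0) (hd : 3 ≤ finrank F V)
    {v w : V} (hv : hq.toQ v ≠ 0) (hw : hq.toQ w ≠ 0) : refl hq.toQ v hv * refl hq.toQ w hw ∈ E hq.toQ := by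
  have hs := symm_of_alt hq.self
  -- orthogonal vectors
  have key : ∀ {v w : V} (hv : hq.toQ v ≠ 0) (hw : hq.toQ w ≠ 0), f v w = 0 →
      refl hq.toQ v hv * refl hq.toQ w hw ∈ E hq.toQ := by
    intro v w hv hw ho
    have hqw : q w ≠ 0 := hw
    have hqv : q v ≠ 0 := hv
    obtain ⟨a, ha⟩ := exists_sq (F := F) (q v / q w)
    have ha0 : a ≠ 0 := by
      rintro rfl
      rw [zero_pow two_ne_zero] at ha
      exact div_ne_zero hqv hqw ha.symm
    have h1 : q (a • w) = q v := by rw [hq.smul, ha, div_mul_cancel₀ _ hqw]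
    have hw' : hq.toQ (a • w) ≠ 0 := by
      change q (a • w) ≠ 0
      rw [h1]; exact hqv
    rw [← refl_smul hw ha0 hw']
    exact rf_rf_same hq hv hw' h1.symm (by rw [map_smul, ho, smul_zero])
  by_cases h0 : f v w = 0
  · exact key hv hw h0
  · obtain ⟨p, h1, h2, h3⟩ := exists_ns_perp hq hnd hd h0
    have hp : hq.toQ p ≠ 0 := h3
    have e : refl hq.toQ v hv * refl hq.toQ w hw =
        (refl hq.toQ v hv * refl hq.toQ p hp) * (refl hq.toQ p hp * refl hq.toQ w hw) := by
      have := refl_mul_self hp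
      calc refl hq.toQ v hv * refl hq.toQ w hw = refl hq.toQ v hv * 1 * refl hq.toQ w hw := by rw [mul_one]
        _ = _ := by rw [← this]; group
    rw [e]
    exact mul_mem (key hv hp h1) (key hp hw (by rw [hs]; exact h2))

/-- **`O(q) = E(q) ∪ E(q) r`** -/
theorem E_or [FiniteDimensional F V] {q : V → F} (hq : IsQ f q) (hnd : ∀ u, (∀ v, f u v = 0) → u = 0)
    (hd : 3 ≤ finrank F V) {g : V ≃ₗ[F] V} (hg : g ∈ O hq.toQ) : g ∈ E hq.toQ ∨
      ∃ (v : V) (hv : hq.toQ v ≠ 0), ∃ e ∈ E hq.toQ, g = e * refl hq.toQ v hv := by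
  rw [O_eq_closure (hq.nondeg hnd)] at hg
  induction hg using Subgroup.closure_induction with
  | mem x hx =>
    rcases hx with ⟨v, hv, rfl⟩ | hx
    · exact Or.inr ⟨v, hv, 1, one_mem _, by rw [one_mul]⟩
    · exact Or.inl (Subgroup.subset_closure hx)
  | one => exact Or.inl (one_mem _)
  | mul x y _ _ hx hy =>
    rcases hx with hx | ⟨v, hv, e, he, rfl⟩
    · rcases hy with hy | ⟨w, hw, e', he', rfl⟩
      · exact Or.inl (mul_mem hx hy)
      · exact Or.inr ⟨w, hw, x * e', mul_mem hx he', by rw [mul_assoc]⟩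
    · rcases hy with hy | ⟨w, hw, e', he', rfl⟩
      · refine Or.inr ⟨v, hv, e * (refl hq.toQ v hv * y * (refl hq.toQ v hv)⁻¹),
          mul_mem he (conj_mem_E (refl_mem_O hv) hy), by group⟩
      · left
        have e1 : e * refl hq.toQ v hv * (e' * refl hq.toQ w hw) =
            e * (refl hq.toQ v hv * e' * (refl hq.toQ v hv)⁻¹) * (refl hq.toQ v hv * refl hq.toQ w hw) := by group
        rw [e1]
        exact mul_mem (mul_mem he (conj_mem_E (refl_mem_O hv) he')) (rf_rf hq hnd hd hv hw)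
  | inv x _ hx =>
    rcases hx with hx | ⟨v, hv, e, he, rfl⟩
    · exact Or.inl (inv_mem hx)
    · refine Or.inr ⟨v, hv, (refl hq.toQ v hv) * e⁻¹ * (refl hq.toQ v hv)⁻¹,
        conj_mem_E (refl_mem_O hv) (inv_mem he), ?_⟩
      rw [mul_inv_rev, refl_inv]
      calc refl hq.toQ v hv * e⁻¹ = refl hq.toQ v hv * e⁻¹ * 1 := by rw [mul_one]
        _ = _ := by rw [← refl_mul_self hv]; group

/-- **elements of odd order** -/
theorem odd_mem_E [FiniteDimensional F V] {q : V → F} (hq : IsQ f q) (hnd : ∀ u, (∀ v, f u v = 0) → u = 0)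
    (hd : 3 ≤ finrank F V) {g : V ≃ₗ[F] V} (hg : ∀ v, q (g v) = q v) {r : ℕ} (hr : Odd r) (hgr : g ^ r = 1) :
    g ∈ E hq.toQ := by
  have hgO : g ∈ O hq.toQ := hg
  -- every element of `O` is in `E` or `E r₀`
  have key : ∀ g ∈ Subgroup.closure (reflSet hq.toQ ∪ siegelSet hq.toQ), g ∈ E hq.toQ ∨
      ∃ (v : V) (hv : hq.toQ v ≠ 0), ∃ e ∈ E hq.toQ, g = e * refl hq.toQ v hv := by
    intro g hg
    induction hg using Subgroup.closure_induction with
    | mem x hx =>
      rcases hx with ⟨v, hv, rfl⟩ | hx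
      · exact Or.inr ⟨v, hv, 1, one_mem _, by rw [one_mul]⟩
      · exact Or.inl (Subgroup.subset_closure hx)
    | one => exact Or.inl (one_mem _)
    | mul x y _ _ hx hy =>
      rcases hx with hx | ⟨v, hv, e, he, rfl⟩
      · rcases hy with hy | ⟨w, hw, e', he', rfl⟩
        · exact Or.inl (mul_mem hx hy)
        · exact Or.inr ⟨w, hw, x * e', mul_mem hx he', by rw [mul_assoc]⟩
      · rcases hy with hy | ⟨w, hw, e', he', rfl⟩
        · refine Or.inr ⟨v, hv, e * (refl hq.toQ v hv * y * (refl hq.toQ v hv)⁻¹),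
            mul_mem he (conj_mem_E (refl_mem_O hv) hy), by group⟩
        · left
          have e1 : e * refl hq.toQ v hv * (e' * refl hq.toQ w hw) =
              e * (refl hq.toQ v hv * e' * (refl hq.toQ v hv)⁻¹) * (refl hq.toQ v hv * refl hq.toQ w hw) := by group
          rw [e1]
          exact mul_mem (mul_mem he (conj_mem_E (refl_mem_O hv) he')) (rf_rf hq hnd hd hv hw)
    | inv x _ hx =>
      rcases hx with hx | ⟨v, hv, e, he, rfl⟩
      · exact Or.inl (inv_mem hx)
      · refine Or.inr ⟨v, hv, (refl hq.toQ v hv) * e⁻¹ * (refl hq.toQ v hv)⁻¹,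
          conj_mem_E (refl_mem_O hv) (inv_mem he), ?_⟩
        rw [mul_inv_rev, refl_inv]
        calc refl hq.toQ v hv * e⁻¹ = refl hq.toQ v hv * e⁻¹ * 1 := by rw [mul_one]
          _ = _ := by rw [← refl_mul_self hv]; group
  have hsq : ∀ g ∈ O hq.toQ, g * g ∈ E hq.toQ := by
    intro g hg
    rw [O_eq_closure (hq.nondeg hnd)] at hg
    rcases key g hg with h | ⟨v, hv, e, he, rfl⟩
    · exact mul_mem h h
    · have e1 : e * refl hq.toQ v hv * (e * refl hq.toQ v hv) =
          e * (refl hq.toQ v hv * e * (refl hq.toQ v hv)⁻¹) * (refl hq.toQ v hv * refl hq.toQ v hv) := by group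
      rw [e1, refl_mul_self, mul_one]
      exact mul_mem he (conj_mem_E (refl_mem_O hv) he)
  obtain ⟨k, rfl⟩ := hr
  have h1 : g = (g ^ (k + 1) * g ^ (k + 1)) := by
    rw [← pow_add, show k + 1 + (k + 1) = (2 * k + 1) + 1 by ring, pow_succ, hgr, one_mul]
  rw [h1]
  exact hsq _ (pow_mem hgO _)

end Cfsg.Agent.H383.Rg
end

private theorem dce_54a4e7e389e4 : _root_.True := by
  try have : _root_.True := by simp only [_root_.Cfsg.Agent.H383.Rg.IsQ.toQ.congr_simp]
  try have : _root_.True := by simp only [_root_.Cfsg.Agent.H383.Rg.Sd.ac.eq_1]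
  exact _root_.True.intro
end
end

-- part: H2/Rb/StructA
section
set_option linter.all false
open scoped Cfsg.Agent.FastGrp

/-!
# S3691 (S): the geometric subgroups containing `g`, part 1 (adapted by helper2 from helper100's `H100.Ppd.StructA`)

`g ∈ GL_n(q)` of order `m`, `Num q n k m`: a decomposition preserved by `g` consists of lines, `g` preserves no tensor
decomposition and no tensor power decomposition. `card_le_of_decomp` : the order of a monomial group.
-/

set_option autoImplicit false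
set_option linter.unusedSectionVars false

namespace Cfsg.Agent.H2.Rb.C100

open Cfsg Cfsg.Geo Matrix
open Cfsg.Agent.H915.LD
open Cfsg.Agent.H251.GeoCard

universe u v w

/-- `r` does not divide `q ^ i - 1` for `i < k` -/
theorem Num.not_div {q n k m : ℕ} (h : Num q n k m) {r : ℕ} (hr : r.Prime) (hrm : r ∣ m) {d : ℕ} (hd : d < k) :
    ¬ _root_.Cfsg.Agent.H251.GeoCard.Div r q d := by
  rintro ⟨i, h1, h2, h3⟩
  have h4 := h.cop i h1 (by omega)
  have h5 := Nat.dvd_gcd hrm h3
  rw [Nat.Coprime] at h4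
  rw [h4] at h5
  exact hr.one_lt.ne' (Nat.dvd_one.1 h5)

theorem dvd_card_of_mem {G : Type*} [Group G] {H : Subgroup G} {g : G} (hg : g ∈ H) {r : ℕ}
    (hr : r ∣ orderOf g) : r ∣ Nat.card H := by
  refine hr.trans ?_
  rw [← Subgroup.orderOf_mk g hg]
  exact orderOf_dvd_natCard _

/-! ### orders of permutations -/

section

variable {n : ℕ} {F : Type u} [Field F] [Finite F] {k m : ℕ}

/-- **(C2)** -/
theorem Num.eq_one_of_decomp (h : Num (Nat.card F) n k m) {g : GL (Fin n) F} (hg : orderOf g = m) {t d : ℕ}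
    {D : Fin t → Submodule F (Fin n → F)} (hD : IsMDecomposition d D) (hgD : g ∈ decompositionStabilizer D) :
    d = 1 := by
  have := Fintype.ofFinite F
  have htd : t * d = n := by
    have := H922.mul_eq_card hD
    rwa [Fintype.card_fin] at this
  have ht := hD.two_le
  have hd := hD.pos
  obtain ⟨ψ, hψ⟩ := H907.Mx.exists_permHom hD
  -- the kernel of `ψ` has order prime to `m`
  have hker : ∀ r, r.Prime → r ∣ m → d < k → ∀ x : decompositionStabilizer D, ψ x = 1 → x ^ r = 1 → x = 1 := by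
    intro r hr hrm hdk x hx hxr
    by_contra hne
    have hs : ¬ r ∣ Nat.card F := h.not_dvd_q hr hrm
    -- the decomposition is fixed blockwise
    have hfix : ∀ i, (D i).map (Matrix.toLin' ((x : GL (Fin n) F) : Matrix (Fin n) (Fin n) F)) = D i := by
      intro i
      rw [hψ x i, hx]
      rfl
    have hmap : ∀ i, ∀ y ∈ D i, Matrix.toLin' ((x : GL (Fin n) F) : Matrix (Fin n) (Fin n) F) y ∈ D i := by
      intro i y hy
      have := Submodule.mem_map_of_mem (f := Matrix.toLin' ((x : GL (Fin n) F) : Matrix (Fin n) (Fin n) F)) hy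
      rwa [hfix i] at this
    have hxr' : (x : GL (Fin n) F) ^ r = 1 := by
      rw [← Subgroup.coe_pow, hxr]; rfl
    have hres : ∀ i, ∀ y ∈ D i, Matrix.toLin' ((x : GL (Fin n) F) : Matrix (Fin n) (Fin n) F) y = y := by
      intro i
      by_contra hcon
      push Not at hcon
      obtain ⟨y, hy, hne⟩ := hcon
      let f : D i →ₗ[F] D i := (Matrix.toLin' ((x : GL (Fin n) F) : Matrix (Fin n) (Fin n) F)).restrict (hmap i)
      have hf : f ^ r = 1 := by
        have h1 : ∀ (j : ℕ) (y : D i), (((f ^ j) y : D i) : Fin n → F) =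
            ((Matrix.toLin' ((x : GL (Fin n) F) : Matrix (Fin n) (Fin n) F)) ^ j) (y : Fin n → F) := by
          intro j
          induction j with
          | zero => intro y; rfl
          | succ j ih =>
            intro y
            rw [pow_succ, pow_succ, Module.End.mul_apply, Module.End.mul_apply, ih]
            rfl
        apply LinearMap.ext
        intro y
        apply Subtype.ext
        rw [h1, ← Cfsg.Agent.H251.GeoCard.toLin_pow, hxr', Units.val_one, Matrix.toLin'_one]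
        rfl
      have hf1 : f ≠ 1 := by
        intro h1
        apply hne
        have h2 := LinearMap.congr_fun h1 ⟨y, hy⟩
        exact congrArg Subtype.val h2
      have h1 := exists_of_lin hr hs f hf hf1
      rw [hD.finrank_eq i] at h1
      exact h.not_div hr hrm hdk h1
    apply hne
    apply Subtype.ext
    apply Units.ext
    apply Matrix.toLin'.injective
    apply LinearMap.ext
    intro y
    have h1 : (⨆ i, D i) ≤ LinearMap.eqLocus (Matrix.toLin' ((x : GL (Fin n) F) : Matrix (Fin n) (Fin n) F))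
        LinearMap.id := by
      rw [iSup_le_iff]
      intro i x hx
      rw [LinearMap.mem_eqLocus]
      exact hres i x hx
    rw [hD.iSup_eq_top] at h1
    have h2 := h1 (Submodule.mem_top (x := y))
    rw [LinearMap.mem_eqLocus] at h2
    rw [h2]
    simp only [_root_.LinearMap.id_coe, _root_.id_eq, _root_.OneMemClass.coe_one, _root_.Units.val_one, _root_.Matrix.toLin'_one]
  have hdk : d < k := by
    have := h.nlt
    nlinarith only [htd, ht, this]
  -- the order of `ψ g` is `m`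
  set G : decompositionStabilizer D := ⟨g, hgD⟩ with hG
  have hGm : orderOf G = m := by rw [← hg, hG, Subgroup.orderOf_mk]
  have hord : m ∣ orderOf (ψ G) := by
    set o := orderOf (ψ G) with ho
    have ho' : o ∣ m := by rw [ho, ← hGm]; exact orderOf_map_dvd ψ G
    by_contra hcon
    -- a prime dividing `m / o`
    obtain ⟨c, hc⟩ := ho'
    have hc1 : c ≠ 1 := by
      rintro rfl
      apply hcon
      rw [hc, mul_one]
    obtain ⟨r, hr, hrc⟩ := Nat.exists_prime_and_dvd hc1
    obtain ⟨c', rfl⟩ := hrc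
    have hm0 : m ≠ 0 := h.m_ne
    have ho0 : 0 < o * c' := by
      apply Nat.pos_of_ne_zero
      intro h0
      apply hm0
      rw [hc]
      calc o * (r * c') = r * (o * c') := by ring
        _ = 0 := by rw [h0, mul_zero]
    have h1 : ψ (G ^ (o * c')) = 1 := by
      rw [map_pow, pow_mul, ho, pow_orderOf_eq_one, one_pow]
    have h2 : (G ^ (o * c')) ^ r = 1 := by
      rw [← pow_mul]
      have : o * c' * r = m := by rw [hc]; ring
      rw [this, ← hGm, pow_orderOf_eq_one]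
    have hrm : r ∣ m := by rw [hc]; exact ⟨o * c', by ring⟩
    have h3 := hker r hr hrm hdk _ h1 h2
    have h4 := orderOf_dvd_of_pow_eq_one h3
    rw [hGm] at h4
    have h5 := Nat.le_of_dvd ho0 h4
    have h6 : o * c' * r = m := by rw [hc]; ring
    have := hr.two_le
    nlinarith only [hc, ho0, h5, this]
  -- compare `t` with the primes
  by_contra hd1
  · obtain ⟨r, hr, hrm⟩ := h.exists_prime
    have h2 : r ∣ Nat.card (Equiv.Perm (Fin t)) := (hrm.trans hord).trans (orderOf_dvd_natCard _)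
    rw [Nat.card_eq_fintype_card, Fintype.card_perm, Fintype.card_fin, hr.dvd_factorial] at h2
    have h3 := h.le_two_mul hr hrm
    have h4 : 2 ≤ d := by omega
    nlinarith only [htd, h2, h3, h4]

/-- the order of the stabiliser of a decomposition into lines -/
theorem card_le_of_decomp {t : ℕ} {D : Fin t → Submodule F (Fin n → F)} (hD : IsMDecomposition 1 D) :
    Nat.card (decompositionStabilizer D) ≤ (Nat.card F - 1) ^ n * n.factorial := by
  classical
  have := Fintype.ofFinite F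
  have htn : t = n := by
    have := H922.mul_eq_card hD
    rwa [Fintype.card_fin, mul_one] at this
  subst htn
  obtain ⟨ψ, hψ⟩ := H907.Mx.exists_permHom hD
  have hv : ∀ i, ∃ v ∈ D i, v ≠ 0 ∧ ∀ w ∈ D i, ∃ c : F, c • v = w := by
    intro i
    obtain ⟨v, hv0, hv⟩ := finrank_eq_one_iff'.1 (hD.finrank_eq i)
    refine ⟨v, v.2, fun h0 => hv0 (Subtype.ext h0), fun w hw => ?_⟩
    obtain ⟨c, hc⟩ := hv ⟨w, hw⟩
    exact ⟨c, congrArg Subtype.val hc⟩
  choose v hvm hv0 hv using hv
  have hc : ∀ (x : decompositionStabilizer D) (i : Fin t), ∃ c : Fˣ,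
      Matrix.toLin' ((x : GL (Fin t) F) : Matrix (Fin t) (Fin t) F) (v i) = (c : F) • v (ψ x i) := by
    intro x i
    have h1 : Matrix.toLin' ((x : GL (Fin t) F) : Matrix (Fin t) (Fin t) F) (v i) ∈ D (ψ x i) := by
      rw [← hψ x i]
      exact Submodule.mem_map_of_mem (hvm i)
    obtain ⟨c, hc⟩ := hv _ _ h1
    have hc0 : c ≠ 0 := by
      rintro rfl
      rw [zero_smul, Matrix.toLin'_apply] at hc
      apply hv0 i
      have h2 : ((x : GL (Fin t) F)⁻¹ : GL (Fin t) F).1 *ᵥ (((x : GL (Fin t) F) : Matrix (Fin t) (Fin t) F) *ᵥ v i) = v i := by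
        rw [Matrix.mulVec_mulVec, Units.inv_mul, Matrix.one_mulVec]
      rw [← h2, ← hc, Matrix.mulVec_zero]
    exact ⟨Units.mk0 c hc0, hc.symm⟩
  choose c hc using hc
  have hinj : Function.Injective (fun x : decompositionStabilizer D => ((c x, ψ x) : (Fin t → Fˣ) × Equiv.Perm (Fin t))) := by
    intro x y hxy
    have h1 : c x = c y := congrArg Prod.fst hxy
    have h2 : ψ x = ψ y := congrArg Prod.snd hxy
    apply Subtype.ext
    apply Units.ext
    apply Matrix.toLin'.injective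
    have h3 : (⨆ i, D i) ≤ LinearMap.eqLocus (Matrix.toLin' ((x : GL (Fin t) F) : Matrix (Fin t) (Fin t) F))
        (Matrix.toLin' ((y : GL (Fin t) F) : Matrix (Fin t) (Fin t) F)) := by
      rw [iSup_le_iff]
      intro i w hw
      rw [LinearMap.mem_eqLocus]
      obtain ⟨a, rfl⟩ := hv i w hw
      rw [map_smul, map_smul, hc, hc, h1, h2]
    rw [hD.iSup_eq_top] at h3
    apply LinearMap.ext
    intro w
    have h4 := h3 (Submodule.mem_top (x := w))
    rwa [LinearMap.mem_eqLocus] at h4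
  refine (Nat.card_le_card_of_injective _ hinj).trans ?_
  rw [Nat.card_prod, Nat.card_fun, Nat.card_units, Nat.card_eq_fintype_card (α := Equiv.Perm (Fin t)),
    Fintype.card_perm, Fintype.card_fin, Nat.card_eq_fintype_card (α := Fin t), Fintype.card_fin]

/-- **(C4)** -/
theorem Num.kill_tensor (h : Num (Nat.card F) n k m) {g : GL (Fin n) F} (hg : orderOf g = m) {n₁ n₂ : ℕ}
    (e : Fin n ≃ Fin n₁ × Fin n₂) (Q : GL (Fin n) F) (h1 : 2 ≤ n₁) (h2 : 2 ≤ n₂)
    (hgD : g ∈ tensorProductSubgroup n₁ n₂ e Q) : False := by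
  have hn : n = n₁ * n₂ := by
    have := Fintype.card_congr e
    rwa [Fintype.card_fin, Fintype.card_prod, Fintype.card_fin, Fintype.card_fin] at this
  have := Fintype.ofFinite F
  obtain ⟨r, hr, hrm⟩ := h.exists_prime
  have h3 := tensor e Q hr (h.not_dvd_q hr hrm) (dvd_card_of_mem hgD (by rwa [hg]))
  refine h.not_div hr hrm ?_ h3
  have := h.nlt
  rw [max_lt_iff]
  constructor <;> nlinarith only [h2, hn, this, h1]

/-- **(C7)** -/
theorem Num.kill_wreath (h : Num (Nat.card F) n k m) {g : GL (Fin n) F} (hg : orderOf g = m) {d t : ℕ}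
    (e : Fin n ≃ (Fin t → Fin d)) (Q : GL (Fin n) F) (h1 : 2 ≤ d) (h2 : 2 ≤ t)
    (hgD : g ∈ tensorWreathSubgroup d t e Q) : False := by
  have hn : n = d ^ t := by
    have := Fintype.card_congr e
    rwa [Fintype.card_fin, Fintype.card_fun, Fintype.card_fin, Fintype.card_fin] at this
  have := Fintype.ofFinite F
  obtain ⟨r, hr, hrm⟩ := h.exists_prime
  rcases wreath e Q hr (h.not_dvd_q hr hrm) (dvd_card_of_mem hgD (by rwa [hg])) with h3 | h3
  · have h4 := h.le_two_mul hr hrm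
    have h5 : t < 2 ^ t := Nat.lt_two_pow_self
    have h6 : 2 ^ t ≤ d ^ t := Nat.pow_le_pow_left h1 t
    have h7 : t * 2 ≤ 2 ^ t := by
      obtain ⟨s, rfl⟩ : ∃ s, t = s + 1 := ⟨t - 1, by omega⟩
      have : s < 2 ^ s := Nat.lt_two_pow_self
      rw [pow_succ]
      omega
    omega
  · refine h.not_div hr hrm ?_ h3
    have := h.nlt
    have h4 : d * d ≤ d ^ t := by
      rw [← pow_two]
      exact Nat.pow_le_pow_right (by omega) h2
    nlinarith only [h1, hn, this, h4]

end

end Cfsg.Agent.H2.Rb.C100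
end

section
prune_inst 0xfee9f88bb837ffdfff7e77a6d8cffc39909fffa6dff94bbfe021df0bdf230209e52b8d09e010fe0ed6601410b87843fbffdeffe26bdc7ffffd5ff45ffbee4fe5f7bd00119688340f3c2fff03f0778e7f000000000000000000000000000000000200000000

-- part: H2/Rb/StructC
section
prune_inst 0x100073046400020000000582410000207400049000400000e08002420809c0208d022000020001000800208000000040000000800200000000000000000101000000c2001340000024000e000000000000000000000000000000000000000000000000000
set_option linter.all false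
open scoped Cfsg.Agent.FastGrp

-- part: H2/Rb/StructB
section
/-!
# S3691 (S): the geometric subgroups containing `g`, part 2 (adapted by helper2 from helper100's `H100.Ppd.StructB`)

* `Num.dvd_of_field` : if `g` normalises a field of matrices of prime degree `s` then `s ∣ gcd n k` or `s = n = m`;
* `card_normalizer_le` : the order of the normaliser in the case `s = n`;
* `Num.kill_coord` : `g` normalises no group of symplectic type.
-/

set_option autoImplicit false
set_option linter.unusedSectionVars false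

namespace Cfsg.Agent.H2.Rb.C100

open Cfsg Cfsg.Geo Matrix
open Cfsg.Agent.H915.LD
open Cfsg.Agent.H251.GeoCard

universe u v w

section field

variable {ι : Type} [Fintype ι] [DecidableEq ι] {F : Type u} [Field F] [Fintype F]

theorem dvd_card_of_field {r : ℕ} {K : Subalgebra F (Matrix ι ι F)} (hK : IsFieldSubalgebra r K) [Nonempty ι] :
    r ∣ Fintype.card ι := by
  let _ : Field K := (H912.isField_of_fieldSub hK).toField
  have hfd : Module.Finite F K := inferInstance
  have hfr99 : Module.Free K (ι → F) := Module.Free.of_divisionRing _ _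
  have hst99 : IsScalarTower F K (ι → F) := by first | exact Subalgebra.isScalarTower_mid _ | infer_instance
  have h1 := Module.finrank_mul_finrank F K (ι → F)
  rw [hK.finrank_eq, Module.finrank_fintype_fun_eq_card] at h1
  exact ⟨_, h1.symm⟩

/-- the normaliser of a field of matrices of the full degree -/
theorem card_normalizer_le [Nonempty ι] {K : Subalgebra F (Matrix ι ι F)}
    (hK : IsFieldSubalgebra (Fintype.card ι) K) :
    Nat.card (subalgebraNormalizer K) ≤ Fintype.card ι * Nat.card F ^ Fintype.card ι := by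
  classical
  have hN : H912.NormAlg (subalgebraNormalizer K) K := fun _ hh a ha => (hh a).mp ha
  let _ : Field K := (H912.isField_of_fieldSub hK).toField
  have hfd : Module.Finite F K := inferInstance
  have hKfin : Finite K := Module.finite_of_finite F
  have hgal : IsGalois F K := inferInstance
  have hne : Nontrivial (ι → F) := inferInstance
  obtain ⟨v, hv⟩ := exists_ne (0 : ι → F)
  let ev : K →ₗ[F] (ι → F) :=
    { toFun := fun a => (a : Matrix ι ι F) *ᵥ v
      map_add' := fun a b => Matrix.add_mulVec _ _ _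
      map_smul' := fun c a => by
        change (c • (a : Matrix ι ι F)) *ᵥ v = c • ((a : Matrix ι ι F) *ᵥ v)
        rw [Matrix.smul_mulVec] }
  have hev : Function.Injective ev := by
    rw [← LinearMap.ker_eq_bot, LinearMap.ker_eq_bot']
    intro a ha
    by_contra ha0
    apply hv
    have h1 : (a⁻¹ * a : K) = 1 := inv_mul_cancel₀ ha0
    have h2 : ((a⁻¹ : K) : Matrix ι ι F) * (a : Matrix ι ι F) = 1 := by
      rw [← Subalgebra.coe_mul, h1, Subalgebra.coe_one]
    have h3 : (a : Matrix ι ι F) *ᵥ v = 0 := ha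
    rw [← Matrix.one_mulVec v, ← h2, ← Matrix.mulVec_mulVec, h3, Matrix.mulVec_zero]
  have hev' : Function.Surjective ev := by
    refine (LinearMap.injective_iff_surjective_of_finrank_eq_finrank ?_).1 hev
    rw [hK.finrank_eq, Module.finrank_fintype_fun_eq_card]
  have hinj : Function.Injective (fun x : subalgebraNormalizer K =>
      ((H912.conjSub hN x, (((x : GL ι F) : Matrix ι ι F)) *ᵥ v) : (K ≃ₐ[F] K) × (ι → F))) := by
    intro x y hxy
    have h1 : H912.conjSub hN x = H912.conjSub hN y := congrArg Prod.fst hxy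
    have h2 : ((x : GL ι F) : Matrix ι ι F) *ᵥ v = ((y : GL ι F) : Matrix ι ι F) *ᵥ v := congrArg Prod.snd hxy
    have h3 : ∀ (z : subalgebraNormalizer K) (a : K), ((z : GL ι F) : Matrix ι ι F) *ᵥ ((a : Matrix ι ι F) *ᵥ v) =
        ((H912.conjSub hN z a : K) : Matrix ι ι F) *ᵥ (((z : GL ι F) : Matrix ι ι F) *ᵥ v) := by
      intro z a
      rw [H912.conjSub_coe, Matrix.mulVec_mulVec, Matrix.mulVec_mulVec, Matrix.mul_assoc, ← Units.val_mul,
        inv_mul_cancel, Units.val_one, Matrix.mul_one]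
    apply Subtype.ext
    apply Units.ext
    apply Matrix.toLin'.injective
    apply LinearMap.ext
    intro w
    obtain ⟨a, rfl⟩ := hev' w
    rw [Matrix.toLin'_apply, Matrix.toLin'_apply]
    change ((x : GL ι F) : Matrix ι ι F) *ᵥ ((a : Matrix ι ι F) *ᵥ v) =
      ((y : GL ι F) : Matrix ι ι F) *ᵥ ((a : Matrix ι ι F) *ᵥ v)
    rw [h3, h3, h1, h2]
  have hfin1 : Finite (K ≃ₐ[F] K) := inferInstance
  refine (Nat.card_le_card_of_injective _ hinj).trans ?_
  rw [Nat.card_prod, IsGalois.card_aut_eq_finrank, hK.finrank_eq, Nat.card_fun, Nat.card_eq_fintype_card (α := ι)]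

end field

section

variable {n : ℕ} {F : Type u} [Field F] [Finite F] {k m : ℕ}

theorem Num.dvd_of_div {q n k m : ℕ} (h : Num q n k m) {r : ℕ} (hr : r.Prime) (hrm : r ∣ m) {s d : ℕ}
    (hs : s.Prime) (hd : d < k) (hdiv : _root_.Cfsg.Agent.H251.GeoCard.Div r (q ^ s) d) : s ∣ k := by
  obtain ⟨i, h1, h2, h3⟩ := hdiv
  have : Fact r.Prime := ⟨hr⟩
  have h4 : ((q : ZMod r)) ^ (s * i) = 1 := by
    rw [pow_mul]
    have h5 : 1 ≤ (q ^ s) ^ i := Nat.one_le_pow _ _ (Nat.pow_pos (by have := h.one_lt_q; omega))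
    have h6 : (((q ^ s) ^ i - 1 : ℕ) : ZMod r) = 0 := (ZMod.natCast_eq_zero_iff _ _).2 h3
    rw [Nat.cast_sub h5, Nat.cast_pow, Nat.cast_pow, Nat.cast_one, sub_eq_zero] at h6
    exact h6
  rw [h.pow_eq_one_iff hr hrm] at h4
  by_contra hcon
  have h5 : Nat.Coprime k s := ((Nat.Prime.coprime_iff_not_dvd hs).2 hcon).symm
  have h6 := Nat.le_of_dvd (by omega) (h5.dvd_of_dvd_mul_left h4)
  omega

/-- **(C3)** -/
theorem Num.dvd_of_field (h : Num (Nat.card F) n k m) {g : GL (Fin n) F} (hg : orderOf g = m) {s : ℕ}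
    (hs : s.Prime) {K : Subalgebra F (Matrix (Fin n) (Fin n) F)} (hK : IsFieldSubalgebra s K)
    (hgK : g ∈ subalgebraNormalizer K) : s ∣ Nat.gcd n k ∨ (s = n ∧ m = n) := by
  have := Fintype.ofFinite F
  have hn : Nonempty (Fin n) := ⟨⟨0, by have := h.ten; omega⟩⟩
  have hsn : s ∣ n := by
    have := dvd_card_of_field hK
    rwa [Fintype.card_fin] at this
  have hn0 : 0 < n := by have := h.ten; omega
  have hdk : n / s < k := by
    have h1 := h.nlt
    have h2 : n / s ≤ n / 2 := Nat.div_le_div_left hs.two_le (by norm_num)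
    omega
  have hm := h.prime
  by_cases hms : m = s
  · right
    subst hms
    have h1 := h.le_two_mul hm dvd_rfl
    obtain ⟨c, hc⟩ := hsn
    have h2 : c < 2 := by
      by_contra hcon
      have : 2 * m ≤ c * m := Nat.mul_le_mul_right m (by omega)
      rw [hc, mul_comm m c] at h1
      omega
    have h3 : c ≠ 0 := by rintro rfl; omega
    have h4 : c = 1 := by omega
    have h5 : m = n := by rw [hc, h4, mul_one]
    exact ⟨h5, h5⟩
  · left
    refine Nat.dvd_gcd hsn ?_
    have h1 := extension hs hK hm (h.not_dvd_q hm dvd_rfl) (dvd_card_of_mem hgK (by rw [hg]))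
    rw [Fintype.card_fin] at h1
    rcases h1 with h1 | h1
    · exact absurd h1 hms
    · exact h.dvd_of_div hm dvd_rfl hs hdk h1

theorem Num.kill_coord (h : Num (Nat.card F) n k m) {g : GL (Fin n) F} (hg : orderOf g = m) {s c : ℕ}
    {R : Subgroup (GL (Fin n) F)} (hs : s.Prime) (hc : 1 ≤ c) (hR : IsPGroup s R) (hn : n = s ^ c)
    (hsF : s ∣ Nat.card F - 1)
    (habs : ActsAbsolutelyIrreducibly (matrixSet R)) (C : H920.Coord R s c)
    (hgR : g ∈ subgroupNormalizer R) : False := by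
  classical
  have hfin : Finite (GL (Fin n) F) := inferInstance
  have hn1 : Nonempty (Fin n) := ⟨⟨0, by have := h.ten; omega⟩⟩
  have hsFact := Fact.mk hs
  have hFt := Fintype.ofFinite F
  -- primes dividing `m` do not divide `s (q - 1)`
  have hcop : ∀ r, r.Prime → r ∣ m → ¬ r ∣ Nat.card F - 1 := by
    intro r hr hrm hd
    exact h.not_div hr hrm (d := 1) (by have := h.six_le; omega) ⟨1, le_rfl, le_rfl, by rwa [pow_one]⟩
  have hrs : ∀ r, r.Prime → r ∣ m → ¬ r ∣ s := by
    intro r hr hrm hd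
    exact hcop r hr hrm (hd.trans hsF)
  obtain ⟨A, hA, hind⟩ := C.exists_ind_of_mem hgR
  -- the order of `A`
  have hAm : A ^ m = 1 := by
    have h1 := hind.pow m
    rw [← hg, pow_orderOf_eq_one] at h1
    rw [← hg]
    exact h1.unique (H920.Coord.Ind.one C)
  set A' : Matrix.symplecticGroup (Fin c) (ZMod s) := ⟨A, hA⟩ with hA'
  have hA'm : A' ^ m = 1 := Subtype.ext hAm
  have hord : m ∣ orderOf A' := by
    set o := orderOf A' with ho
    have ho' : o ∣ m := orderOf_dvd_of_pow_eq_one hA'm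
    by_contra hcon
    obtain ⟨c₁, hc₁⟩ := ho'
    have hc1 : c₁ ≠ 1 := by
      rintro rfl
      apply hcon
      rw [hc₁, mul_one]
    obtain ⟨r, hr, hrc⟩ := Nat.exists_prime_and_dvd hc1
    obtain ⟨c', rfl⟩ := hrc
    have hm0 : m ≠ 0 := h.m_ne
    have hrm : r ∣ m := by rw [hc₁]; exact ⟨o * c', by ring⟩
    have ho0 : 0 < o * c' := by
      apply Nat.pos_of_ne_zero
      intro h0
      apply hm0
      rw [hc₁]
      calc o * (r * c') = r * (o * c') := by ring
        _ = 0 := by rw [h0, mul_zero]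
    have h1 : A ^ (o * c') = 1 := by
      have h2 : A' ^ (o * c') = 1 := by rw [pow_mul, ho, pow_orderOf_eq_one, one_pow]
      exact congrArg Subtype.val h2
    have h2 := hind.pow (o * c')
    rw [h1] at h2
    obtain ⟨x, hx⟩ := C.mem_of_ind_one habs h2
    have h3 : g ^ (o * c') ∈ (R ⊔ scalars (Fin n) F : Subgroup (GL (Fin n) F)) := by
      have h4 := Subgroup.mul_mem_sup x.2 hx
      rwa [mul_inv_cancel_left] at h4
    have hord' : orderOf (g ^ (o * c')) = r := by
      apply orderOf_eq_of_pow_and_pow_div_prime (n := r) hr.pos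
      · rw [← pow_mul]
        have : o * c' * r = m := by rw [hc₁]; ring
        rw [this, ← hg, pow_orderOf_eq_one]
      · intro p hp hpr
        obtain rfl := (Nat.prime_dvd_prime_iff_eq hp hr).1 hpr
        rw [Nat.div_self hp.pos, pow_one]
        intro h4
        have h5 := Nat.le_of_dvd ho0 (orderOf_dvd_of_pow_eq_one h4)
        rw [hg, hc₁] at h5
        have h6 := hp.two_le
        nlinarith only [ho0, h5, h6]
    have h4 : r ∣ Nat.card (R ⊔ scalars (Fin n) F : Subgroup (GL (Fin n) F)) := by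
      rw [← hord', ← Subgroup.orderOf_mk (g ^ (o * c')) h3]
      exact orderOf_dvd_natCard _
    rcases hr.dvd_mul.1 (h4.trans (card_sup_dvd _ _ fun z hz g => scalars_central hz g)) with h5 | h5
    · obtain ⟨a, ha⟩ := (IsPGroup.iff_card).1 hR
      rw [ha] at h5
      exact hrs r hr hrm (hr.dvd_of_dvd_pow h5)
    · exact hcop r hr hrm (h5.trans card_scalars_dvd)
  have hcard : m ∣ s ^ (c ^ 2) * ∏ i ∈ Finset.range c, (s ^ (2 * (i + 1)) - 1) := by
    have h1 := hord.trans (orderOf_dvd_natCard A')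
    rwa [LieClassical.SympCount.card_symplecticGroup, ZMod.card] at h1
  -- the possible primes
  have hprime : ∀ r, r.Prime → r ∣ m → r = n + 1 ∧ k = n ∨ r = n - 1 ∧ k = n - 2 := by
    intro r hr hrm
    have hle := h.le_two_mul hr hrm
    have hten := h.ten
    rcases hr.dvd_mul.1 (hrm.trans hcard) with h3 | h3
    · exact absurd (hr.dvd_of_dvd_pow h3) (hrs r hr hrm)
    · obtain ⟨i, hi, h4⟩ := (Prime.dvd_finset_prod_iff hr.prime _).1 h3
      have hik : i + 1 ≤ c := by
        have := Finset.mem_range.1 hi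
        omega
      have h5 : s ^ (2 * (i + 1)) - 1 = (s ^ (i + 1) + 1) * (s ^ (i + 1) - 1) := by
        rw [mul_comm 2, pow_mul, ← Nat.sq_sub_sq, one_pow]
      have hle' : s ^ (i + 1) ≤ s ^ c := Nat.pow_le_pow_right hs.pos hik
      have h1r : 1 < s ^ (i + 1) := Nat.one_lt_pow (by omega) hs.one_lt
      rw [← hn] at hle'
      have hi' : s ^ (i + 1) = n ∨ s ^ (i + 1) * 2 ≤ n := by
        rcases Nat.lt_or_ge (i + 1) c with h6 | h6
        · right
          calc s ^ (i + 1) * 2 ≤ s ^ (i + 1) * s := Nat.mul_le_mul_left _ hs.two_le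
            _ = s ^ (i + 2) := by rw [pow_succ s (i + 1)]
            _ ≤ s ^ c := Nat.pow_le_pow_right hs.pos h6
            _ = n := hn.symm
        · left
          rw [hn]
          congr 1
          omega
      have hk := h.dvd_sub_one hr hrm
      have hnk := h.nlt
      have hkn := h.kle
      rw [h5] at h4
      rcases hr.dvd_mul.1 h4 with h6 | h6
      · have h7 := Nat.le_of_dvd (by omega) h6
        left
        rcases hi' with h8 | h8
        · rw [h8] at h6
          have h9 : r = n + 1 := by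
            obtain ⟨e, he⟩ := h6
            have h10 : e < 2 := by
              by_contra hcon
              have h8 : 2 * r ≤ e * r := Nat.mul_le_mul_right r (by omega)
              rw [mul_comm r e] at he
              omega
            have h11 : e ≠ 0 := by rintro rfl; omega
            have h12 : e = 1 := by omega
            rw [h12, mul_one] at he
            omega
          refine ⟨h9, ?_⟩
          rw [h9, Nat.add_sub_cancel] at hk
          obtain ⟨e, he⟩ := hk
          have h10 : e < 2 := by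
            by_contra hcon
            have h8 : 2 * k ≤ e * k := Nat.mul_le_mul_right k (by omega)
            rw [mul_comm k e] at he
            omega
          have h11 : e ≠ 0 := by rintro rfl; omega
          have h12 : e = 1 := by omega
          rw [h12, mul_one] at he
          omega
        · omega
      · have h7 := Nat.le_of_dvd (by omega) h6
        right
        rcases hi' with h8 | h8
        · rw [h8] at h6
          have h9 : r = n - 1 := by
            obtain ⟨e, he⟩ := h6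
            have h10 : e < 2 := by
              by_contra hcon
              have h8 : 2 * r ≤ e * r := Nat.mul_le_mul_right r (by omega)
              rw [mul_comm r e] at he
              omega
            have h11 : e ≠ 0 := by rintro rfl; omega
            have h12 : e = 1 := by omega
            rw [h12, mul_one] at he
            omega
          refine ⟨h9, ?_⟩
          have h13 : r - 1 = n - 2 := by (clear * - h9; omega)
          rw [h13] at hk
          obtain ⟨e, he⟩ := hk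
          have h10 : e < 2 := by
            by_contra hcon
            have h8 : 2 * k ≤ e * k := Nat.mul_le_mul_right k (by omega)
            rw [mul_comm k e] at he
            omega
          have h11 : e ≠ 0 := by rintro rfl; omega
          have h12 : e = 1 := by omega
          rw [h12, mul_one] at he
          omega
        · omega
  have hten := h.ten
  have hmm := hprime m h.prime dvd_rfl
  rcases h.bad with h1 | ⟨h1, h2⟩ | ⟨h1, h2⟩ | ⟨-, h2⟩
  · rw [h1] at hsF
    exact hs.one_lt.ne' (Nat.dvd_one.1 hsF)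
  · rw [h1] at hsF
    have h3 : s = 2 := (Nat.prime_dvd_prime_iff_eq hs Nat.prime_two).1 hsF
    subst h3
    have h4 : n = 18 ∨ n = 20 := by (clear * - hmm h2; omega)
    rcases Nat.lt_or_ge c 5 with h5 | h5
    · interval_cases c <;> omega
    · have h6 : 2 ^ 5 ≤ 2 ^ c := Nat.pow_le_pow_right (by norm_num) h5
      omega
  · rw [h1] at hsF
    have h3 : s = 3 := (Nat.prime_dvd_prime_iff_eq hs Nat.prime_three).1 hsF
    subst h3
    have h4 : n = 11 := by omega
    rcases Nat.lt_or_ge c 3 with h5 | h5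
    · interval_cases c <;> omega
    · have h6 : 3 ^ 3 ≤ 3 ^ c := Nat.pow_le_pow_right (by norm_num) h5
      omega
  · omega

end

end Cfsg.Agent.H2.Rb.C100
end

-- part: H2/Rb/StructC
section
/-!
# S3691 (S): the reduction to a core (adapted by helper2 from helper100's `H100.Ppd.StructC`)

* `Num.kill_sympType` : class C6;
* `struct` : a field of matrices normalised by `H`, or a row `Row k m P` with `P ⊴ H`, or `H` is small;
* `card_le_of_row` : `|H| ≤ (q - 1) ^ n |Aut (Soc P)|`.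
-/

set_option autoImplicit false
set_option linter.unusedSectionVars false

namespace Cfsg.Agent.H2.Rb.C100

open Cfsg Cfsg.Geo Matrix
open Cfsg.Agent.H915.LD
open Cfsg.Agent.H251.GeoCard

universe u v w

variable {n k m : ℕ} {F : Type u} [Field F] [Finite F]

/-- **Class C6**. -/
theorem Num.kill_sympType (h : Num (Nat.card F) n k m) {g : GL (Fin n) F} (hg : orderOf g = m) {s c : ℕ}
    {R : Subgroup (GL (Fin n) F)} (habs : ActsAbsolutelyIrreducibly (matrixSet R))
    (hst : IsSymplecticTypeGroup s R) (hc : 1 ≤ c) (hn : Fintype.card (Fin n) = s ^ c)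
    (hcases : (Odd s ∧ Nat.card (Subgroup.center R) = s ∧ Nat.card R = s ^ (1 + 2 * c)) ∨
       (s = 2 ∧ Nat.card (Subgroup.center R) = 4 ∧ Nat.card R = 2 ^ (2 + 2 * c)) ∨
       (s = 2 ∧ Nat.card (Subgroup.center R) = 2 ∧ Nat.card R = 2 ^ (1 + 2 * c)))
    (hcomm : ∀ x ∈ R, ∀ y ∈ R, x * y * x⁻¹ * y⁻¹ ∈ scalars (Fin n) F)
    (hgR : g ∈ subgroupNormalizer R) : False := by
  classical
  have hne : Nonempty (Fin n) := ⟨⟨0, by have := h.ten; omega⟩⟩
  have hpow : ∀ x ∈ R, x ^ s ∈ scalars (Fin n) F := by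
    rcases hcases with h1 | h1 | ⟨h1, h2, -⟩
    · exact H920.pow_of_type hst habs (Or.inl h1)
    · exact H920.pow_of_type hst habs (Or.inr h1)
    · intro x hx
      have h3 : (⟨x, hx⟩ : R) ^ s ∈ Subgroup.center R := by
        rw [Subgroup.mem_center_iff]
        intro y
        set X : R := ⟨x, hx⟩ with hX
        have h4 : y * X * y⁻¹ * X⁻¹ ∈ Subgroup.center R :=
          H920.mem_center_of_mem_scalars habs (hcomm y y.2 x hx)
        set z : R := y * X * y⁻¹ * X⁻¹ with hz
        have h5 : z ^ 2 = 1 := by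
          have h6 : (⟨z, h4⟩ : Subgroup.center R) ^ Nat.card (Subgroup.center R) = 1 := pow_card_eq_one'
          rw [h2] at h6
          exact congrArg Subtype.val h6
        have h6 : y * X * y⁻¹ = z * X := by rw [hz]; group
        have h7 : (y * X * y⁻¹) ^ 2 = X ^ 2 := by
          rw [h6, (Subgroup.mem_center_iff.1 h4 X : X * z = z * X).symm, (show Commute X z from
            Subgroup.mem_center_iff.1 h4 X).mul_pow, h5, mul_one]
        rw [conj_pow] at h7
        rw [h1]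
        calc y * X ^ 2 = (y * X ^ 2 * y⁻¹) * y := by group
          _ = X ^ 2 * y := by rw [h7]
      exact H920.mem_scalars_of_mem_center habs h3
  obtain ⟨C⟩ := H920.exists_coord habs hcomm hst.prime hc hpow hn
  have hsF : s ∣ Nat.card F - 1 := by
    have h1 : s ∣ Nat.card (Subgroup.center R) := by
      rcases hcases with h1 | h1 | h1
      · rw [h1.2.1]
      · rw [h1.2.1, h1.1]; decide
      · rw [h1.2.1, h1.1]
    have hsF' : Fact s.Prime := ⟨hst.prime⟩
    obtain ⟨z, hz⟩ := exists_prime_orderOf_dvd_card' s h1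
    have h2 : orderOf ((z : R) : GL (Fin n) F) = s := by
      rw [Subgroup.orderOf_coe, Subgroup.orderOf_coe, hz]
    obtain ⟨u, hu⟩ := (Cfsg.Geo.mem_scalars_iff _).1 (H920.mem_scalars_of_mem_center habs z.2)
    have hpw : ∀ i : ℕ, ((((z : R) : GL (Fin n) F) ^ i : GL (Fin n) F) : Matrix (Fin n) (Fin n) F) =
        ((u ^ i : Fˣ) : F) • (1 : Matrix (Fin n) (Fin n) F) := by
      intro i
      rw [Units.val_pow_eq_pow_val, hu, smul_pow, one_pow, Units.val_pow_eq_pow_val]
    have hone : ∀ i : ℕ, ((z : R) : GL (Fin n) F) ^ i = 1 ↔ u ^ i = 1 := by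
      intro i
      constructor
      · intro h3
        have h4 := hpw i
        rw [h3] at h4
        have h5 := congrFun (congrFun h4 hne.some) hne.some
        rw [Units.val_one, Matrix.smul_apply, Matrix.one_apply_eq, smul_eq_mul, mul_one] at h5
        exact Units.ext h5.symm
      · intro h3
        apply Units.ext
        rw [hpw, h3, Units.val_one, one_smul, Units.val_one]
    have h3 : orderOf u = s := by
      rw [← h2]
      exact orderOf_eq_orderOf_iff.2 fun i => (hone i).symm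
    rw [← h3, ← Nat.card_units]
    exact orderOf_dvd_natCard u
  rw [Fintype.card_fin] at hn
  exact h.kill_coord hg hst.prime hc hst.pGroup hn hsF habs C hgR

/-- a number -/
theorem two_pow_le (n : ℕ) : 2 ^ n ≤ (n + 1).factorial := by
  induction n with
  | zero => norm_num
  | succ n ih =>
    rw [pow_succ, mul_comm, Nat.factorial_succ (n + 1)]
    exact Nat.mul_le_mul (by omega) ih

/-- the orders of the small groups -/
theorem le_bound {q : ℕ} (hq : 2 ≤ q) (n : ℕ) : n * q ^ n ≤ (q - 1) ^ n * (n + 4).factorial := by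
  have h1 : q ^ n ≤ (2 * (q - 1)) ^ n := Nat.pow_le_pow_left (by omega) n
  have h2 : n * 2 ^ n ≤ (n + 4).factorial := by
    calc n * 2 ^ n ≤ (n + 1 + 1) * (n + 1).factorial := Nat.mul_le_mul (by omega) (two_pow_le n)
      _ = (n + 1 + 1).factorial := (Nat.factorial_succ _).symm
      _ ≤ (n + 4).factorial := Nat.factorial_le (by omega)
  calc n * q ^ n ≤ n * (2 * (q - 1)) ^ n := Nat.mul_le_mul_left n h1
    _ = (q - 1) ^ n * (n * 2 ^ n) := by rw [mul_pow]; ring
    _ ≤ (q - 1) ^ n * (n + 4).factorial := Nat.mul_le_mul_left _ h2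

/-- **Part (A)** : the structural alternatives, or a row. -/
theorem struct' (h : Num (Nat.card F) n k m) {g : GL (Fin n) F} (hg : orderOf g = m)
    (H : Subgroup (GL (Fin n) F)) (hgH : g ∈ H) (hirr : ActsIrreducibly (matrixSet H)) :
    (∃ (r : ℕ) (E : Subalgebra F (Matrix (Fin n) (Fin n) F)), r.Prime ∧ r ∣ Nat.gcd n k ∧
      IsFieldSubalgebra r E ∧ H ≤ subalgebraNormalizer E) ∨
    (∃ P : Subgroup (GL (Fin n) F), P ≤ H ∧ (∀ x ∈ H, ∀ y ∈ P, x * y * x⁻¹ ∈ P) ∧ Row k m P) ∨
    (∃ (t : ℕ) (D : Fin t → Submodule F (Fin n → F)), IsMDecomposition 1 D ∧ H ≤ decompositionStabilizer D) ∨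
    (m = n ∧ Nat.card H ≤ (Nat.card F - 1) ^ n * (n + 4).factorial) := by
  have hten := h.ten
  have hF := Fintype.ofFinite F
  have hne : Nonempty (Fin n) := ⟨⟨0, by omega⟩⟩
  rcases H917.lin_split (by rw [Fintype.card_fin]; omega) H with ⟨W, hW0, hW1, hHW⟩ | ⟨t, d, D, hD, hHD⟩ |
      ⟨r, K, hr, hK, hHK⟩ | ⟨n₁, n₂, e, P, h1, h2, hHP⟩ | ⟨-, hspan⟩
  · exfalso
    rcases hirr W (by
      rintro _ ⟨x, hx, rfl⟩
      rintro _ ⟨v, hv, rfl⟩
      exact (hHW hx v).1 hv) with h1 | h1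
    · exact hW0 h1
    · exact hW1 h1
  · right
    right
    left
    obtain rfl := h.eq_one_of_decomp hg hD (hHD hgH)
    exact ⟨t, D, hD, hHD⟩
  · rcases h.dvd_of_field hg hr hK (hHK hgH) with h1 | ⟨h1, hmn⟩
    · exact Or.inl ⟨r, K, hr, h1, hK, hHK⟩
    · right
      right
      right
      subst h1
      have h2 : IsFieldSubalgebra (Fintype.card (Fin r)) K := by rwa [Fintype.card_fin]
      have h3 := card_normalizer_le h2
      rw [Fintype.card_fin] at h3
      exact ⟨hmn, (Subgroup.card_le_of_le hHK).trans (h3.trans (le_bound h.one_lt_q r))⟩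
  · exact (h.kill_tensor hg e P h1 h2 (hHP hgH)).elim
  rcases H919.C_split H hirr (by rw [Fintype.card_fin]; omega) hspan with
    ⟨N, hNH, hN, hNs, hNc⟩ | ⟨d, t, e, P, E, hW⟩ | ⟨P, hP⟩
  · obtain ⟨s, c, R, hRN, hR, hHR, habs, htype, hchar, hc, hcardR, hcen, hord⟩ :=
      H920.exists_symplecticType hspan hNH hN hNs hNc
    exact (h.kill_sympType hg habs htype hc hcardR hord (fun x hx y hy => hNc x (hRN hx) y (hRN hy))
      (hHR hgH)).elim
  · exact (h.kill_wreath hg e P hW.two_le_m hW.two_le_t (hW.wreath hgH)).elim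
  · by_cases hreal : ∃ F₀ : Subfield F, F₀ ≠ ⊤ ∧ RealisableOver F₀ (matrixSet P)
    · exfalso
      obtain ⟨F₀, hF₀, hreal⟩ := hreal
      obtain ⟨F₁, r, B, -, -, hr, hcard, -, hle⟩ :=
        H914.exists_le_subfieldSubgroup hP.normal hP.absIrred hF₀ hreal
      rcases subfield h.prime (h.not_dvd_q h.prime dvd_rfl) (dvd_card_of_mem (hle hgH) (by rw [hg])) with h1 | h1
      · have h2 := h.coprime_sub_one
        rw [Nat.Prime.coprime_iff_not_dvd h.prime] at h2
        exact h2 h1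
      · obtain ⟨i, hi1, hi2, hi3⟩ := h1
        rw [Fintype.card_fin] at hi2
        have h2 := h.nlt
        have h3 : 2 * k ≤ r * k := Nat.mul_le_mul_right k hr.two_le
        have h4 := h.prim (Nat.card F₁) r i hr.one_lt.le hcard.symm hi1 (by omega)
        rw [Nat.Prime.coprime_iff_not_dvd h.prime] at h4
        exact h4 hi3
    · push Not at hreal
      exact Or.inr (Or.inl ⟨P, hP.le, fun x hx => hP.normal x hx, core_of_residual (hP.isResidualCore hreal), h, g, hg,
        fun x hx => hP.normal g hgH x hx⟩)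

/-- the order of a group normalising a core -/
theorem card_le_of_row' {P H : Subgroup (GL (Fin n) F)} (h : Row k m P) (hH : ∀ x ∈ H, ∀ y ∈ P, x * y * x⁻¹ ∈ P)
    {N : ℕ} (hN : Nat.card (MulAut (Soc P)) ≤ N) : Nat.card H ≤ (Nat.card F - 1) * N := by
  have hC := h.core
  have hF := Fintype.ofFinite F
  have hN : H ≤ Subgroup.normalizer (P : Set (GL (Fin n) F)) := fun g hg => mem_normalizer (hH g hg)
  let f : H →* MulAut (Soc P) := (conjSoc hC.absIrred).comp (Subgroup.inclusion hN)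
  have hfin : Finite (MulAut (Soc P)) := inferInstance
  have h1 : Nat.card f.ker ≤ Nat.card F - 1 := by
    have h2 : Nat.card f.ker ≤ Nat.card (scalars (Fin n) F) := by
      refine Nat.card_le_card_of_injective (fun x : f.ker => (⟨((x : H) : GL (Fin n) F),
        scalar_of_conjSoc hC (g := Subgroup.inclusion hN x) x.2⟩ : scalars (Fin n) F)) ?_
      intro x y hxy
      exact Subtype.ext (Subtype.ext (congrArg (fun z : scalars (Fin n) F => (z : GL (Fin n) F)) hxy))
    have h3 : 1 < Nat.card F := Finite.one_lt_card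
    exact h2.trans (Nat.le_of_dvd (by omega) card_scalars_dvd)
  have h2 : Nat.card H = Nat.card f.ker * Nat.card f.range := by
    rw [← Subgroup.index_ker, mul_comm]
    exact (Subgroup.index_mul_card _).symm
  have h3 : Nat.card f.range ≤ N := (Subgroup.card_le_card_group _).trans ‹Nat.card (MulAut (Soc P)) ≤ N›
  rw [h2]
  exact Nat.mul_le_mul h1 h3

end Cfsg.Agent.H2.Rb.C100
end

private theorem dce_339f36ecade4 : _root_.True := by
  try have : _root_.True := by simp only [_root_.Cfsg.Geo.RealisableOver.congr_simp]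
  exact _root_.True.intro
end

-- part: H2/Rb/ReeB_mg
section
prune_inst 0x116001004c000200000085000000000030000000000004000c0208000108800000000040040000020000000000010000020000100200000000000000000000008000020410400000040009000000000000000000000000000000000000000000000000000
set_option linter.all false
open scoped Cfsg.Agent.FastGrp

-- part: H2/Rb/Sz
section
/-!
# S3691 (S), small primes, defining characteristic: Suzuki groups (from helper909's file for S5948, adapted by helper2)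

`not_sz` : a row with socle a Suzuki group in characteristic two, one prime of `m` dividing the order, is impossible.
-/

set_option autoImplicit false
set_option linter.unusedSectionVars false

namespace Cfsg.Agent.H2.Rb.C909


open Cfsg Cfsg.Geo Matrix Cfsg.Agent.H915.LD Cfsg.Agent.H861.SzN Cfsg.Agent.H2.Rb.C100 Cfsg.Agent.H905.Md

universe u v

section shift

variable {K k : Type*} [Field K] [Fintype K] [Field k] {N : ℕ} [NeZero N]

/-- the shift of the indices -/
def sh (f : ℕ) (i : Fin N) : Fin N := ix ((i : ℕ) + f)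

theorem ix_val (n : ℕ) : ((ix n : Fin N) : ℕ) = n % N := rfl

theorem sh_injective (f : ℕ) : Function.Injective (sh f : Fin N → Fin N) := by
  intro i j h
  have h1 : ((i : ℕ) + f) % N = ((j : ℕ) + f) % N := congrArg Fin.val h
  have h2 : (i : ℕ) ≡ j [MOD N] := Nat.ModEq.add_right_cancel' f h1
  exact Fin.ext (Nat.ModEq.eq_of_lt_of_lt h2 i.2 j.2)

theorem tw_pow_two (j : K →+* k) (hK : Fintype.card K = 2 ^ N) (i : Fin N) (f : ℕ) (x : K) :
    tw j i x ^ 2 ^ f = tw j (sh f i) x := by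
  unfold sh
  rw [tw_ix j hK]
  unfold tw
  rw [← pow_mul, ← pow_add]

theorem image_eq (j : K →+* k) (hK : Fintype.card K = 2 ^ N) {S : Finset (Fin N)} {f : ℕ}
    (h : ∀ x : K, (∏ i ∈ S, tw j i x) ^ 2 ^ f = ∏ i ∈ S, tw j i x) : S.image (sh f) = S := by
  classical
  apply (li_mo (N := N) j hK).injective
  funext x
  change (((S.image (sh f)).val.map fun i => tw j i x)).prod = (S.val.map fun i => tw j i x).prod
  change ∏ i ∈ S.image (sh f), tw j i x = ∏ i ∈ S, tw j i x
  rw [Finset.prod_image fun a _ b _ hab => sh_injective f hab, ← h x, ← Finset.prod_pow]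
  exact Finset.prod_congr rfl fun i _ => (tw_pow_two j hK i f x).symm

theorem le_card {S : Finset (Fin N)} (hS : S.Nonempty) {f s : ℕ} (hfs : f * s = N) (h : S.image (sh f) = S) :
    s ≤ S.card := by
  classical
  obtain ⟨i₀, hi₀⟩ := hS
  have hN : 0 < N := Nat.pos_of_neZero N
  have hf : 0 < f := Nat.pos_of_ne_zero (by rintro rfl; omega)
  have h1 : ∀ a : ℕ, (ix ((i₀ : ℕ) + f * a) : Fin N) ∈ S := by
    intro a
    induction a with
    | zero =>
      have : (ix ((i₀ : ℕ) + f * 0) : Fin N) = i₀ := by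
        apply Fin.ext
        rw [ix_val, mul_zero, add_zero, Nat.mod_eq_of_lt i₀.2]
      rw [this]
      exact hi₀
    | succ a ih =>
      have h2 : sh f (ix ((i₀ : ℕ) + f * a) : Fin N) ∈ S.image (sh f) := Finset.mem_image_of_mem _ ih
      rw [h] at h2
      have h3 : sh f (ix ((i₀ : ℕ) + f * a) : Fin N) = ix ((i₀ : ℕ) + f * (a + 1)) := by
        apply Fin.ext
        unfold sh
        rw [ix_val, ix_val, ix_val, Nat.mod_add_mod]
        congr 1
        ring
      rwa [h3] at h2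
  have h2 : Set.InjOn (fun a : ℕ => (ix ((i₀ : ℕ) + f * a) : Fin N)) (Finset.range s : Finset ℕ) := by
    intro a ha b hb hab
    rw [Finset.coe_range, Set.mem_Iio] at ha hb
    have h3 : ((i₀ : ℕ) + f * a) % N = ((i₀ : ℕ) + f * b) % N := congrArg Fin.val hab
    have h4 : f * a ≡ f * b [MOD N] := Nat.ModEq.add_left_cancel' _ h3
    have h5 : f * a < N := by rw [← hfs]; exact Nat.mul_lt_mul_of_pos_left ha hf
    have h6 : f * b < N := by rw [← hfs]; exact Nat.mul_lt_mul_of_pos_left hb hf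
    exact Nat.eq_of_mul_eq_mul_left hf (Nat.ModEq.eq_of_lt_of_lt h4 h5 h6)
  have h3 := Finset.card_le_card_of_injOn (s := Finset.range s) (t := S) _ (fun a _ => h1 a) h2
  rwa [Finset.card_range] at h3

end shift

/-- `k` divides the exponent -/
theorem k_dvd {n : ℕ} {F : Type u} [Field F] [Finite F] {k m : ℕ} {P : Subgroup (GL (Fin n) F)} (h : Row k m P)
    {r i : ℕ} (hr : r.Prime) (hrm : r ∣ m) (hd : r ∣ Nat.card F ^ i - 1) : k ∣ i := by
  have : Fact r.Prime := ⟨hr⟩
  rw [← h.num.pow_eq_one_iff hr hrm]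
  have h1 : 1 ≤ Nat.card F ^ i := Nat.one_le_pow _ _ (by have := h.num.one_lt_q; omega)
  have h2 : ((Nat.card F ^ i - 1 : ℕ) : ZMod r) = 0 := (ZMod.natCast_eq_zero_iff _ _).2 hd
  rw [Nat.cast_sub h1, Nat.cast_pow, Nat.cast_one, sub_eq_zero] at h2
  exact h2

theorem dvd_aux {r Q : ℕ} (hr : r.Prime) (hQ : ¬ r ∣ Q) (h : r ∣ Q ^ 2 * (Q - 1) * (Q ^ 2 + 1)) :
    r ∣ Q ^ 4 - 1 := by
  rcases Nat.eq_zero_or_pos Q with rfl | hQ1
  · exact absurd (dvd_zero r) hQ
  obtain ⟨Q', rfl⟩ : ∃ Q', Q = Q' + 1 := ⟨Q - 1, by omega⟩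
  have h2 : (Q' + 1) ^ 4 - 1 = (Q' + 1 - 1) * (Q' + 1 + 1) * ((Q' + 1) ^ 2 + 1) := by
    have h3 : (Q' + 1) ^ 4 = (Q' + 1 - 1) * (Q' + 1 + 1) * ((Q' + 1) ^ 2 + 1) + 1 := by
      rw [Nat.add_sub_cancel]; ring
    omega
  rw [h2]
  rcases (Nat.Prime.dvd_mul hr).1 h with h3 | h3
  · rcases (Nat.Prime.dvd_mul hr).1 h3 with h4 | h4
    · exact absurd (hr.dvd_of_dvd_pow h4) hQ
    · exact (h4.mul_right _).mul_right _
  · exact h3.mul_left _

variable {n : ℕ} {F : Type u} [Field F] [Finite F] {k m : ℕ} {P : Subgroup (GL (Fin n) F)}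

/-- **Suzuki groups in characteristic two.** -/
theorem not_sz_of [CharP F 2] (h : Row k m P) (hg : ∃ r, r.Prime ∧ r ∣ m ∧ r ∣ Nat.card (Soc P))
    {K : Type v} [Field K] [Fintype K] {l : ℕ} (hl : 1 ≤ l) (hK : Fintype.card K = 2 ^ (2 * l + 1))
    (e : Soc P ≃* Cfsg.Lie.Sz K (2 ^ (l + 1))) : False := by
  classical
  have : Fact (Nat.Prime 2) := ⟨Nat.prime_two⟩
  have hC := h.core
  obtain ⟨j⟩ := exists_emb F hK
  obtain ⟨φ, S, hφ, hS, hcard, htr⟩ := sz_model hC hl hK e j
  rw [Fintype.card_fin] at hcard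
  -- `|F| ^ s = |K|`
  obtain ⟨s, hs, hFs⟩ := card_pow_eq (F := F) 2 (a := 2 * l + 1) (by omega)
    (pow_eq_of_no_subfield hC.absIrred hC.no_subfield 2 _ fun g hg => by
      rw [← hK]
      exact (sz_both hC.absIrred hC.perfect hl hK e hg).1)
  have := Fintype.ofFinite F
  obtain ⟨f, hf0, hf⟩ := FiniteField.card F 2
  have hfs : (f : ℕ) * s = 2 * l + 1 := by
    rw [Nat.card_eq_fintype_card, hf, ← pow_mul] at hFs
    exact Nat.pow_right_injective le_rfl hFs
  -- periodicity
  have hper : S.image (sh (f : ℕ)) = S := by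
    refine image_eq j hK fun x => ?_
    obtain ⟨g, rfl⟩ := trace_surj hK x
    rw [← htr, ← map_pow, ← hf, FiniteField.pow_card]
  have hle : s ≤ S.card := le_card hS hfs hper
  have h4 : 4 ^ s ≤ n := by
    rw [hcard]
    exact Nat.pow_le_pow_right (by norm_num) hle
  -- `k ≤ 4 s`
  obtain ⟨r, hr, hrm, hrc⟩ := hg
  have hk : k ∣ 4 * s := by
    refine k_dvd h hr hrm ?_
    rw [Nat.card_congr e.toEquiv, (Cfsg.Agent.S1163.result hl hK).1] at hrc
    rw [mul_comm, pow_mul, hFs]
    refine dvd_aux hr (fun h1 => ?_) hrc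
    rw [← hFs] at h1
    exact h.num.not_dvd_q hr hrm (hr.dvd_of_dvd_pow h1)
  have hk2 : k ≤ 4 * s := Nat.le_of_dvd (by omega) hk
  have hn := h.num.nlt
  have hten := h.num.ten
  -- `4 ^ s < 8 s`
  have hbad : ∀ s : ℕ, 2 ≤ s → 8 * s ≤ 4 ^ s := by
    intro s hs
    induction s, hs using Nat.le_induction with
    | base => norm_num
    | succ s hs ih => rw [pow_succ]; omega
  by_cases hs2 : 2 ≤ s
  · have := hbad s hs2
    omega
  · omega

/-- **Suzuki groups in characteristic two.** -/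
theorem not_sz {p : ℕ} [Fact p.Prime] [CharP F p] (h : Row k m P)
    (hg : ∃ r, r.Prime ∧ r ∣ m ∧ r ∣ Nat.card (Soc P)) (hp : p = 2) (hT : Lie.IsoSuzuki (Soc P)) : False := by
  subst hp
  obtain ⟨K, _, _, l, hl, hK, ⟨e⟩⟩ := hT
  exact not_sz_of h hg hl hK e

end Cfsg.Agent.H2.Rb.C909
end

-- part: H2/Rb/Ree
section
/-!
# S3691 (S), small primes, defining characteristic: Ree groups (from helper909's file for S5948, adapted by helper2)

* `fixed_unique` : rank one, the `U`-fixed vectors form a line;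
* `steinberg_le` : rank one, trivial torus character, `φ (n v) = 0`: `|U| - 1 ≤ dim V`;
* `not_ree` : a row with socle a Ree group in characteristic three, one prime of `m` dividing the order, is impossible.
-/

set_option autoImplicit false
set_option linter.unusedSectionVars false

namespace Cfsg.Agent.H2.Rb.C909


open Cfsg Cfsg.Geo Matrix Cfsg.Agent.H915.LD Cfsg.Agent.H2.Rb.C100 Cfsg.Agent.H905.Md

universe u v w

section rankone

open CoxeterSystem Cfsg.Agent.ChevalleyStructure.CoxeterGeom Cfsg.Agent.Tits.Roots Cfsg.Agent.Tits.Core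
  Cfsg.Agent.Nodes.Reps Cfsg.Agent.Nodes.BNOf Cfsg.Agent.Nodes.Bruhat Cfsg.Agent.Nodes.OppDec Cfsg.Agent.Omega.CR
  Cfsg.Agent.Omega.FOne.Lift.Sd Cfsg.Agent.Nodes.RootsA
open Cfsg.Agent.LieRecognition.BNCox (cA cA_apply)

variable {p : ℕ} [Fact p.Prime] {Y : Type*} [Group Y] [Finite Y] {U T : Subgroup Y} {n : Y}
  {k V : Type*} [Field k] [AddCommGroup V] [Module k V] [FiniteDimensional k V]
  {ρ : Y →* Module.End k V}

/-- **The fixed vectors of `U` form a line.** -/
theorem fixed_unique [IsAlgClosed k] [CharP k p] (hD : Sp1 p U T n) (hT : ∀ s ∈ T, ∀ t ∈ T, s * t = t * s)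
    (hirr : ∀ L : Submodule k V, (∀ g, ∀ v ∈ L, ρ g v ∈ L) → L = ⊥ ∨ L = ⊤) {x y : V} (hx0 : x ≠ 0)
    (hx : ∀ u ∈ U, ρ u x = x) (hy : ∀ u ∈ U, ρ u y = y) : ∃ a : k, y = a • x := by
  have : Nontrivial V := ⟨x, 0, hx0⟩
  have : Finite (cA 1).Group := finite_W (cA 1).toCoxeterSystem (isCartan 1)
  have R := hD.rgd (cA 1).toCoxeterSystem (isCartan 1)
  have hG := hD.gg (cA 1).toCoxeterSystem (isCartan 1)
  have hirr' : ∀ L : Submodule k V, Ivt ρ (GG (cA 1).toCoxeterSystem (isCartan 1) T (X1 U n)) L → L = ⊥ ∨ L = ⊤ := by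
    intro L hL
    exact hirr L fun g v hv => hL g (by rw [hG]; trivial) v hv
  have h1 := finrank_D R hirr' hT
  have hle : RGD.Sup (X1 U n) (RGD.Pos (cA 1).toCoxeterSystem (isCartan 1)) ≤ U := by
    refine RGD.Sup_le fun z hz => ?_
    rcases (isRoot_one _ _).1 hz.1 with rfl | rfl
    · rw [X1_pos]
    · exfalso
      have h2 : (0 : Fin 1 → ℤ) 0 ≤ (-sr (0 : Fin 1) : Fin 1 → ℤ) 0 := hz.2 0
      rw [Pi.neg_apply, sr_self, Pi.zero_apply] at h2
      omega
  have hxD : x ∈ D (cA 1).toCoxeterSystem (isCartan 1) (X1 U n) ρ := fun u hu => hx u (hle hu)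
  have hyD : y ∈ D (cA 1).toCoxeterSystem (isCartan 1) (X1 U n) ρ := fun u hu => hy u (hle hu)
  obtain ⟨a, ha⟩ := (finrank_eq_one_iff_of_nonzero' (⟨x, hxD⟩ : D (cA 1).toCoxeterSystem (isCartan 1) (X1 U n) ρ)
    (fun h => hx0 (congrArg Subtype.val h))).1 h1 ⟨y, hyD⟩
  exact ⟨a, (congrArg Subtype.val ha).symm⟩

/-- **The Steinberg module.** -/
theorem steinberg_le [Finite U] (hD : Sp1 p U T n) {v : V} {ψ : Module.Dual k V} (hU : ∀ u ∈ U, ρ u v = v)
    (hχ : ∀ t ∈ T, ρ t v = v) (hψ : ∀ u ∈ U, ∀ x, ψ (ρ (n * u * n⁻¹) x) = ψ x) (h1 : ψ v = 1)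
    (h0 : ψ (ρ n v) = 0) : Nat.card U - 1 ≤ Module.finrank k V := by
  classical
  have := Fintype.ofFinite U
  have hm : ∀ a b x, ρ (a * b) x = ρ a (ρ b x) := fun a b x => by rw [map_mul]; rfl
  have key : ∀ x ∈ U, ψ (ρ (x * n) v) = if x = 1 then 0 else 1 := by
    intro x hx
    split_ifs with hx1
    · rw [hx1, one_mul, h0]
    · rcases hD.br (n * x * n⁻¹) with ⟨u, hu, t, ht, e⟩ | ⟨u, hu, t, ht, u', hu', e⟩
      · exact absurd (hD.tr x hx u hu t ht e) hx1
      · have e2 : x * n = (n * ((n * n)⁻¹ * u * (n * n)) * n⁻¹) * ((n⁻¹ * t * n) * (u' * (n * n))) := by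
          calc x * n = n⁻¹ * (n * x * n⁻¹) * (n * n) := by group
            _ = _ := by rw [e]; group
        have h2 : (n * n)⁻¹ * u * (n * n) ∈ U := by
          have := hD.tu _ (inv_mem hD.nn) u hu
          rwa [inv_inv] at this
        have e3 : ρ ((n⁻¹ * t * n) * (u' * (n * n))) v = v := by
          rw [hm (n⁻¹ * t * n), hm u', hχ _ hD.nn, hU _ hu', hχ _ (hD.nt' ht)]
        rw [e2, hm, hψ _ h2, e3, h1]
  have h2 := H909.Sp4Ker.le_of_biorth (k := k) (V := V) (ι := {x : U // x ≠ 1})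
    (fun x => ψ.comp (ρ ((x : U) : Y)⁻¹) - ψ) (fun y => ρ (((y : U) : Y) * n) v) (d := -1)
    (neg_ne_zero.2 one_ne_zero) (by
      intro x y
      have h3 : ψ (ρ (((x : U) : Y)⁻¹) (ρ (((y : U) : Y) * n) v)) = if x = y then 0 else 1 := by
        rw [← hm, ← mul_assoc, key _ (mul_mem (inv_mem (x : U).2) (y : U).2)]
        have h4 : (((x : U) : Y)⁻¹ * ((y : U) : Y) = 1) ↔ x = y := by
          rw [inv_mul_eq_one]
          exact ⟨fun h => Subtype.ext (Subtype.ext h), fun h => by rw [h]⟩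
        simp only [h4]
      have h5 : ψ (ρ (((y : U) : Y) * n) v) = 1 := by
        rw [key _ (y : U).2, if_neg]
        exact fun h => y.2 (Subtype.ext h)
      change ψ (ρ (((x : U) : Y)⁻¹) (ρ (((y : U) : Y) * n) v)) - ψ (ρ (((y : U) : Y) * n) v) = _
      rw [h3, h5]
      split_ifs <;> simp)
  have h3 : Fintype.card {x : U // x ≠ 1} = Nat.card U - 1 := by
    rw [Fintype.card_subtype_compl, Fintype.card_subtype_eq, Nat.card_eq_fintype_card]
  rwa [h3] at h2

end rankone

section involution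

variable {k V : Type*} [Field k] [AddCommGroup V] [Module k V] [FiniteDimensional k V] {G : Type*} [Group G]
  {ρ : G →* Module.End k V}

/-- the vectors negated by `z` -/
def ng (ρ : G →* Module.End k V) (z : G) : Submodule k V where
  carrier := {x | ρ z x = -x}
  add_mem' {a b} ha hb := by
    change ρ z (a + b) = -(a + b)
    rw [map_add, ha, hb, neg_add]
  zero_mem' := by
    change ρ z 0 = -0
    rw [map_zero, neg_zero]
  smul_mem' c a ha := by
    change ρ z (c • a) = -(c • a)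
    rw [map_smul, ha, smul_neg]

theorem mem_ng {z : G} {x : V} : x ∈ ng ρ z ↔ ρ z x = -x := Iff.rfl

theorem ng_conj_le {z x : G} : Module.finrank k (ng ρ z) ≤ Module.finrank k (ng ρ (x⁻¹ * z * x)) := by
  have hm : ∀ a b y, ρ (a * b) y = ρ a (ρ b y) := fun a b y => by rw [map_mul]; rfl
  let f : ng ρ z →ₗ[k] ng ρ (x⁻¹ * z * x) :=
    { toFun := fun y => ⟨ρ x⁻¹ y, by
        rw [mem_ng, ← hm, mul_assoc, mul_inv_cancel, mul_one, hm, mem_ng.1 y.2, map_neg]⟩
      map_add' := fun a b => Subtype.ext (map_add _ _ _)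
      map_smul' := fun c a => Subtype.ext (map_smul _ _ _) }
  refine LinearMap.finrank_le_finrank_of_injective (f := f) fun a b hab => ?_
  have h1 : ρ x⁻¹ (a : V) = ρ x⁻¹ b := congrArg Subtype.val hab
  have h2 : ∀ y : V, ρ x (ρ x⁻¹ y) = y := fun y => by rw [← hm, mul_inv_cancel, map_one]; rfl
  exact Subtype.ext (by rw [← h2 a, h1, h2])

/-- three commuting involutions with product one -/
theorem ng_three (h2 : (2 : k) ≠ 0) {z z' : G} (d : ℕ) (hz : d ≤ Module.finrank k (ng ρ z))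
    (hz' : d ≤ Module.finrank k (ng ρ z')) (hzz : d ≤ Module.finrank k (ng ρ (z * z'))) :
    3 * d ≤ 2 * Module.finrank k V := by
  have hm : ∀ a b y, ρ (a * b) y = ρ a (ρ b y) := fun a b y => by rw [map_mul]; rfl
  have e1 := Submodule.finrank_sup_add_finrank_inf_eq (ng ρ z) (ng ρ z')
  have e2 := Submodule.finrank_le (ng ρ z ⊔ ng ρ z')
  have e3 := Submodule.finrank_sup_add_finrank_inf_eq (ng ρ z ⊓ ng ρ z') (ng ρ (z * z'))
  have e4 := Submodule.finrank_le (ng ρ z ⊓ ng ρ z' ⊔ ng ρ (z * z'))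
  have e5 : ng ρ z ⊓ ng ρ z' ⊓ ng ρ (z * z') = ⊥ := by
    rw [eq_bot_iff]
    rintro x ⟨⟨h3, h4⟩, h5⟩
    have h6 : ρ (z * z') x = -x := h5
    rw [hm, mem_ng.1 h4, map_neg, mem_ng.1 h3, neg_neg] at h6
    have h7 : (2 : k) • x = 0 := by
      rw [two_smul]
      nth_rewrite 2 [h6]
      exact add_neg_cancel x
    exact (smul_eq_zero.1 h7).resolve_left h2
  rw [e5, finrank_bot] at e3
  omega

/-- the elements of a group of order eight and exponent two permuted by an element of order seven -/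
theorem exists_conj {S : Subgroup G} (h8 : Nat.card S = 8) {g : G} (hg : ∀ s ∈ S, g⁻¹ * s * g ∈ S) (hg7 : g ^ 7 = 1)
    (hfix : ∀ s ∈ S, g⁻¹ * s * g = s → s = 1) {z s : G} (hz : z ∈ S) (hz1 : z ≠ 1) (hs : s ∈ S) (hs1 : s ≠ 1) :
    ∃ x : G, s = x⁻¹ * z * x := by
  classical
  have hfin : Finite S := Nat.finite_of_card_ne_zero (by omega)
  have := Fintype.ofFinite S
  have hmem : ∀ i : ℕ, (g ^ i)⁻¹ * z * g ^ i ∈ S := by
    intro i
    induction i with
    | zero => simpa using hz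
    | succ i ih =>
      have h1 := hg _ ih
      have e : g⁻¹ * ((g ^ i)⁻¹ * z * g ^ i) * g = (g ^ (i + 1))⁻¹ * z * g ^ (i + 1) := by
        rw [pow_succ]; group
      rwa [e] at h1
  have hne : ∀ i : ℕ, (g ^ i)⁻¹ * z * g ^ i ≠ 1 := by
    intro i h1
    apply hz1
    have h2 : z = g ^ i * ((g ^ i)⁻¹ * z * g ^ i) * (g ^ i)⁻¹ := by group
    rw [h2, h1]
    group
  -- a power fixing `z`
  have hfixi : ∀ i : ℕ, 0 < i → i < 7 → (g ^ i)⁻¹ * z * g ^ i ≠ z := by
    intro i hi hi7 h1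
    apply hz1
    have hcomm : Commute (g ^ i) z := by
      have h2 : g ^ i * ((g ^ i)⁻¹ * z * g ^ i) = g ^ i * z := by rw [h1]
      have h3 : g ^ i * ((g ^ i)⁻¹ * z * g ^ i) = z * g ^ i := by group
      exact h2.symm.trans h3
    obtain ⟨b, hb⟩ : ∃ b : ℕ, i * b % 7 = 1 := by
      interval_cases i
      · exact ⟨1, by norm_num⟩
      · exact ⟨4, by norm_num⟩
      · exact ⟨5, by norm_num⟩
      · exact ⟨2, by norm_num⟩
      · exact ⟨3, by norm_num⟩
      · exact ⟨6, by norm_num⟩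
    have h2 : (g ^ i) ^ b = g := by
      rw [← pow_mul, ← Nat.div_add_mod (i * b) 7, hb, pow_add, pow_mul, hg7, one_pow, one_mul, pow_one]
    have h3 : Commute g z := by
      have := hcomm.pow_left b
      rwa [h2] at this
    apply hfix z hz
    calc g⁻¹ * z * g = g⁻¹ * (z * g) := by group
      _ = g⁻¹ * (g * z) := by rw [h3.eq]
      _ = z := by group
  let f : Fin 7 → {s : S // s ≠ 1} := fun i => ⟨⟨(g ^ (i : ℕ))⁻¹ * z * g ^ (i : ℕ), hmem i⟩, fun h =>
    hne i (congrArg Subtype.val h)⟩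
  have hinj : Function.Injective f := by
    have key : ∀ i l : Fin 7, (i : ℕ) < l → f i ≠ f l := by
      intro i l hil h1
      have h2 : (g ^ (i : ℕ))⁻¹ * z * g ^ (i : ℕ) = (g ^ (l : ℕ))⁻¹ * z * g ^ (l : ℕ) :=
        congrArg (fun x : {s : S // s ≠ 1} => ((x : S) : G)) h1
      have h3 : g ^ (l : ℕ) = g ^ ((l : ℕ) - i) * g ^ (i : ℕ) := by
        rw [← pow_add]; congr 1; omega
      rw [h3] at h2
      apply hfixi ((l : ℕ) - i) (by omega) (by have := l.2; omega)
      have h4 : (g ^ ((l : ℕ) - i))⁻¹ * z * g ^ ((l : ℕ) - i) =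
          g ^ (i : ℕ) * ((g ^ ((l : ℕ) - i) * g ^ (i : ℕ))⁻¹ * z * (g ^ ((l : ℕ) - i) * g ^ (i : ℕ))) *
            (g ^ (i : ℕ))⁻¹ := by group
      rw [h4, ← h2]
      group
    intro i l hil
    by_contra hne'
    rcases lt_or_gt_of_ne (fun h => hne' (Fin.ext h) : (i : ℕ) ≠ l) with h | h
    · exact key i l h hil
    · exact key l i h hil.symm
  have hcard : Fintype.card (Fin 7) = Fintype.card {s : S // s ≠ 1} := by
    rw [Fintype.card_subtype_compl, Fintype.card_subtype_eq, ← Nat.card_eq_fintype_card (α := S), h8, Fintype.card_fin]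
  obtain ⟨i, hi⟩ := ((Fintype.bijective_iff_injective_and_card f).2 ⟨hinj, hcard⟩).2
    ⟨⟨s, hs⟩, fun h => hs1 (congrArg Subtype.val h)⟩
  exact ⟨g ^ (i : ℕ), (congrArg (fun x : {s : S // s ≠ 1} => ((x : S) : G)) hi).symm⟩

end involution

end Cfsg.Agent.H2.Rb.C909
end

-- part: H2/Rb/ReeB
section
/-!
# S3691 (S), small primes, defining characteristic: Ree groups, the row (from helper909's file for S5948, adapted by helper2)
-/

set_option autoImplicit false
set_option linter.unusedSectionVars false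

namespace Cfsg.Agent.H2.Rb.C909


open Matrix
open Cfsg Cfsg.Geo Cfsg.Lie Cfsg.Agent.ChevalleyStructure.Ree Cfsg.Agent.ChevalleyStructure.Ree.Words
  Cfsg.Agent.ChevalleyStructure.Ree.Gens Cfsg.Agent.ChevalleyStructure.Ree.Normal
  Cfsg.Agent.ChevalleyStructure.Ree.Bruhat Cfsg.Agent.ChevalleyStructure.Ree.Blocks
  Cfsg.Agent.LieRecognition.ReeSylowThree Cfsg.Agent.FixBN.ReeSplit Cfsg.Agent.H905.Md Cfsg.Agent.H915.LD
  Cfsg.Agent.H911 Cfsg.Agent.H2.Rb.C100 Cfsg.Agent.H141.ReeK

universe u v w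

section period

variable {F : Type*} [Field F] [Finite F] {ι : Type} [Fintype ι] [DecidableEq ι] {K : Type*} [Field K] [Fintype K]
  {m : ℕ} {P : Subgroup (GL ι F)}

/-- the values of the torus character lie in `F` -/
theorem period_aux [CharP F 3] (hC : Core P) (hK : Fintype.card K = 3 ^ (2 * m + 1)) {θ : K →+* K}
    (c : Ctx θ (3 ^ m)) (j : K →+* AlgebraicClosure F) {φ : ↥(twistedG2 K (3 ^ m)) →* GL ι F} (hφ : φ.range = P)
    {v : ι → AlgebraicClosure F} {r : ℕ} (hv : v ≠ 0)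
    (hU : ∀ t u w, lin (acRep φ) (Data.U K (3 ^ m) t u w) v = v)
    (hT : ∀ α : Kˣ, lin (acRep φ) (Data.T c α) v = j (c.dd α) ^ r • v) (α : Kˣ) :
    (j (c.dd α) ^ r) ^ Nat.card F = j (c.dd α) ^ r := by
  classical
  have h3p : Fact (Nat.Prime 3) := ⟨Nat.prime_three⟩
  have hk : CharP (AlgebraicClosure F) 3 :=
    charP_of_injective_ringHom (algebraMap F (AlgebraicClosure F)).injective 3
  have hfin : Finite ↥(twistedG2 K (3 ^ m)) := finite (Data.data c)
  have := Fintype.ofFinite F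
  obtain ⟨f, hf0, hf⟩ := FiniteField.card F 3
  set fr : AlgebraicClosure F →+* AlgebraicClosure F := iterateFrobenius (AlgebraicClosure F) 3 f with hfr
  have hfrx : ∀ x, fr x = x ^ Nat.card F := by
    intro x
    rw [hfr, iterateFrobenius_def, Nat.card_eq_fintype_card, hf]
  have hfrF : ∀ a : F, fr (algebraMap F (AlgebraicClosure F) a) = algebraMap F (AlgebraicClosure F) a := by
    intro a
    rw [hfrx, ← map_pow, Nat.card_eq_fintype_card, FiniteField.pow_card]
  have hcomm : ∀ g (x : ι → AlgebraicClosure F), lin (acRep φ) g (fr ∘ x) = fr ∘ lin (acRep φ) g x := by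
    intro g x
    rw [lin_apply, lin_apply, acRep_apply]
    funext i
    have h1 := RingHom.map_mulVec fr ((φ g : Matrix ι ι F).map (algebraMap F (AlgebraicClosure F))) x i
    have h2 : ((φ g : Matrix ι ι F).map (algebraMap F (AlgebraicClosure F))).map fr =
        (φ g : Matrix ι ι F).map (algebraMap F (AlgebraicClosure F)) := by
      ext a b
      exact hfrF _
    rw [h2] at h1
    exact h1.symm
  have hfrv : ∀ w, w ∈ uSub (Data.data c) → lin (acRep φ) w (fr ∘ v) = fr ∘ v := by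
    rintro _ ⟨t, u, w, rfl⟩
    rw [hcomm, hU]
  obtain ⟨a, ha⟩ := fixed_unique (ree_sp1 hK (Data.data c)) (reeT_comm (Data.data c)) (ρ := lin (acRep φ))
    (fun L hL => acRep_irr hφ (H920.span_eq_top hC.absIrred) rfl L fun g _ v hv => hL g v hv) hv
    (by rintro _ ⟨t, u, w, rfl⟩; exact hU t u w) hfrv
  have hfr0 : fr ∘ v ≠ 0 := by
    intro h
    apply hv
    funext i
    have h1 : fr (v i) = 0 := congrFun h i
    exact (map_eq_zero fr).1 h1
  have h1 := hcomm (Data.T c α) v
  have h2 : fr ∘ (j (c.dd α) ^ r • v) = fr (j (c.dd α) ^ r) • (fr ∘ v) := by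
    funext i
    exact map_mul fr _ _
  rw [hT, h2] at h1
  have h3 : lin (acRep φ) (Data.T c α) (fr ∘ v) = j (c.dd α) ^ r • (fr ∘ v) := by
    rw [ha, map_smul, hT, smul_comm]
  rw [h3] at h1
  rw [← hfrx]
  exact (smul_left_injective (AlgebraicClosure F) hfr0 h1).symm

theorem dd_surj {θ : K →+* K} (c : Ctx θ (3 ^ m)) (x : Kˣ) : ∃ α : Kˣ, c.dd α = x := by
  have h1 : Function.Injective (ddU c) := fun a b h => by rw [← ddInv_ddU c a, h, ddInv_ddU c b]
  obtain ⟨α, hα⟩ := (Finite.surjective_of_injective h1) x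
  exact ⟨α, congrArg Units.val hα⟩

/-- **The exponent is periodic.** -/
theorem period [CharP F 3] (hC : Core P) (hK : Fintype.card K = 3 ^ (2 * m + 1)) {θ : K →+* K}
    (c : Ctx θ (3 ^ m)) (j : K →+* AlgebraicClosure F) {φ : ↥(twistedG2 K (3 ^ m)) →* GL ι F} (hφ : φ.range = P)
    {v : ι → AlgebraicClosure F} {r : ℕ} (hv : v ≠ 0)
    (hU : ∀ t u w, lin (acRep φ) (Data.U K (3 ^ m) t u w) v = v)
    (hT : ∀ α : Kˣ, lin (acRep φ) (Data.T c α) v = j (c.dd α) ^ r • v) :
    Fintype.card K - 1 ∣ r * (Nat.card F - 1) := by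
  classical
  obtain ⟨ζ, hζ⟩ := IsCyclic.exists_generator (α := Kˣ)
  have hord : orderOf ζ = Fintype.card K - 1 := by
    rw [orderOf_eq_card_of_forall_mem_zpowers hζ, Nat.card_eq_fintype_card, Fintype.card_units]
  rw [← hord]
  apply orderOf_dvd_of_pow_eq_one
  obtain ⟨α, hα⟩ := dd_surj c ζ
  have h1 := period_aux hC hK c j hφ hv hU hT α
  rw [hα, ← map_pow, ← map_pow, ← pow_mul] at h1
  have h2 := j.injective h1
  apply Units.ext
  rw [Units.val_pow_eq_pow_val, Units.val_one]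
  have hq : 1 ≤ Nat.card F := Nat.card_pos
  obtain ⟨q', hq'⟩ : ∃ q', Nat.card F = q' + 1 := ⟨Nat.card F - 1, by omega⟩
  rw [hq', Nat.add_sub_cancel]
  rw [hq', mul_add, mul_one, pow_add] at h2
  have h3 : (ζ : K) ^ r ≠ 0 := pow_ne_zero _ ζ.ne_zero
  exact mul_right_cancel₀ h3 (by rw [h2, one_mul])

end period

section small

open Cfsg.Agent.H909.ReeKer Cfsg.Agent.H909.Sp4Ker Cfsg.Agent.H875.Fn

variable {k V : Type*} [Field k] [CharP k 3] [AddCommGroup V] [Module k V] [FiniteDimensional k V] {K : Type*}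
  [Field K] [Fintype K]
  {ρ : ↥(twistedG2 K (3 ^ 1)) →* Module.End k V} {θ : K →+* K} (c : Ctx θ (3 ^ 1)) (j : K →+* k)

/-- the involution commutes with the columns -/
theorem comm_col (y : K) : Data.T c (-1) * (Data.N c * Data.U K (3 ^ 1) 0 y 0 * Data.N c) =
    (Data.N c * Data.U K (3 ^ 1) 0 y 0 * Data.N c) * Data.T c (-1) := by
  have D := Data.data c
  have h1 : Data.N c * Data.T c (-1) = Data.T c (-1) * Data.N c := by
    have := D.n_h (-1)
    rwa [inv_neg, inv_one] at this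
  have h2 : Data.T c (-1) * Data.U K (3 ^ 1) 0 y 0 = Data.U K (3 ^ 1) 0 y 0 * Data.T c (-1) := by
    rw [D.h_U]
    congr 1
    have e1 : ((-1 : Kˣ) : K) ^ (3 ^ (1 + 1) + 3) = 1 := by
      rw [Units.val_neg, Units.val_one]; norm_num
    rw [e1, one_mul, mul_zero, mul_zero]
  calc Data.T c (-1) * (Data.N c * Data.U K (3 ^ 1) 0 y 0 * Data.N c)
      = (Data.T c (-1) * Data.N c) * Data.U K (3 ^ 1) 0 y 0 * Data.N c := by group
    _ = Data.N c * (Data.T c (-1) * Data.U K (3 ^ 1) 0 y 0) * Data.N c := by rw [← h1]; group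
    _ = Data.N c * Data.U K (3 ^ 1) 0 y 0 * (Data.T c (-1) * Data.N c) := by rw [h2]; group
    _ = _ := by rw [← h1]; group

theorem dd_neg_one : c.dd (-1) = -1 := by
  unfold Ctx.dd
  rw [Units.val_neg, Units.val_one, map_neg, map_one]
  ring

theorem negone_sq : Data.T c (-1) * Data.T c (-1) = 1 := by
  rw [← (Data.data c).h_mul, neg_mul_neg, one_mul, (Data.data c).h_one]

/-- the vectors negated by the involution, exponent 13, `|K| = 27` -/
theorem ng_ge (hK : Fintype.card K = 3 ^ (2 * 1 + 1)) {v : V} {ψ : Module.Dual k V}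
    (hT : ∀ α : Kˣ, ρ (Data.T c α) v = j (c.dd α) ^ 13 • v)
    (hker : ∀ t u w t' u' w', ψ (ρ (Data.U K (3 ^ 1) t u w) (ρ
        (Data.N c * Data.U K (3 ^ 1) t' u' w' * Data.N c) v)) = j (ker (3 ^ 1) t u w t' u' w') ^ 13) :
    27 ≤ Module.finrank k (ng ρ (Data.T c (-1))) := by
  classical
  have hm : ∀ a b y, ρ (a * b) y = ρ a (ρ b y) := fun a b y => by rw [map_mul]; rfl
  have hzv : ρ (Data.T c (-1)) v = -v := by
    rw [hT, dd_neg_one, map_neg, map_one, neg_one_pow_eq_neg_one_iff_odd (by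
      intro h
      have h2 : (2 : k) = 0 := by
        linear_combination -h
      have h1 : ((2 : ℕ) : k) = 0 := by exact_mod_cast h2
      rw [CharP.cast_eq_zero_iff k 3] at h1
      omega) |>.2 (by decide), neg_one_smul]
  have hmem : ∀ y : K, ρ (Data.N c * Data.U K (3 ^ 1) 0 y 0 * Data.N c) v ∈ ng ρ (Data.T c (-1)) := by
    intro y
    rw [mem_ng, ← hm, comm_col, hm, hzv, map_neg]
  have hrows := rows_eq j hK (f := fun t u w => ψ.comp (ρ (Data.U K (3 ^ 1) t u w)))
    (w := fun t u w => ρ (Data.N c * Data.U K (3 ^ 1) t u w * Data.N c) v) (c := 13) hker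
  have h27 : Fintype.card K = 27 := by rw [hK]; norm_num
  have hred : red (Fintype.card K) ((1 + 3 ^ 1) * (13 - 0)) = 26 := by rw [h27]; decide
  have hex : ∀ κ : SS 3 26, ∃ G : Module.Dual k (ng ρ (Data.T c (-1))), ∀ y : K,
      G ⟨ρ (Data.N c * Data.U K (3 ^ 1) 0 y 0 * Data.N c) v, hmem y⟩ =
        (Nat.choose 13 0 : k) * j y ^ ((1 + 3 ^ 1) * 0 + (κ : ℕ)) := by
    intro κ
    refine exists_fun j (e := 3 ^ 1) (c := 13) (δ := 0)
      (fun u V' => (ψ.comp (ρ (Data.U K (3 ^ 1) 0 u (V' ^ (3 ^ 1 * 3))))).comp (ng ρ (Data.T c (-1))).subtype)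
      (fun y => ⟨ρ (Data.N c * Data.U K (3 ^ 1) 0 y 0 * Data.N c) v, hmem y⟩) hrows (Nat.zero_le _) ?_ ?_
    · rw [hred]
      exact κ.2
    · intro d hd _ hcol
      left
      rw [mul_zero, red_zero] at hcol
      by_contra hne
      exact red_ne_zero (by omega) hcol
  choose G hG using hex
  have h1 := le_of_powers j G (fun y => ⟨ρ (Data.N c * Data.U K (3 ^ 1) 0 y 0 * Data.N c) v, hmem y⟩)
    (fun _ => (Nat.choose 13 0 : k)) (fun κ => (1 + 3 ^ 1) * 0 + (κ : ℕ)) (fun _ => by simp) hG (by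
      intro i l hil
      have hi := (mem_SS.1 i.2).1
      have hl := (mem_SS.1 l.2).1
      change red _ ((1 + 3 ^ 1) * 0 + (i : ℕ)) = red _ ((1 + 3 ^ 1) * 0 + (l : ℕ)) at hil
      rw [h27, mul_zero, zero_add, zero_add, red_eq (by omega), red_eq (by omega)] at hil
      exact Subtype.ext hil)
  have h2 : (SS 3 26).card = 27 := by
    have := card3 (x := 2) (y := 2) (z := 2) (show 0 < 1 by norm_num) (show 1 < 2 by norm_num) (by norm_num)
      (by norm_num) (by norm_num)
    norm_num at this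
    exact this
  rwa [Fintype.card_coe, h2] at h1

end small

section row

open Cfsg.Agent.H909.ReeKer

variable {n : ℕ} {F : Type u} [Field F] [Finite F] {k m : ℕ} {P : Subgroup (GL (Fin n) F)}

theorem dvd_six {r Q : ℕ} (hr : r.Prime) (hQ : ¬ r ∣ Q) (h : r ∣ Q ^ 3 * (Q - 1) * (Q ^ 3 + 1)) :
    r ∣ Q ^ 6 - 1 := by
  rcases Nat.eq_zero_or_pos Q with rfl | hQ1
  · exact absurd (dvd_zero r) hQ
  obtain ⟨Q', rfl⟩ : ∃ Q', Q = Q' + 1 := ⟨Q - 1, by omega⟩
  have h2 : (Q' + 1) ^ 6 - 1 = (Q' + 1 - 1) * ((Q' + 1) ^ 2 + (Q' + 1) + 1) * ((Q' + 1) ^ 3 + 1) := by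
    have h3 : (Q' + 1) ^ 6 = (Q' + 1 - 1) * ((Q' + 1) ^ 2 + (Q' + 1) + 1) * ((Q' + 1) ^ 3 + 1) + 1 := by
      rw [Nat.add_sub_cancel]; ring
    omega
  rw [h2]
  rcases (Nat.Prime.dvd_mul hr).1 h with h3 | h3
  · rcases (Nat.Prime.dvd_mul hr).1 h3 with h4 | h4
    · exact absurd (hr.dvd_of_dvd_pow h4) hQ
    · exact (h4.mul_right _).mul_right _
  · exact h3.mul_left _

/-- **Ree groups in characteristic three.** -/
theorem not_ree_of [CharP F 3] (h : Row k m P) (hg : ∃ r, r.Prime ∧ r ∣ m ∧ r ∣ Nat.card (Soc P))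
    {K : Type v} [Field K] [Fintype K] {l : ℕ} (hl : 1 ≤ l) (hK : Fintype.card K = 3 ^ (2 * l + 1))
    (e : Soc P ≃* ↥(twistedG2 K (3 ^ l))) : False := by
  classical
  have h3p : Fact (Nat.Prime 3) := ⟨Nat.prime_three⟩
  have hk : CharP (AlgebraicClosure F) 3 :=
    charP_of_injective_ringHom (algebraMap F (AlgebraicClosure F)).injective 3
  have hC := h.core
  have hn := h.num.nlt
  have hten := h.num.ten
  -- `|F| ^ s = |K|`
  obtain ⟨s, hs, hFs⟩ := card_pow_eq (F := F) 3 (a := 2 * l + 1) (by omega)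
    (pow_eq_of_no_subfield hC.absIrred hC.no_subfield 3 _ fun g hg => by
      rw [← hK]
      exact (ree_both hC.absIrred hC.perfect hl hK e hg).1)
  have hF := Fintype.ofFinite F
  obtain ⟨f, hf0, hf⟩ := FiniteField.card F 3
  have hF3 : Nat.card F = 3 ^ (f : ℕ) := by rw [Nat.card_eq_fintype_card, hf]
  have hfs : (f : ℕ) * s = 2 * l + 1 := by
    rw [hF3, ← pow_mul] at hFs
    exact Nat.pow_right_injective (show 2 ≤ 3 by norm_num) hFs
  -- `k ≤ 6 s`
  obtain ⟨r', hr', hrm, hrc⟩ := hg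
  have hkd : k ∣ 6 * s := by
    refine k_dvd h hr' hrm ?_
    rw [Nat.card_congr e.toEquiv, Cfsg.Agent.LieRecognition.ReeFinal.card hK, ← hFs] at hrc
    rw [mul_comm, pow_mul]
    exact dvd_six hr' (fun h1 => h.num.not_dvd_q hr' hrm (hr'.dvd_of_dvd_pow h1)) hrc
  have hk2 : k ≤ 6 * s := Nat.le_of_dvd (by omega) hkd
  -- `s = 1`
  by_cases hs1 : s = 1
  · have h7 := Cfsg.Agent.H708.ReeSix.ree_eq_seven hC hl hK e (by rw [Fintype.card_fin]; omega)
    rw [Fintype.card_fin] at h7
    omega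
  have hs3 : 3 ≤ s := by
    have hodd : Odd (f * s : ℕ) := ⟨l, by rw [hfs]⟩
    have := (Nat.odd_mul.1 hodd).2
    obtain ⟨b, hb⟩ := this
    omega
  -- the coefficient
  obtain ⟨θ, c⟩ := exists_ctx hK
  obtain ⟨j⟩ := H141.ReeK.exists_emb F hK
  obtain ⟨φ, v, ψ, r, hφ, hinj, hr1, hr2, hψv, hU, hT, hψU, hψn, -, hker⟩ := core_coef hC hl hK e c j
  have hv : v ≠ 0 := by
    rintro rfl
    rw [map_zero] at hψv
    exact zero_ne_one hψv
  -- `r = t (1 + q + ...)`
  have hper := period hC hK c j hφ hv hU hT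
  have hq3 : 3 ^ 1 ≤ 3 ^ (f : ℕ) := Nat.pow_le_pow_right (by norm_num) f.pos
  have hGm := Gm_mul f s
  rw [hfs] at hGm
  obtain ⟨t, ht⟩ : Gm f s ∣ r := by
    rw [hK, hF3] at hper
    have h1 : 3 ^ (2 * l + 1) - 1 = Gm f s * (3 ^ (f : ℕ) - 1) := by omega
    rw [h1] at hper
    exact Nat.dvd_of_mul_dvd_mul_right (by omega) hper
  have ht1 : 1 ≤ t := by
    rcases Nat.eq_zero_or_pos t with rfl | h1
    · rw [mul_zero] at ht; omega
    · exact h1
  have ht2 : t ≤ 3 ^ (f : ℕ) - 1 := by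
    have h1 : Gm f s * t ≤ Gm f s * (3 ^ (f : ℕ) - 1) := by
      rw [← ht]
      rw [hK] at hr2
      omega
    exact Nat.le_of_mul_le_mul_left h1 (Gm_pos (by omega))
  rw [mul_comm] at ht
  have hfr : Module.finrank (AlgebraicClosure F) (Fin n → AlgebraicClosure F) = n := by
    rw [Module.finrank_fintype_fun_eq_card, Fintype.card_fin]
  rcases per_le (V := Fin n → AlgebraicClosure F) j hl hK hfs ht1 ht2
    (f := fun t u w => ψ.comp (lin (acRep φ) (Data.U K (3 ^ l) t u w)))
    (w := fun t u w => lin (acRep φ) (Data.N c * Data.U K (3 ^ l) t u w * Data.N c) v)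
    (by rw [← ht]; exact hker) with h4 | h4
  · rw [hfr] at h4
    have := four_mul_le hs3
    omega
  · rw [hfr, hK, ← hfs] at h4
    by_cases hs4 : 4 ≤ s
    · have h5 := three_mul_le hs4
      have h6 : 3 ^ s ≤ 3 ^ ((f : ℕ) * s) := Nat.pow_le_pow_right (by norm_num) (Nat.le_mul_of_pos_left _ f.pos)
      omega
    · have hs3' : s = 3 := by omega
      subst hs3'
      by_cases hf1 : (f : ℕ) = 1
      · -- `|K| = 27`
        rw [hf1] at hfs ht ht2
        have hl1 : l = 1 := by omega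
        subst hl1
        have hG13 : Gm 1 3 = 13 := by decide
        rw [hG13] at ht
        have h2k : (2 : AlgebraicClosure F) ≠ 0 := by
          intro h0
          have h1 : ((2 : ℕ) : AlgebraicClosure F) = 0 := by exact_mod_cast h0
          rw [CharP.cast_eq_zero_iff (AlgebraicClosure F) 3] at h1
          omega
        have hfin : Finite ↥(twistedG2 K (3 ^ 1)) := finite (Data.data c)
        have ht12 : t = 1 ∨ t = 2 := by
          norm_num at ht2
          omega
        rcases ht12 with rfl | rfl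
        · -- exponent 13
          rw [one_mul] at ht
          subst ht
          have h27 := ng_ge c j hK hT hker
          set z := Data.T c (-1) with hz
          have hzz : z * z = 1 := negone_sq c
          have hz1 : z ≠ 1 := by
            intro h1
            have h5 := hT (-1)
            rw [← hz, h1, map_one, Module.End.one_apply, dd_neg_one, map_neg, map_one] at h5
            have h6 : v = -v := by
              refine h5.trans ?_
              norm_num
            have h7 : (2 : AlgebraicClosure F) • v = 0 := by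
              rw [two_smul]
              nth_rewrite 2 [h6]
              exact add_neg_cancel v
            exact hv ((smul_eq_zero.1 h7).resolve_left h2k)
          have h2g : IsPGroup 2 (Subgroup.zpowers z) := by
            apply IsPGroup.of_card (n := 1)
            rw [Nat.card_zpowers, orderOf_eq_prime (p := 2) (by rw [pow_two, hzz]) hz1, pow_one]
          obtain ⟨S, hS⟩ := h2g.exists_le_sylow
          have hzS : z ∈ (S : Subgroup ↥(twistedG2 K (3 ^ 1))) := hS (Subgroup.mem_zpowers z)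
          obtain ⟨a, haH, ha1, ha2⟩ := Cfsg.Agent.S1157.exists_involution hK
          obtain ⟨h8, -⟩ := (Cfsg.Agent.S1152.result hK a haH ha1 ha2).2 S
          obtain ⟨g, hgS, hg7, hfix⟩ := Cfsg.Agent.H708.ReeSix.ree_data' (by norm_num) hK S
          have hz'S := hgS z hzS
          have hz'1 : g⁻¹ * z * g ≠ 1 := by
            intro h1
            apply hz1
            have h5 : z = g * (g⁻¹ * z * g) * g⁻¹ := by group
            rw [h5, h1]
            group
          have hzz'1 : z * (g⁻¹ * z * g) ≠ 1 := by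
            intro h1
            apply hz1
            apply hfix z hzS
            have h5 : z⁻¹ = z := inv_eq_of_mul_eq_one_left hzz
            have h6 : g⁻¹ * z * g = z⁻¹ := eq_inv_of_mul_eq_one_right h1
            rw [h6, h5]
          obtain ⟨x, hx⟩ := exists_conj h8 hgS hg7 hfix hzS hz1 (mul_mem hzS hz'S) hzz'1
          have h5 := ng_three (ρ := lin (acRep φ)) h2k (z := z) (z' := g⁻¹ * z * g) 27 h27
            (h27.trans ng_conj_le) (by rw [hx]; exact h27.trans ng_conj_le)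
          rw [hfr] at h5
          omega
        · -- exponent 26
          have hcard : Nat.card (uSub (Data.data c)) = 27 ^ 3 := by rw [card_uSub, hK]; norm_num
          have h5 := steinberg_le (ree_sp1 hK (Data.data c)) (ρ := lin (acRep φ)) (v := v) (ψ := ψ)
            (by rintro _ ⟨t, u, w, rfl⟩; exact hU t u w)
            (by
              rintro _ ⟨α, rfl⟩
              rw [hT, ht, ← map_pow]
              have h6 : c.dd α ^ (2 * 13) = 1 := by
                have := FiniteField.pow_card_sub_one_eq_one _ (c.dd_ne α)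
                rw [hK] at this
                norm_num only [] at this
                exact this
              rw [h6, map_one, one_smul])
            (by
              rintro _ ⟨t, u, w, rfl⟩ x
              rw [(Data.data c).n_inv]
              exact hψU t u w x) hψv hψn
          rw [hcard, hfr] at h5
          omega
      · have hf2 : 2 ≤ (f : ℕ) := by
          have := f.pos
          omega
        have h6 : 3 ^ (2 * 3) ≤ 3 ^ ((f : ℕ) * 3) := Nat.pow_le_pow_right (by norm_num) (by omega)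
        norm_num at h6
        (clear * - hn hk2 h4 h6; omega)

/-- **Ree groups in characteristic three.** -/
theorem not_ree {p : ℕ} [Fact p.Prime] [CharP F p] (h : Row k m P)
    (hg : ∃ r, r.Prime ∧ r ∣ m ∧ r ∣ Nat.card (Soc P)) (hp : p = 3) (hT : Lie.IsoRee (Soc P)) : False := by
  subst hp
  obtain ⟨K, _, _, l, hl, hK, ⟨e⟩⟩ := hT
  exact not_ree_of h hg hl hK e

end row

end Cfsg.Agent.H2.Rb.C909
end

-- part: H2/Rb/Nat
section
/-!
# The natural case of the unitary rows (from helper762's file for S5948, adapted by helper2)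

* `conjE` : the automorphism `x ↦ x ^ q` of a field of order `q ^ 2`; `conjE_ne`;
* `span_IU` : the matrices of `SU_N(K)` span the matrix algebra, `N ≥ 3`;
* **`nat_of_ident`** : if `P` is `SU_N(K)` up to an isomorphism of the fields and a change of the basis, then `Nat' P`.
-/

set_option autoImplicit false
set_option linter.unusedSectionVars false
set_option linter.style.haveILetI false

namespace Cfsg.Agent.H2.Rb.C762

open Cfsg.Agent.H762.Ppd

open Cfsg.Agent.LieClassical.HermBasic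
open Cfsg.Agent.TitsThree Cfsg.Agent.TitsThree.KSideU Cfsg.Agent.TitsThree.KSideUDesc
open Cfsg.Agent.H915.LD Cfsg.Agent.H925.Nat
open Cfsg.Agent.H2.Rb.C100 (Nat')
open Cfsg Cfsg.Geo Matrix
open scoped MatrixGroups Matrix

universe u v w

section conj

variable {F : Type u} [Field F] [Fintype F] {q : ℕ} (hF : Fintype.card F = q ^ 2)

/-- the automorphism `x ↦ x ^ q` -/
def conjE : F ≃+* F := RingEquiv.ofRingHom (LieClassical.HermBasic.conj hF) (LieClassical.HermBasic.conj hF)
  (RingHom.ext fun x => by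
    change (x ^ q) ^ q = x
    exact pow_q_pow_q hF x)
  (RingHom.ext fun x => by
    change (x ^ q) ^ q = x
    exact pow_q_pow_q hF x)

theorem conjE_apply (x : F) : conjE hF x = x ^ q := rfl

include hF in
theorem two_le_q : 2 ≤ q := by
  have h1 := Fintype.one_lt_card (α := F)
  rw [hF] at h1
  by_contra h
  have h2 : q = 0 ∨ q = 1 := by omega
  rcases h2 with rfl | rfl <;> simp at h1

theorem conjE_ne : conjE hF ≠ RingEquiv.refl F := by
  intro h
  have hq := two_le_q hF
  have h1 : ∀ x : F, x ^ q = x := fun x => by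
    rw [← conjE_apply hF, h]; rfl
  classical
  have h2 : (Finset.univ : Finset F) ⊆ (Polynomial.X ^ q - Polynomial.X : Polynomial F).roots.toFinset := by
    intro x _
    rw [Multiset.mem_toFinset, Polynomial.mem_roots (FiniteField.X_pow_card_sub_X_ne_zero F (by omega))]
    simp [h1 x]
  have h3 := Finset.card_le_card h2
  rw [Finset.card_univ, hF] at h3
  have h4 := (Polynomial.X ^ q - Polynomial.X : Polynomial F).roots.toFinset_card_le
  have h5 := Polynomial.card_roots' (Polynomial.X ^ q - Polynomial.X : Polynomial F)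
  rw [FiniteField.X_pow_card_sub_X_natDegree_eq F (by omega)] at h5
  have h6 : q * 2 ≤ q ^ 2 := by rw [sq]; exact Nat.mul_le_mul_left _ hq
  omega

end conj

section span

variable {K : Type} [Field K] [Fintype K] {q N : ℕ}

theorem span_IU (hK : Fintype.card K = q ^ 2) (hN : 3 ≤ N) :
    Submodule.span K (Set.range (mt (IU K q N))) = ⊤ := by
  refine span_of_absIrr ?_ (H918.SUg_absIrreducible (n := N) hK hN)
  rintro _ ⟨A, hA, rfl⟩
  obtain ⟨g, rfl⟩ := H918.exists_suHom hA
  refine ⟨⟨_root_.Cfsg.Agent.TitsThree.KSideU.toLin K q N g, g, rfl⟩, ?_⟩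
  apply Matrix.toLin'.injective
  refine LinearMap.ext fun v => ?_
  rw [Matrix.toLin'_apply, Matrix.toLin'_apply, mt_mulVec]
  rfl

end span

section main

variable {n : ℕ} {F : Type u} [Field F] [Finite F] {P : Subgroup (GL (Fin n) F)}
  {K : Type} [Field K] [Fintype K] {q N : ℕ}

theorem herm_map (τ : K ≃+* F) (u v : Fin N → K) :
    hermForm N F q (fun i => τ (u i)) (fun i => τ (v i)) = τ (hermForm N K q u v) := by
  unfold hermForm
  rw [map_sum]
  refine Finset.sum_congr rfl fun i _ => ?_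
  rw [map_mul, map_pow]

/-- **The natural case.** -/
theorem nat_of_ident (hK : Fintype.card K = q ^ 2) (τ : K ≃+* F) (θ : (Fin N → F) ≃ₗ[F] (Fin n → F))
    (hθ : ∀ A : GL (Fin n) F, A ∈ P ↔ ∃ g : IU K q N, ∀ v, θ (((_root_.Cfsg.Agent.H925.Nat.mt (IU K q N) g).map (τ : K →+* F)) *ᵥ v) =
      (A : Matrix (Fin n) (Fin n) F) *ᵥ θ v) : Nat' P := by
  have := Fintype.ofFinite F
  have hF : Fintype.card F = q ^ 2 := by rw [← hK]; exact Fintype.card_congr τ.symm.toEquiv
  have hf := H930.hermForm_isUnitaryFormPow hF N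
  right; right; left
  refine ⟨conjE hF, fun u v => hermForm N F q (θ.symm u) (θ.symm v), ⟨conjE_ne hF, fun a => ?_, fun x y v => ?_,
    fun c x v => ?_, fun v w => ?_, ?_⟩, ?_⟩
  · rw [conjE_apply, conjE_apply, pow_q_pow_q hF]
  · change hermForm N F q (θ.symm (x + y)) _ = _
    rw [map_add, hf.add_left]
  · change hermForm N F q (θ.symm (c • x)) _ = _
    rw [map_smul, hf.smul_left]
  · rw [conjE_apply]
    exact hf.herm _ _
  · intro v hv
    obtain ⟨⟨x, hx⟩, ⟨y, hy⟩⟩ := hf.nondegenerate (θ.symm v) fun h0 => hv ((LinearEquiv.map_eq_zero_iff θ.symm).1 h0)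
    refine ⟨⟨θ x, ?_⟩, ⟨θ y, ?_⟩⟩
    · dsimp only
      rw [LinearEquiv.symm_apply_apply]
      exact hx
    · dsimp only
      rw [LinearEquiv.symm_apply_apply]
      exact hy
  · intro A hA hdet
    rw [hθ]
    -- the matrix on `F^N`
    let B : Matrix (Fin N) (Fin N) F := LinearMap.toMatrix'
      ((θ.symm : (Fin n → F) →ₗ[F] (Fin N → F)) ∘ₗ (Matrix.toLin' (A : Matrix (Fin n) (Fin n) F)) ∘ₗ
        (θ : (Fin N → F) →ₗ[F] (Fin n → F)))
    have hB : ∀ v, B *ᵥ v = θ.symm ((A : Matrix (Fin n) (Fin n) F) *ᵥ θ v) := by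
      intro v
      rw [← Matrix.toLin'_apply, Matrix.toLin'_toMatrix']
      rfl
    have hBd : B.det = 1 := by
      have h1 : B.det = LinearMap.det ((θ.symm : (Fin n → F) →ₗ[F] (Fin N → F)) ∘ₗ
          (Matrix.toLin' (A : Matrix (Fin n) (Fin n) F)) ∘ₗ (θ : (Fin N → F) →ₗ[F] (Fin n → F))) :=
        LinearMap.det_toMatrix' _
      have h2 := LinearMap.det_conj (Matrix.toLin' (A : Matrix (Fin n) (Fin n) F)) θ.symm
      rw [LinearEquiv.symm_symm] at h2
      rw [h1, h2, LinearMap.det_toLin']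
      have h3 := congrArg Units.val hdet
      exact h3
    have hBf : ∀ u v, hermForm N F q (B *ᵥ u) (B *ᵥ v) = hermForm N F q u v := by
      intro u v
      have h1 := hA _ (Set.mem_singleton _) (θ u) (θ v)
      simp only [LinearEquiv.symm_apply_apply] at h1
      rw [hB, hB, h1]
    -- the matrix over `K`
    let C : Matrix (Fin N) (Fin N) K := B.map τ.symm
    have hCB : C.map τ = B := by
      ext i j
      simp [C]
    have hCd : C.det = 1 := by
      have h1 : C.det = τ.symm B.det := by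
        have := RingHom.map_det (τ.symm : F →+* K) B
        exact this.symm
      rw [h1, hBd, map_one]
    have hCv : ∀ v : Fin N → K, (fun i => τ ((C *ᵥ v) i)) = B *ᵥ (fun i => τ (v i)) := by
      intro v
      rw [← hCB]
      funext i
      exact RingHom.map_mulVec (τ : K →+* F) C v i
    let g : SU N K q := ⟨⟨C, hCd⟩, fun u v => by
      change hermForm N K q (C *ᵥ u) (C *ᵥ v) = hermForm N K q u v
      apply τ.injective
      rw [← herm_map τ, ← herm_map τ, hCv, hCv, hBf]⟩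
    refine ⟨⟨_root_.Cfsg.Agent.TitsThree.KSideU.toLin K q N g, g, rfl⟩, fun v => ?_⟩
    have h1 : _root_.Cfsg.Agent.H925.Nat.mt (IU K q N) ⟨_root_.Cfsg.Agent.TitsThree.KSideU.toLin K q N g, g, rfl⟩ = C := by
      apply Matrix.toLin'.injective
      refine LinearMap.ext fun v => ?_
      rw [Matrix.toLin'_apply, Matrix.toLin'_apply, mt_mulVec]
      rfl
    rw [h1]
    have h2 : C.map (τ : K →+* F) = B := hCB
    rw [h2, hB, LinearEquiv.apply_symm_apply]

end main

end Cfsg.Agent.H2.Rb.C762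
end

-- part: H2/Rb/PsuAux
section
/-!
# S3691 (S), small primes: `PSU_N(q₀)`, `N ≥ 6`, in its own characteristic (from helper762's file for S5948, adapted by helper2)

**`nat_psu_aux`** : `Row k m P`, `Soc P ≃ PSU_N(q₀)`, `N ≥ 6`, `char K = char F` imply `Nat' P`, given the bound for `k`
and the bound for `N = 7`, `|F| = q₀`.
-/

set_option autoImplicit false
set_option linter.unusedSectionVars false
set_option linter.style.haveILetI false

namespace Cfsg.Agent.H2.Rb.C762

open Cfsg.Agent.H762.Ppd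

open CoxeterSystem Cfsg.Agent.ChevalleyStructure.CoxeterGeom Cfsg.Agent.Tits.Roots Cfsg.Agent.Tits.Core
  Cfsg.Agent.Nodes.Reps Cfsg.Agent.Nodes.BNOf Cfsg.Agent.Nodes.Bruhat Cfsg.Agent.Nodes.RGDLib
open Cfsg.Agent.Nodes Cfsg.Agent.Nodes.WittRoot Cfsg.Agent.Nodes.WittRGD Cfsg.Agent.Nodes.WittAll Cfsg.Agent.Nodes.WittU
open Cfsg.Agent.Nodes.TypeC (isCartan)
open Cfsg.Agent.LieClassical.HermBasic Cfsg.Agent.LieClassical.HermSiegel
open Cfsg.Agent.TitsThree.Siegel Cfsg.Agent.TitsThree.SiegelGen Cfsg.Agent.TitsThree.WittFrame Cfsg.Agent.TitsThree.FrameCN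
  Cfsg.Agent.TitsThree.WBridge Cfsg.Agent.TitsThree.KSideU Cfsg.Agent.TitsThree.KSideUDesc Cfsg.Agent.TitsThree
open Cfsg.Agent.H915.LD Cfsg.Agent.H911 Cfsg.Agent.H905.Md Cfsg.Agent.H925.Nat Cfsg.Agent.Nodes.RGDLift
open Cfsg.Agent.H156.Ppd (Cov lrep exists_cov)
open Cfsg.Agent.Omega.CR Cfsg.Agent.Omega.FOne.Lift.Sd
open Cfsg.Agent.H948.Ppd
open Cfsg.Agent.H61.SUCross Cfsg.Agent.H48.NatSU
open Cfsg.Agent.H2.Rb.C100 (Row Num Nat')
open Cfsg Cfsg.Geo
open scoped MatrixGroups Matrix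

universe u v w

variable {n : ℕ} {F : Type u} [Field F] [Finite F] {k m : ℕ} {P : Subgroup (GL (Fin n) F)}
  {K : Type} [Field K] [Fintype K] {N q : ℕ} (p : ℕ) [hp : Fact p.Prime] [hFp : CharP F p] [hKp : CharP K p]
include hp hFp hKp

theorem nat_psu_aux (h : Row k m P) (hN : 6 ≤ N) (hK : Fintype.card K = q ^ 2) (e : Soc P ≃* PSU N K q)
    (hkle : ∀ j, 1 ≤ j → Nat.card F ^ j = q ^ 2 → k ≤ j * (2 * ((N - 1) / 2) + 1))
    (hseven : ∀ (hN : 3 ≤ N) (W : WFrame (PU hK N) 3) (d : Fin N → K), N = 7 → hermForm N K q d d = 1 →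
      W.V0 = Submodule.span K {d} → ∀ φ₀ : SU N K q →* GL (Fin n) F, φ₀.range = P → Nat.card F ^ 2 = q ^ 2 →
      (2 : Fin 3) ∉ Jx (CoxeterMatrix.B 3).toCoxeterSystem (isCartan 3) (WittModel.X (modelSU hK hN W)) (lrep φ₀) →
      56 ≤ n) : Nat' P := by
  have hC := h.core
  have hN3 : 3 ≤ N := by omega
  obtain ⟨r, hr⟩ : ∃ r, N = 2 * r ∨ N = 2 * r + 1 := ⟨N / 2, by omega⟩
  have hr3 : 3 ≤ r := by omega
  have hNo : 2 * ((N - 1) / 2) + 1 = 2 * r - 1 ∨ 2 * ((N - 1) / 2) + 1 = 2 * r + 1 := by omega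
  obtain ⟨W, hW, hW'⟩ : ∃ W : WFrame (PU hK N) r, Kind W ∧
      (N = 2 * r + 1 → ∃ d : Fin N → K, hermForm N K q d d = 1 ∧ W.V0 = Submodule.span K {d}) := by
    rcases hr with hr | hr
    · obtain ⟨W, hW⟩ := exists_wframe_even hK hr
      exact ⟨W, Or.inl hW, fun h => by omega⟩
    · obtain ⟨W, d, hd, hW⟩ := exists_wframe_odd hK hr
      exact ⟨W, Or.inr ⟨d, hd, hW⟩, fun _ => ⟨d, hd, hW⟩⟩
  have hWf : Finite (CoxeterMatrix.B r).Group := TypeC.finite_W (CoxeterMatrix.B r).toCoxeterSystem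
  have := finite_GL (K := K) (ν := Fin N)
  obtain ⟨p0, hp0, -⟩ := exists_adm hK W
  have hA : AmbT (toFrame W) p (modelSU hK hN3 W).I := AmbT.of_amb (amb_U hK W) p
  obtain ⟨φ₀, hφ₀, C⟩ := exists_covSU' (hN := hN3) (W := W) hC (by omega) (by omega) (hA := hA) hp0 e
  have hT : ∀ s ∈ (TB (modelSU hK hN3 W)).comap (MonoidHom.id (modelSU hK hN3 W).I),
      ∀ t ∈ (TB (modelSU hK hN3 W)).comap (MonoidHom.id (modelSU hK hN3 W).I), s * t = t * s :=
    fun s hs t ht => comm_SU hW s hs t ht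
  have hpow : ∀ t ∈ (TB (modelSU hK hN3 W)).comap (MonoidHom.id (modelSU hK hN3 W).I), t ^ Nat.card K = t :=
    fun t ht => pow_SU hW t ht
  -- the order of the field
  obtain ⟨c, -, hc⟩ := FiniteField.card K p
  rw [← Nat.card_eq_fintype_card] at hc
  obtain ⟨j, hj, hjK⟩ := C.exists_j hC hT (a := c) c.ne_zero (by rw [← hc]; exact hpow)
  rw [← hc] at hjK
  have hjq : Nat.card F ^ j = q ^ 2 := by rw [hjK, Nat.card_eq_fintype_card, hK]
  have hk := hkle j hj hjq
  have hnlt : n < 2 * (j * (2 * ((N - 1) / 2) + 1)) := by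
    have := h.num.nlt
    omega
  have hnlt' : n < 2 * (j * (2 * r + 1)) := by
    refine hnlt.trans_le (Nat.mul_le_mul_left _ (Nat.mul_le_mul_left _ (by (clear * - hN hK hr3 hNo; omega))))
  obtain ⟨hirr, hD⟩ := irr_B hC C hT
  have hne := hC.nonempty
  have hchar : CharP (AlgebraicClosure F) p := charP_of_injective_algebraMap (algebraMap F _).injective p
  -- the edges
  have hedge : ∀ i : Fin r, (i : ℕ) + 1 < r →
      i ∉ JB (modelSU hK hN3 W) p (MonoidHom.id (modelSU hK hN3 W).I) (φ₀.comp (modelSU hK hN3 W).φ) →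
      ∃ m, 2 ≤ m ∧ dB (modelSU hK hN3 W) p (MonoidHom.id (modelSU hK hN3 W).I) (φ₀.comp (modelSU hK hN3 W).φ) i = m ^ j := by
    intro i hi hiJ
    obtain ⟨σ, -, N₁, -⟩ := exists_ndI hp0 C hi (by
      intro e
      have := congrArg Fin.val e
      simp only at this
      omega)
    exact edge_pow_B hC C hT hiJ (⟨N₁.up, N₁.lo, N₁.tor⟩ : Nd _ _ i σ) hjK.symm
  by_cases hmid : ∃ i : Fin r, i ∉ JB (modelSU hK hN3 W) p (MonoidHom.id (modelSU hK hN3 W).I)
      (φ₀.comp (modelSU hK hN3 W).φ) ∧ 1 ≤ (i : ℕ) ∧ (i : ℕ) + 1 < r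
  · exfalso
    obtain ⟨i, hi, hi1, hi2⟩ := hmid
    have hd := hedge i hi2 hi
    have hb := bound_all hC C hT hi
    rw [Fintype.card_fin] at hb
    rcases Nat.lt_or_ge 3 r with hr4 | hr4
    · exact Ar.mid hr4 hj hnlt' hd hi1 hi2 hb
    · obtain rfl : r = 3 := by omega
      have hi1' : (i : ℕ) = 1 := by omega
      rw [hi1'] at hb
      have hb' : 12 * dB (modelSU hK hN3 W) p (MonoidHom.id (modelSU hK hN3 W).I) (φ₀.comp (modelSU hK hN3 W).φ) i ≤
          2 * n := by
        have e1 : Nat.choose 3 (1 + 1) * 2 ^ (1 + 1) = 12 := by decide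
        rwa [e1] at hb
      rcases hr with hr | hr
      · have e2 : 2 * ((N - 1) / 2) + 1 = 5 := by omega
        rw [e2] at hnlt
        exact Ar.mid_six hj hnlt hd hb'
      · have e2 : 2 * ((N - 1) / 2) + 1 = 7 := by omega
        rw [e2] at hnlt
        have h3 := Low.b3_mid C.rgd hirr rfl hi1' hi
        have h4 := finrank_Io C.rgd hirr i
        rw [hD, Module.finrank_fintype_fun_eq_card, Fintype.card_fin, mul_one] at h3
        rw [hD] at h4
        have hj1 := Ar.mid_seven hj hnlt hd hb' h4 h3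
        subst hj1
        by_cases h0 : (0 : Fin 3) ∈ JB (modelSU hK hN3 W) p (MonoidHom.id (modelSU hK hN3 W).I)
          (φ₀.comp (modelSU hK hN3 W).φ)
        · obtain rfl : i = 1 := Fin.ext hi1'
          obtain ⟨p', f, hp', hch, hqf, hf⟩ := LieClassical.HermBasic.exists_prime_pow hK
          obtain rfl : p' = p := CharP.eq K hch ‹_›
          have hF : Nat.card F = p' ^ (2 * f) := by
            rw [← pow_one (Nat.card F), hjq, hqf, ← pow_mul, mul_comm]
          have h5 := mid_bound_su hC hp0 C hT hi h0 hF hqf (Nat.gcd_eq_right (Dvd.intro_left 2 rfl))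
          rw [Fintype.card_fin] at h5
          omega
        · have h5 := Low.b3_01 C.rgd hirr rfl (i := 0) (j := i) rfl hi1' h0 hi
          rw [hD, Module.finrank_fintype_fun_eq_card, Fintype.card_fin] at h5
          omega
  have hends : ∀ i : Fin r, i ∉ JB (modelSU hK hN3 W) p (MonoidHom.id (modelSU hK hN3 W).I)
      (φ₀.comp (modelSU hK hN3 W).φ) → (i : ℕ) = 0 ∨ (i : ℕ) + 1 = r := by
    intro i hi
    by_contra hcon
    have := i.2
    exact hmid ⟨i, hi, by omega, by omega⟩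
  by_cases h0 : (⟨0, by omega⟩ : Fin r) ∈ JB (modelSU hK hN3 W) p (MonoidHom.id (modelSU hK hN3 W).I)
      (φ₀.comp (modelSU hK hN3 W).φ)
  · -- the last node
    exfalso
    have hJ : ∀ i, i ∉ JB (modelSU hK hN3 W) p (MonoidHom.id (modelSU hK hN3 W).I)
        (φ₀.comp (modelSU hK hN3 W).φ) → i = ⟨r - 1, by omega⟩ := by
      intro i hi
      rcases hends i hi with h1 | h1
      · exact absurd h0 (by
          have : i = ⟨0, by omega⟩ := Fin.ext h1
          rwa [this] at hi)
      · exact Fin.ext (by simp only; omega)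
    obtain ⟨i, hi⟩ := exists_node hC C hT
    have hi' := hJ i hi
    rw [hi'] at hi
    obtain ⟨p', f, hp', hch, hqf, hf⟩ := LieClassical.HermBasic.exists_prime_pow hK
    obtain rfl : p' = p := CharP.eq K hch ‹_›
    have := Fintype.ofFinite F
    obtain ⟨a, -, ha⟩ := FiniteField.card F p'
    rw [← Nat.card_eq_fintype_card] at ha
    have hs : f / Nat.gcd a f * Nat.gcd a f = f := Nat.div_mul_cancel (Nat.gcd_dvd_right _ _)
    set s := f / Nat.gcd a f with hsdef
    have haj : (a : ℕ) * j = 2 * f := by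
      have h1 : p' ^ ((a : ℕ) * j) = p' ^ (2 * f) := by
        rw [pow_mul, ← ha, hjq, hqf, ← pow_mul, mul_comm]
      exact Nat.pow_right_injective hp'.two_le h1
    have hjs : j ≤ 2 * s := by
      have h1 : Nat.gcd a f ≤ a := Nat.gcd_le_left _ a.pos
      have h2 : (a : ℕ) * j ≤ a * (2 * s) := by
        rw [haj]
        calc 2 * f = 2 * (s * Nat.gcd a f) := by rw [hs]
          _ ≤ 2 * (s * a) := Nat.mul_le_mul_left _ (Nat.mul_le_mul_left _ h1)
          _ = a * (2 * s) := by ring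
      exact Nat.le_of_mul_le_mul_left h2 a.pos
    have h5 := last_bound hC hp0 C hT hr3 (by simp only; omega) hi hJ ha hqf hs
    rw [Fintype.card_fin] at h5
    obtain ⟨h6, h7, h8⟩ := Ar.last hr3 hj hNo hnlt hjs h5
    subst h6
    obtain ⟨d, hd, hV0⟩ := hW' (by (clear * - h7 hr; omega))
    have h9 := hseven hN3 W d (by (clear * - h7 hr; omega)) hd hV0 φ₀ hφ₀ (by rw [h8] at hjq; exact hjq) (not_mem_witt hC hp0 C hT hi)
    rw [h7, h8] at hnlt
    omega
  · -- the first node
    obtain ⟨ε, hε, h3⟩ := bound_first hC C hT (by omega) rfl h0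
    rw [Fintype.card_fin] at h3
    obtain ⟨hj1, hd2⟩ := Ar.first hr3 hj hnlt' (hedge _ (by simp only; omega) h0) hε h3
    subst hj1
    by_cases hl : (⟨r - 1, by omega⟩ : Fin r) ∈ JB (modelSU hK hN3 W) p (MonoidHom.id (modelSU hK hN3 W).I)
      (φ₀.comp (modelSU hK hN3 W).φ)
    · obtain ⟨τ, θ, hθ⟩ := identify_B hC hA hp0 (by omega) (span_IU hK hN3) C hT (o := ⟨0, by omega⟩) rfl
        (fun i hi => by
          rcases hends i hi with h1 | h1
          · exact Fin.ext h1
          · exact absurd hl (by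
              have : i = ⟨r - 1, by omega⟩ := Fin.ext (by simp only; omega)
              rwa [this] at hi)) hd2
      exact nat_of_ident hK τ θ hθ
    · exfalso
      rcases Nat.lt_or_ge 4 r with hr5 | hr5
      · obtain ⟨ε', -, h4⟩ := bound_last hC C hT (i := ⟨r - 1, by omega⟩) (by simp only; omega) hl
        rw [Fintype.card_fin] at h4
        have h5 := Ar.pow_five hr5
        omega
      · rcases Nat.lt_or_ge 3 r with hr4 | hr4
        · obtain rfl : r = 4 := by omega
          have h5 := Low.b4_03 C.rgd hirr rfl (i := ⟨0, by omega⟩) (j := ⟨4 - 1, by omega⟩) rfl rfl h0 hl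
          rw [hD, Module.finrank_fintype_fun_eq_card, Fintype.card_fin] at h5
          omega
        · obtain rfl : r = 3 := by omega
          have h5 := Low.b3_02 C.rgd hirr rfl (i := ⟨0, by omega⟩) (j := ⟨3 - 1, by omega⟩) rfl rfl h0 hl
          rw [hD, Module.finrank_fintype_fun_eq_card, Fintype.card_fin] at h5
          omega

end Cfsg.Agent.H2.Rb.C762
end

-- part: H2/Rb/UMain
section
/-!
# S3691 (S), small primes: `PSU(3, q₀)` in the defining characteristic (from helper525's file for S5948, adapted by helper2)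

* **`su3_bound`** : an absolutely irreducible representation of `SU(3, q₀)` of degree at least two over `F`,
  `|F| ^ N = q₀ ^ 2`, `N ≥ 2`, has degree at least `6`, and at least `6 N` if `N ≥ 3`;
* `core_bound` : the same for a core of type `PSU(3, q₀)`;
* **`not_psu3`** : the row.
-/

set_option autoImplicit false
set_option linter.unusedSectionVars false
set_option linter.style.haveILetI false

namespace Cfsg.Agent.H2.Rb.C525

open Cfsg.Agent.H525.Ppd

open Cfsg Cfsg.Geo Cfsg.Agent.LieClassical.HermSiegel Cfsg.Agent.LieClassical.HermBasic Matrix Cfsg.Agent.H906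
  Cfsg.Agent.H915.LD Cfsg.Agent.H905.Md Cfsg.Agent.H929.U3 Cfsg.Agent.H2.Rb.C100

universe u

/-- the order of the field of the frame -/
theorem exists_exp {E : Type*} [Field E] [Fintype E] {p : ℕ} [hp : Fact p.Prime] [CharP E p] {q : ℕ}
    (hE : Fintype.card E = q ^ 2) : ∃ f, q = p ^ f := by
  obtain ⟨m, -, hm⟩ := FiniteField.card E p
  rw [hE] at hm
  exact (Nat.dvd_prime_pow hp.out).1 (hm ▸ Dvd.intro_left q (by ring) : q ∣ p ^ (m : ℕ)) |>.imp fun k hk => hk.2

section

variable {F : Type u} [Field F] [Finite F] {ι : Type} [Fintype ι] [DecidableEq ι]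
  (p : ℕ) [hp : Fact p.Prime] [hFp : CharP F p] {E : Type} [Field E] [Fintype E] [hEp : CharP E p]

include p hp hFp hEp in
/-- **absolutely irreducible representations of `SU(3, q)`** -/
theorem su3_bound {q : ℕ} (hE : Fintype.card E = q ^ 2) (ρ : SU 3 E q →* GL ι F)
    (hM : Submodule.span (AlgebraicClosure F) (Set.range (acRep ρ)) = ⊤) (h2 : 2 ≤ Fintype.card ι) {N : ℕ}
    (hN : Nat.card F ^ N = q ^ 2) (hN2 : 2 ≤ N) :
    6 ≤ Fintype.card ι ∧ (3 ≤ N → 6 * N ≤ Fintype.card ι) := by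
  classical
  have hp2 := hp.out.two_le
  have : Fintype F := Fintype.ofFinite F
  have hq2 := two_le hE
  obtain ⟨f, hq⟩ := exists_exp (p := p) hE
  obtain ⟨s, -, hs⟩ := FiniteField.card F p
  have hs0 : 0 < (s : ℕ) := s.pos
  have hcF : Nat.card F = p ^ (s : ℕ) := by rw [Nat.card_eq_fintype_card, hs]
  have hQ2 : 2 ≤ p ^ (s : ℕ) := by
    have : p ^ 1 ≤ p ^ (s : ℕ) := Nat.pow_le_pow_right hp.out.pos hs0
    rw [pow_one] at this
    omega
  rw [hcF] at hN
  by_cases hn : Fintype.card ι < q ^ 3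
  swap
  · push Not at hn
    have h3 : 2 ^ 3 ≤ q ^ 3 := Nat.pow_le_pow_left hq2 3
    refine ⟨by omega, fun hN3 => ?_⟩
    have h4 : 2 ^ N ≤ q ^ 2 := by
      rw [← hN]
      exact Nat.pow_le_pow_left hQ2 N
    have h5 : 2 ^ 3 ≤ 2 ^ N := Nat.pow_le_pow_right (by norm_num) hN3
    have h6 : 3 ≤ q := by
      by_contra hcon
      have h7 : q ^ 2 ≤ 2 ^ 2 := Nat.pow_le_pow_left (by omega) 2
      omega
    have h7 : 3 * q ^ 2 ≤ q ^ 3 := by
      rw [pow_succ q 2, mul_comm]
      exact Nat.mul_le_mul_left _ h6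
    by_cases hN4 : 4 ≤ N
    · have := pow_bound hN4
      omega
    · obtain rfl : N = 3 := by omega
      omega
  have hchar : CharP (AlgebraicClosure F) p := charP_of_injective_algebraMap (algebraMap F _).injective p
  obtain ⟨j⟩ := exists_embed E (AlgebraicClosure F) p
  obtain ⟨e₀, he, he0⟩ : ∃ e : Fin 3 → E, hermForm 3 E q e e = 0 ∧ e ≠ 0 := by
    obtain ⟨t, ht⟩ := _root_.Cfsg.Agent.LieClassical.HermBasic.exists_norm_eq hE (c := (-1 : E)) (by rw [neg_pow_q hE, one_pow])
    refine ⟨![1, t, 0], ?_, fun h0 => by simpa using congrFun h0 0⟩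
    rw [herm_def, Fin.sum_univ_three]
    simp [zero_pow_q hE, ht]
  obtain ⟨a, ha1, ha2, ψ, v, hψ, hv0, hv, hc⟩ := exists_model (j := j) hE he he0 hM p hn h2
  obtain ⟨Φ, V, hK⟩ := exists_ker hE he he0 hM hψ hv0 hv hc
  -- the exponent is fixed by the Frobenius map of `F`
  obtain ⟨σ, hσ⟩ := exists_frob F p s
  have hfix : ∀ g, (acRep ρ g).map σ = acRep ρ g := by
    intro g
    ext x y
    rw [acRep_apply, Matrix.map_apply, Matrix.map_apply, hσ, ← map_pow, ← hs, FiniteField.pow_card]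
  have hfa := exp_fixed hE he he0 hM p hn (by omega) hψ hv0 hv hc σ (pow_ne_zero _ hp.out.ne_zero) hσ hfix
  set Q := p ^ (s : ℕ) with hQ
  have hdvd : q ^ 2 - 1 ∣ a * (Q - 1) := by
    obtain ⟨t, ht⟩ := IsCyclic.exists_generator (α := Eˣ)
    have h1 : orderOf t = q ^ 2 - 1 := by
      rw [orderOf_eq_card_of_forall_mem_zpowers ht, Nat.card_eq_fintype_card, Fintype.card_units, hE]
    rw [← h1]
    apply orderOf_dvd_of_pow_eq_one
    apply Units.ext
    rw [Units.val_pow_eq_pow_val, Units.val_one]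
    have h3 := hfa (t : E)
    have h5 : a * Q = a * (Q - 1) + a := by
      rw [Nat.mul_sub, mul_one, Nat.sub_add_cancel (Nat.le_mul_of_pos_right _ (by omega))]
    rw [h5, pow_add] at h3
    exact mul_right_cancel₀ (pow_ne_zero a t.ne_zero) (h3.trans (one_mul _).symm)
  set R := ∑ i ∈ Finset.range N, Q ^ i with hR
  have hgeom : R * (Q - 1) = q ^ 2 - 1 := by
    rw [← hN, hR]
    exact geom_sum_mul_of_one_le (by omega) N
  have hRa : R ∣ a := by
    rw [← hgeom] at hdvd
    exact Nat.dvd_of_mul_dvd_mul_right (by omega) hdvd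
  obtain ⟨c, hca⟩ := hRa
  have hR1 : 1 ≤ R := by
    rcases Nat.eq_zero_or_pos R with h0 | h0
    · rw [h0, zero_mul] at hca
      omega
    · exact h0
  have hc1 : 1 ≤ c := by
    rcases Nat.eq_zero_or_pos c with h0 | h0
    · rw [h0, mul_zero] at hca
      omega
    · exact h0
  have hcQ : c < Q := by
    rw [hca, ← hgeom] at ha2
    have := Nat.le_of_mul_le_mul_left ha2 hR1
    omega
  have hNs : N * s = f + f := by
    have h3 : p ^ (s * N : ℕ) = p ^ (f * 2) := by rw [pow_mul, pow_mul, ← hq, ← hN]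
    have h4 := Nat.pow_right_injective hp2 h3
    rw [mul_comm N]
    omega
  have hrep : a = rep Q c N := by rw [hca, rep, mul_comm]
  rw [hrep] at hK
  exact ker_bound (p := p) hE hq hNs hc1 hcQ hK hN2

variable {P : Subgroup (GL ι F)}

include p hp hFp hEp in
/-- **cores of type `PSU(3, q)`** -/
theorem core_bound {q : ℕ} (hC : Core P) (hq3 : 3 ≤ q) (hE : Fintype.card E = q ^ 2) (e : Soc P ≃* PSU 3 E q) :
    ∃ N, 1 ≤ N ∧ Nat.card F ^ N = q ^ 2 ∧ (3 ≤ N → 6 * N ≤ Fintype.card ι) := by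
  classical
  have hne := hC.nonempty
  have hp2 := hp.out.two_le
  have : Fintype F := Fintype.ofFinite F
  obtain ⟨f, hq⟩ := exists_exp (p := p) hE
  have hcj := core_psu_cj p hC le_rfl hE (by omega) e
  obtain ⟨φ₀, h1, -, -⟩ := psu_cover p hC.perfect le_rfl hE (by omega) e
  have hM := span_acRep h1 (H920.span_eq_top hC.absIrred)
  obtain ⟨m, -, hm⟩ := FiniteField.card F p
  have h2f : H915.LD.Fr P (p ^ (2 * f)) := by
    rw [two_mul, pow_add, ← hq]
    exact hcj.fr
  obtain ⟨N, hN⟩ : (m : ℕ) ∣ 2 * f := dvd_of_pow_eq hp2 hm (hC.pow_eq p h2f)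
  have hN' : Nat.card F ^ N = q ^ 2 := by
    rw [Nat.card_eq_fintype_card, hm, hq, ← pow_mul, ← pow_mul, ← hN, mul_comm]
  refine ⟨N, ?_, hN', fun hN3 => (su3_bound p hE φ₀ hM hC.two_le hN' (by omega)).2 hN3⟩
  by_contra hcon
  obtain rfl : N = 0 := by omega
  rw [pow_zero] at hN'
  nlinarith only [hq3, hN']

end

/-- the primes dividing the order of `PSU(3, q)` -/
theorem dvd_of_card {K : Type} [Field K] [Fintype K] {q r : ℕ} (hK : Fintype.card K = q ^ 2) (hr : r.Prime)
    (hrq : ¬ r ∣ q) (hd : r ∣ Nat.card (PSU 3 K q)) : r ∣ q ^ 6 - 1 := by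
  have hq2 := two_le hK
  have h1 := S0280.result hK 3 (by norm_num)
  simp only [Finset.prod_range_succ, Finset.prod_range_zero, one_mul] at h1
  have h2 : r ∣ q ^ (3 * (3 - 1) / 2) * ((q + 1) * (q ^ 2 - 1) * (q ^ 3 + 1)) := by
    have h3 : r ∣ Nat.gcd 3 (q + 1) * ((q + 1) * Nat.card (PSU 3 K q)) := (hd.mul_left _).mul_left _
    rw [h1] at h3
    simpa only [_root_.Nat.add_one_sub_one, _root_.Nat.reduceMul, _root_.Nat.reduceDiv, _root_.Even.zero, ↓ _root_.reduceIte, _root_.zero_add, _root_.pow_one, _root_.Nat.not_even_one, _root_.Nat.reduceAdd, _root_.even_two] using h3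
  have e1 : q ^ 6 - 1 = (q ^ 3 - 1) * (q ^ 3 + 1) := by
    have hq3 : 1 ≤ q ^ 3 := Nat.one_le_pow _ _ (by omega)
    obtain ⟨s, hs⟩ : ∃ s, q ^ 3 = s + 1 := ⟨q ^ 3 - 1, (Nat.sub_add_cancel hq3).symm⟩
    have h7 : q ^ 6 = q ^ 3 * q ^ 3 := by ring
    have h8 : (s + 1) * (s + 1) = s * (s + 1 + 1) + 1 := by ring
    rw [h7, hs, h8, Nat.add_sub_cancel, Nat.add_sub_cancel]
  have h4 : q ^ 2 - 1 ∣ q ^ 6 - 1 := Nat.pow_sub_one_dvd_pow_sub_one q (by norm_num)
  have h5 : q + 1 ∣ q ^ 2 - 1 := ⟨q - 1, by rw [← Nat.sq_sub_sq q 1, one_pow]⟩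
  have h6 : q ^ 3 + 1 ∣ q ^ 6 - 1 := by rw [e1]; exact dvd_mul_left _ _
  rcases hr.dvd_mul.1 h2 with h | h
  · exact absurd (hr.dvd_of_dvd_pow h) hrq
  rcases hr.dvd_mul.1 h with h | h
  · rcases hr.dvd_mul.1 h with h | h
    · exact h.trans (h5.trans h4)
    · exact h.trans h4
  · exact h.trans h6

/-- **The row `PSU(3, q₀)`, defining characteristic** -/
theorem not_psu3 {n k m : ℕ} {F : Type u} [Field F] [Finite F] {P : Subgroup (GL (Fin n) F)} (h : Row k m P)
    (hg : ∃ r, r.Prime ∧ r ∣ m ∧ r ∣ Nat.card (Soc P)) {p : ℕ} [hp : Fact p.Prime] [hFp : CharP F p] {K : Type}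
    [Field K] [Fintype K] [hKp : CharP K p] {q₀ : ℕ} (hK : Fintype.card K = q₀ ^ 2) (h2 : q₀ ≠ 2)
    (e : Soc P ≃* PSU 3 K q₀) : False := by
  have hq2 := two_le hK
  obtain ⟨N, hN1, hN, hb⟩ := core_bound p h.core (by omega) hK e
  rw [Fintype.card_fin] at hb
  obtain ⟨r, hr, hrm, hrc⟩ := hg
  have hten := h.num.ten
  have hlt := h.num.nlt
  have hrq : ¬ r ∣ q₀ := by
    intro hd
    have h1 : r ∣ Nat.card F ^ N := by
      rw [hN]
      exact dvd_pow hd (by norm_num)
    exact h.num.not_dvd_q hr hrm (hr.dvd_of_dvd_pow h1)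
  rw [Nat.card_congr e.toEquiv] at hrc
  have h1 := dvd_of_card hK hr hrq hrc
  have hk : k ∣ 3 * N := by
    rw [← h.num.pow_eq_one_iff hr hrm]
    have : Fact r.Prime := ⟨hr⟩
    have h2 : Nat.card F ^ (3 * N) = q₀ ^ 6 := by
      rw [mul_comm, pow_mul, hN]
      ring
    have h3 : 1 ≤ q₀ ^ 6 := Nat.one_le_pow _ _ (by omega)
    rw [← Nat.cast_pow, h2, ← sub_eq_zero, ← Nat.cast_one, ← Nat.cast_sub h3, ZMod.natCast_eq_zero_iff]
    exact h1
  have hk6 := h.num.six_le
  have hk3 := Nat.le_of_dvd (by omega) hk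
  by_cases hN3 : 3 ≤ N
  · have := hb hN3
    omega
  · obtain rfl : N = 2 := by omega
    rcases core_psu3 p h.core (by omega) hK e (by rw [Fintype.card_fin]; omega) with hsd | hc
    · rcases core_psu3_sd p h.core (by omega) hK e (by rw [Fintype.card_fin]; omega) hsd with h2 | h2
      · rw [Fintype.card_fin] at h2
        omega
      · rw [Fintype.card_fin] at h2
        omega
    · have h3 : 1 < q₀ ^ 2 := Nat.one_lt_pow (by norm_num) (by omega)
      rw [hc.1, pow_two (q₀ ^ 2)] at hN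
      nlinarith only [hN, h3]

end Cfsg.Agent.H2.Rb.C525
end

-- part: H2/Rb/LastU
section
/-!
# The last node of `SU(2 m + 1, q)` in the defining characteristic (from helper69's file for S5948, adapted by helper2)

`φ : SU N K q → GL(ι, F)` with absolutely irreducible image, `|F| ^ j = q ^ 2`, `j ≥ 2`, `i` the last node, `i ∉ J`:

* `exists_su3` : `SU 3 K q ≃ Lv X i`;
* **`last_bound`** : `6 ≤ dim Le {i}`, and `6 j ≤ dim Le {i}` if `j ≥ 3`.
-/

set_option autoImplicit false
set_option linter.unusedSectionVars false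

namespace Cfsg.Agent.H2.Rb.C69

open Cfsg.Agent.H2.Rb.C525
open Cfsg.Agent.H69.Ppd

open CoxeterSystem Cfsg.Agent.ChevalleyStructure.CoxeterGeom Cfsg.Agent.Tits.Roots Cfsg.Agent.Nodes.TypeC
open Cfsg.Agent.Nodes.Comb Cfsg.Agent.Nodes.Reps Cfsg.Agent.Nodes.WittRoot Cfsg.Agent.Nodes.BNOf
open Cfsg.Agent.Nodes.WittRGD Cfsg.Agent.Nodes.RGDLib Cfsg.Agent.Nodes.WittAll Cfsg.Agent.Nodes
open Cfsg.Agent.TitsThree Cfsg.Agent.TitsThree.Siegel Cfsg.Agent.TitsThree.WittFrame
  Cfsg.Agent.TitsThree.WittWeyl Cfsg.Agent.TitsThree.FrameCN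
open Cfsg.Agent.LieClassical.HermBasic Cfsg.Agent.LieClassical.HermSiegel Cfsg.Agent.LieClassical.HermGen
open Cfsg.Agent.TitsThree.KSideU Cfsg.Agent.TitsThree.KSideUDesc Cfsg.Agent.Nodes.WittU
  Cfsg.Agent.TitsThree.WBridge Cfsg.Agent.TitsThree.SiegelGen Cfsg.Agent.H61.SUCross
open Cfsg.Agent.Nodes.Bruhat Cfsg.Agent.Nodes.OppDec Cfsg.Agent.Nodes.LeviDec Cfsg.Agent.KFacts.RgdOpp
  Cfsg.Agent.Omega.CR Cfsg.Agent.Omega.FOne.Lift.Sd Cfsg.Agent.H911 Cfsg.Agent.H905.Md Cfsg.Agent.H156.Ppd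
open Cfsg Cfsg.Geo Cfsg.Agent.H67 Cfsg.Agent.KFacts.MulOdd.Inst
open scoped MatrixGroups Matrix

variable {K : Type} [Field K] [Fintype K] {q N m : ℕ} {hK : Fintype.card K = q ^ 2} (hN : 3 ≤ N)
  (W : WFrame (PU hK N) m) {i : Fin m}

/-- the last node -/
theorem exists_su3 (hi : ¬ (i : ℕ) + 1 < m) {d : Fin N → K} (hd : hermForm N K q d d = 1)
    (hV0 : W.V0 = Submodule.span K {d}) :
    Nonempty (SU 3 K q ≃* Lv (WittModel.X (modelSU hK hN W)) i) := by
  obtain ⟨W', d', hd', hV0'⟩ := exists_wframe_odd (N := 3) hK (m := 1) rfl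
  obtain ⟨e, -⟩ := H61.LastOdd.exists_equiv (i := i) hV0 hd hV0' hd'
  exact ⟨(e.symm.trans (MulEquiv.subgroupCongr (H61.SUNode.Nv_eq_ZG hi).symm)).trans (nodeEquiv hN W i).symm⟩

variable {Wg : Type*} [Group Wg] {cs : CoxeterSystem (CoxeterMatrix.B m) Wg} {F : Type*} [Field F] [Finite F]
  {ι : Type} [Fintype ι] [DecidableEq ι] [Nonempty ι] {P : Subgroup (GL ι F)} {φ : SU N K q →* GL ι F}

/-- **The edges of the last node.** -/
theorem last_bound {p : ℕ} [hp : Fact p.Prime] [CharP F p] [CharP K p] (hW : Kind W)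
    (hφ : φ.range = P) (hP : ActsAbsolutelyIrreducibly (matrixSet P))
    (hi : ¬ (i : ℕ) + 1 < m) {d : Fin N → K} (hd : hermForm N K q d d = 1)
    (hV0 : W.V0 = Submodule.span K {d})
    (hJ : i ∉ Jx cs (isCartan m) (WittModel.X (modelSU hK hN W)) (lrep φ)) {j : ℕ}
    (hj : Nat.card F ^ j = q ^ 2) (hj2 : 2 ≤ j) :
    6 ≤ Module.finrank F (Le cs (isCartan m) (WittModel.T (modelSU hK hN W)) (WittModel.X (modelSU hK hN W))
      (lrep φ) {i}) ∧
    (3 ≤ j → 6 * j ≤ Module.finrank F (Le cs (isCartan m) (WittModel.T (modelSU hK hN W))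
      (WittModel.X (modelSU hK hN W)) (lrep φ) {i})) := by
  have : Finite Wg := finite_W cs
  have hm0 : 0 < m := lt_of_le_of_lt (Nat.zero_le _) i.2
  obtain ⟨p0, hp0, -⟩ := exists_adm hK W
  have hA : AmbT (toFrame W) p (modelSU hK hN W).I := AmbT.of_amb (amb_U hK W) p
  have R := rgdC_model (modelSU hK hN W) hA hp0 cs
  have hG : GG cs (isCartan m) (WittModel.T (modelSU hK hN W)) (WittModel.X (modelSU hK hN W)) = ⊤ :=
    gg_top (WittModel.G1_eq_top _ hm0 _)
  have hT : ∀ s ∈ WittModel.T (modelSU hK hN W), ∀ t ∈ WittModel.T (modelSU hK hN W), s * t = t * s :=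
    modelT_comm hA (kd_su hW)
  obtain ⟨w, hw0, hw1, -, -⟩ := exists_w R hG hT hφ hP
  have hirr := lrep_irr (T := WittModel.T (modelSU hK hN W)) (X := WittModel.X (modelSU hK hN W))
    (h := isCartan m) (cs := cs) hG hφ hP
  obtain ⟨ψ, hψ⟩ := exists_levi R hirr hw0 hw1 i
  obtain ⟨e⟩ := exists_su3 hN W hi hd hV0
  have hr : (ψ.comp e.toMonoidHom).range = ψ.range := by
    ext y
    constructor
    · rintro ⟨x, rfl⟩
      exact ⟨_, rfl⟩
    · rintro ⟨x, rfl⟩
      refine ⟨e.symm x, ?_⟩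
      change ψ (e (e.symm x)) = ψ x
      rw [MulEquiv.apply_symm_apply]
  have hM := Cfsg.Agent.H929.U3.span_acRep hr (H920.span_eq_top hψ)
  have hD1 : Module.finrank F (D cs (isCartan m) (WittModel.X (modelSU hK hN W)) (lrep φ)) = 1 := by
    rw [hw1]
    exact finrank_span_singleton hw0
  have h2 := two_le_edge R hirr hJ
  rw [hD1, mul_one] at h2
  have h3 := Cfsg.Agent.H2.Rb.C525.su3_bound p hK (ψ.comp e.toMonoidHom) hM (by rw [Fintype.card_fin]; exact h2) hj hj2
  rw [Fintype.card_fin] at h3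
  exact h3

end Cfsg.Agent.H2.Rb.C69
end

-- part: H2/Rb/Psu5
section
/-!
# S3691 (S), small primes: `PSU(5, q₀)` in the defining characteristic (from helper69's file for S5948, adapted by helper2)

* `su5_bound` : `φ : SU 5 K q → GL(ι, F)` with absolutely irreducible image, `|F| ^ j = q ^ 2`, `j ≥ 2`, `|ι| ≥ 2`:
  `10 j ≤ |ι|`;
* `core_five` : the same for a core of type `PSU(5, q₀)`;
* **`not_psu5`** : the row.
-/

set_option autoImplicit false
set_option linter.unusedSectionVars false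

namespace Cfsg.Agent.H2.Rb.C69

open Cfsg.Agent.H2.Rb.C525
open Cfsg.Agent.H69.Ppd

open CoxeterSystem Cfsg.Agent.ChevalleyStructure.CoxeterGeom Cfsg.Agent.Tits.Roots Cfsg.Agent.Nodes.TypeC
open Cfsg.Agent.Nodes.Comb Cfsg.Agent.Nodes.Reps Cfsg.Agent.Nodes.WittRoot Cfsg.Agent.Nodes.BNOf
open Cfsg.Agent.Nodes.WittRGD Cfsg.Agent.Nodes.RGDLib Cfsg.Agent.Nodes.WittAll Cfsg.Agent.Nodes
open Cfsg.Agent.TitsThree Cfsg.Agent.TitsThree.Siegel Cfsg.Agent.TitsThree.WittFrame
  Cfsg.Agent.TitsThree.WittWeyl Cfsg.Agent.TitsThree.FrameCN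
open Cfsg.Agent.LieClassical.HermBasic Cfsg.Agent.LieClassical.HermSiegel Cfsg.Agent.LieClassical.HermGen
open Cfsg.Agent.TitsThree.KSideU Cfsg.Agent.TitsThree.KSideUDesc Cfsg.Agent.Nodes.WittU
  Cfsg.Agent.TitsThree.WBridge Cfsg.Agent.TitsThree.SiegelGen Cfsg.Agent.H61.SUCross
open Cfsg.Agent.Nodes.Bruhat Cfsg.Agent.Nodes.OppDec Cfsg.Agent.Nodes.LeviDec Cfsg.Agent.KFacts.RgdOpp
  Cfsg.Agent.Omega.CR Cfsg.Agent.Omega.FOne.Lift.Sd Cfsg.Agent.H911 Cfsg.Agent.H905.Md Cfsg.Agent.H156.Ppd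
open Cfsg Cfsg.Geo Cfsg.Agent.H67 Cfsg.Agent.KFacts.MulOdd.Inst
open Cfsg.Agent.H915.LD Cfsg.Agent.H2.Rb.C100 Cfsg.Agent.H906 Cfsg.Agent.H929.U3
open scoped MatrixGroups Matrix

universe u

section

variable {K : Type} [Field K] [Fintype K] {q N : ℕ}

/-- the frame of the kernel -/
theorem isFr_of {hK : Fintype.card K = q ^ 2} (W : WFrame (PU hK N) 2) {d : Fin N → K}
    (hd : hermForm N K q d d = 1) (hV0 : W.V0 = Submodule.span K {d}) :
    IsFr q (fun x : Fin 2 × Bool => (toFrame W).b x) d where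
  bb x y := by
    have h1 := (toFrame W).hb x y
    change hermForm N K q _ _ = _ at h1
    rw [h1, HU_ε]
    obtain ⟨i, x⟩ := x
    obtain ⟨j, y⟩ := y
    cases x <;> cases y <;> simp [op, eq_comm]
  bd x := (toFrame W).h0 x d (by
    rw [toFrame_V0, hV0]
    exact Submodule.mem_span_singleton_self d)
  db x := (toFrame W).h0' x (by
    rw [toFrame_V0, hV0]
    exact Submodule.mem_span_singleton_self d)
  dd := hd

variable {F : Type u} [Field F] [Finite F] {ι : Type} [Fintype ι] [DecidableEq ι] {P : Subgroup (GL ι F)}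
  {φ : SU 5 K q →* GL ι F}

/-- **Absolutely irreducible representations of `SU(5, q)`, `|F| ^ j = q ^ 2`, `j ≥ 2`.** -/
theorem su5_bound {p : ℕ} [hp : Fact p.Prime] [CharP F p] [CharP K p] (hK : Fintype.card K = q ^ 2)
    (hφ : φ.range = P) (hP : ActsAbsolutelyIrreducibly (matrixSet P)) (h2 : 2 ≤ Fintype.card ι) {j : ℕ}
    (hj : Nat.card F ^ j = q ^ 2) (hj2 : 2 ≤ j) : 10 * j ≤ Fintype.card ι := by
  classical
  have hne : Nonempty ι := Fintype.card_pos_iff.1 (by omega)
  obtain ⟨W, d, hd, hV0⟩ := exists_wframe_odd (N := 5) hK (m := 2) rfl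
  have hW : Kind W := Or.inr ⟨d, hd, hV0⟩
  have : Finite (CoxeterMatrix.B 2).Group := finite_W (CoxeterMatrix.B 2).toCoxeterSystem
  obtain ⟨p0, hp0, -⟩ := exists_adm hK W
  have h5 : 3 ≤ 5 := by norm_num
  have hA : AmbT (toFrame W) p (modelSU hK h5 W).I := AmbT.of_amb (amb_U hK W) p
  have R := rgdC_model (modelSU hK h5 W) hA hp0 (CoxeterMatrix.B 2).toCoxeterSystem
  have hG : GG (CoxeterMatrix.B 2).toCoxeterSystem (isCartan 2) (WittModel.T (modelSU hK h5 W))
      (WittModel.X (modelSU hK h5 W)) = ⊤ := gg_top (WittModel.G1_eq_top _ (by norm_num) _)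
  have hT : ∀ s ∈ WittModel.T (modelSU hK h5 W), ∀ t ∈ WittModel.T (modelSU hK h5 W), s * t = t * s :=
    modelT_comm hA (kd_su hW)
  obtain ⟨w, hw0, hw1, -, -⟩ := exists_w R hG hT hφ hP
  have hirr := lrep_irr (T := WittModel.T (modelSU hK h5 W)) (X := WittModel.X (modelSU hK h5 W))
    (h := isCartan 2) (cs := (CoxeterMatrix.B 2).toCoxeterSystem) hG hφ hP
  have hD1 : Module.finrank F (D (CoxeterMatrix.B 2).toCoxeterSystem (isCartan 2)
      (WittModel.X (modelSU hK h5 W)) (lrep φ)) = 1 := by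
    rw [hw1]
    exact finrank_span_singleton hw0
  have hn : Module.finrank F (ι → F) = Fintype.card ι := Module.finrank_fintype_fun_eq_card F
  by_cases h1 : (1 : Fin 2) ∈ Jx (CoxeterMatrix.B 2).toCoxeterSystem (isCartan 2)
    (WittModel.X (modelSU hK h5 W)) (lrep φ)
  · -- the type of the natural module
    have h0 : (0 : Fin 2) ∉ Jx (CoxeterMatrix.B 2).toCoxeterSystem (isCartan 2)
        (WittModel.X (modelSU hK h5 W)) (lrep φ) := by
      intro h0
      have h3 := D_eq_top R hirr (fun i => by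
        fin_cases i
        · exact h0
        · exact h1)
      rw [h3, finrank_top, hn] at hD1
      omega
    have hJ : Jx (CoxeterMatrix.B 2).toCoxeterSystem (isCartan 2) (WittModel.X (modelSU hK h5 W)) (lrep φ) =
        {i | i ≠ 0} := by
      ext i
      fin_cases i
      · exact ⟨fun h => absurd h h0, fun h => absurd rfl h⟩
      · exact ⟨fun _ => by simp, fun _ => h1⟩
    obtain ⟨σ⟩ := Cfsg.Agent.H929.U3.exists_embed K (AlgebraicClosure F) p
    obtain ⟨c', hc1, hc2, hc3⟩ := first_bound h5 W (p := p) (by norm_num) rfl hW hφ hP hJ (by rw [hj, hK]) σ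
    have : Fintype F := Fintype.ofFinite F
    obtain ⟨s, -, hs⟩ := FiniteField.card F p
    have hcF : Nat.card F = p ^ (s : ℕ) := by rw [Nat.card_eq_fintype_card, hs]
    have hchar : CharP (AlgebraicClosure F) p := charP_of_injective_algebraMap (algebraMap F _).injective p
    rw [hcF] at hj hc2 hc3
    exact (ker_five hK (isFr_of W hd hV0) σ s.pos (by rw [hj, hK]) hc1 hc2 hj2).trans hc3
  · have h3 := le_b2 R hirr h1 hD1
    obtain ⟨h4, h6⟩ := last_bound h5 W (i := 1) hW hφ hP (by norm_num) hd hV0 h1 hj hj2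
    rw [hn] at h3
    by_cases hj3 : 3 ≤ j
    · have := h6 hj3
      omega
    · omega

/-- **cores of type `PSU(5, q)`** -/
theorem core_five (p : ℕ) [hp : Fact p.Prime] [CharP F p] [CharP K p] (hC : Core P)
    (hK : Fintype.card K = q ^ 2) (e : Soc P ≃* PSU 5 K q) :
    ∃ j, 1 ≤ j ∧ Nat.card F ^ j = q ^ 2 ∧ (2 ≤ j → 10 * j ≤ Fintype.card ι) := by
  classical
  have hne := hC.nonempty
  have hp2 := hp.out.two_le
  have hq2 := two_le hK
  have : Fintype F := Fintype.ofFinite F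
  obtain ⟨f, hq⟩ := Cfsg.Agent.H2.Rb.C525.exists_exp (p := p) hK
  have hcj := Cfsg.Agent.H929.U3.core_psu_cj p hC (by norm_num) hK (by omega) e
  obtain ⟨φ₀, h1, -, -⟩ := psu_cover p hC.perfect (by norm_num) hK (by omega) e
  obtain ⟨m, -, hm⟩ := FiniteField.card F p
  have h2f : H915.LD.Fr P (p ^ (2 * f)) := by
    rw [two_mul, pow_add, ← hq]
    exact hcj.fr
  obtain ⟨N, hN⟩ : (m : ℕ) ∣ 2 * f := dvd_of_pow_eq hp2 hm (hC.pow_eq p h2f)
  have hN' : Nat.card F ^ N = q ^ 2 := by
    rw [Nat.card_eq_fintype_card, hm, hq, ← pow_mul, ← pow_mul, ← hN, mul_comm]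
  refine ⟨N, ?_, hN', fun hN2 => su5_bound hK h1 hC.absIrred hC.two_le hN' hN2⟩
  by_contra hcon
  obtain rfl : N = 0 := by omega
  rw [pow_zero] at hN'
  nlinarith only [hq2, hN']

end

/-- the primes dividing the order of `PSU(5, q)` -/
theorem dvd_of_card {K : Type} [Field K] [Fintype K] {q r : ℕ} (hK : Fintype.card K = q ^ 2) (hr : r.Prime)
    (hrq : ¬ r ∣ q) (hd : r ∣ Nat.card (PSU 5 K q)) :
    ∃ e, 1 ≤ e ∧ e ≤ 5 ∧ r ∣ (q ^ 2) ^ e - 1 := by
  have hq2 := two_le hK
  have h1 := S0280.result hK 5 (by norm_num)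
  simp only [Finset.prod_range_succ, Finset.prod_range_zero, one_mul] at h1
  have h2 : r ∣ q ^ (5 * (5 - 1) / 2) * ((q + 1) * (q ^ 2 - 1) * (q ^ 3 + 1) * (q ^ 4 - 1) * (q ^ 5 + 1)) := by
    have h3 : r ∣ Nat.gcd 5 (q + 1) * ((q + 1) * Nat.card (PSU 5 K q)) := (hd.mul_left _).mul_left _
    rw [h1] at h3
    have h4 : Even 4 := by decide
    have h6 : ¬ Even 3 := by decide
    simpa only [h4, h6, _root_.Nat.add_one_sub_one, _root_.Nat.reduceMul, _root_.Nat.reduceDiv, _root_.Even.zero, ↓ _root_.reduceIte, _root_.zero_add, _root_.pow_one, _root_.Nat.not_even_one, _root_.Nat.reduceAdd, _root_.even_two] using h3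
  -- `q ^ a + 1 ∣ (q ^ 2) ^ a - 1`
  have key : ∀ a, q ^ a + 1 ∣ (q ^ 2) ^ a - 1 := by
    intro a
    have h3 : 1 ≤ q ^ a := Nat.one_le_pow _ _ (by omega)
    obtain ⟨s, hs⟩ : ∃ s, q ^ a = s + 1 := ⟨q ^ a - 1, (Nat.sub_add_cancel h3).symm⟩
    have h4 : (q ^ 2) ^ a = q ^ a * q ^ a := by rw [← pow_mul, mul_comm 2 a, pow_mul, sq]
    have h8 : (s + 1) * (s + 1) = (s + 1 + 1) * s + 1 := by ring
    rw [h4, hs, h8, Nat.add_sub_cancel]
    exact dvd_mul_right _ _
  rcases hr.dvd_mul.1 h2 with h | h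
  · exact absurd (hr.dvd_of_dvd_pow h) hrq
  rcases hr.dvd_mul.1 h with h | h
  · rcases hr.dvd_mul.1 h with h | h
    · rcases hr.dvd_mul.1 h with h | h
      · rcases hr.dvd_mul.1 h with h | h
        · have := key 1
          rw [pow_one, pow_one] at this
          exact ⟨1, le_rfl, by norm_num, by rw [pow_one]; exact h.trans this⟩
        · exact ⟨1, le_rfl, by norm_num, by rw [pow_one]; exact h⟩
      · exact ⟨3, by norm_num, by norm_num, h.trans (key 3)⟩
    · refine ⟨2, by norm_num, by norm_num, ?_⟩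
      rw [← pow_mul]
      exact h
  · exact ⟨5, by norm_num, le_rfl, h.trans (key 5)⟩

/-- **The row `PSU(5, q₀)`, defining characteristic** -/
theorem not_psu5 {n k m : ℕ} {F : Type u} [Field F] [Finite F] {P : Subgroup (GL (Fin n) F)} (h : Row k m P)
    (hg : ∃ r, r.Prime ∧ r ∣ m ∧ r ∣ Nat.card (Soc P)) {p : ℕ} [hp : Fact p.Prime] [hFp : CharP F p] {K : Type}
    [Field K] [Fintype K] [hKp : CharP K p] {q₀ : ℕ} (hK : Fintype.card K = q₀ ^ 2)
    (e : Soc P ≃* PSU 5 K q₀) : False := by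
  have hq2 := two_le hK
  obtain ⟨N, hN1, hN, hb⟩ := core_five p h.core hK e
  rw [Fintype.card_fin] at hb
  obtain ⟨r, hr, hrm, hrc⟩ := hg
  have hten := h.num.ten
  have hlt := h.num.nlt
  have hrq : ¬ r ∣ q₀ := by
    intro hd
    have h1 : r ∣ Nat.card F ^ N := by
      rw [hN]
      exact dvd_pow hd (by norm_num)
    exact h.num.not_dvd_q hr hrm (hr.dvd_of_dvd_pow h1)
  rw [Nat.card_congr e.toEquiv] at hrc
  obtain ⟨a, ha1, ha5, h1⟩ := dvd_of_card hK hr hrq hrc
  have hk : k ∣ N * a := by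
    rw [← h.num.pow_eq_one_iff hr hrm]
    have : Fact r.Prime := ⟨hr⟩
    have h2 : Nat.card F ^ (N * a) = (q₀ ^ 2) ^ a := by rw [pow_mul, hN]
    have h3 : 1 ≤ (q₀ ^ 2) ^ a := Nat.one_le_pow _ _ (by positivity)
    rw [← Nat.cast_pow, h2, ← sub_eq_zero, ← Nat.cast_one, ← Nat.cast_sub h3, ZMod.natCast_eq_zero_iff]
    exact h1
  have hk3 := Nat.le_of_dvd (by positivity) hk
  have hk5 : N * a ≤ N * 5 := Nat.mul_le_mul_left N ha5
  by_cases hN2 : 2 ≤ N
  · have := hb hN2
    omega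
  · omega

end Cfsg.Agent.H2.Rb.C69
end

-- part: H2/Rb/Psu6Aux
section
/-!
# S3691 (S), small primes: two pieces for `PSU(N, q₀)` (from helper69's file for S5948, adapted by helper2)

* **`le_psu`** : a row with `Soc P ≃ PSU(N, q₀)`, `|F| ^ j = q₀ ^ 2`, a Zsigmondy prime of `m` dividing `|Soc P|`:
  `k ≤ j (2 ((N - 1) / 2) + 1)`;
* **`seven_last`** : `SU(7, q₀)`, `|F| = q₀`, the last node outside `J`: `56 ≤ |ι|`.
-/

set_option autoImplicit false
set_option linter.unusedSectionVars false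

namespace Cfsg.Agent.H2.Rb.C69

open Cfsg.Agent.H2.Rb.C525
open Cfsg.Agent.H69.Ppd

open CoxeterSystem Cfsg.Agent.ChevalleyStructure.CoxeterGeom Cfsg.Agent.Tits.Roots Cfsg.Agent.Nodes.TypeC
open Cfsg.Agent.Nodes.Comb Cfsg.Agent.Nodes.Reps Cfsg.Agent.Nodes.WittRoot Cfsg.Agent.Nodes.BNOf
open Cfsg.Agent.Nodes.WittRGD Cfsg.Agent.Nodes.RGDLib Cfsg.Agent.Nodes.WittAll Cfsg.Agent.Nodes
open Cfsg.Agent.TitsThree Cfsg.Agent.TitsThree.Siegel Cfsg.Agent.TitsThree.WittFrame
  Cfsg.Agent.TitsThree.WittWeyl Cfsg.Agent.TitsThree.FrameCN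
open Cfsg.Agent.LieClassical.HermBasic Cfsg.Agent.LieClassical.HermSiegel Cfsg.Agent.LieClassical.HermGen
open Cfsg.Agent.TitsThree.KSideU Cfsg.Agent.TitsThree.KSideUDesc Cfsg.Agent.Nodes.WittU
  Cfsg.Agent.TitsThree.WBridge Cfsg.Agent.TitsThree.SiegelGen Cfsg.Agent.H61.SUCross
open Cfsg.Agent.Nodes.Bruhat Cfsg.Agent.Nodes.OppDec Cfsg.Agent.Nodes.LeviDec Cfsg.Agent.KFacts.RgdOpp
  Cfsg.Agent.Omega.CR Cfsg.Agent.Omega.FOne.Lift.Sd Cfsg.Agent.H911 Cfsg.Agent.H905.Md Cfsg.Agent.H156.Ppd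
open Cfsg Cfsg.Geo Cfsg.Agent.H67 Cfsg.Agent.KFacts.MulOdd.Inst
open Cfsg.Agent.H915.LD Cfsg.Agent.H2.Rb.C100 Cfsg.Agent.H906 Cfsg.Agent.H929.U3
open scoped MatrixGroups Matrix

universe u

/-- the primes dividing the order of `PSU(N, q)` -/
theorem dvd_of_card_psu {K : Type} [Field K] [Fintype K] {N q r : ℕ} (hN : 2 ≤ N)
    (hK : Fintype.card K = q ^ 2) (hr : r.Prime) (hrq : ¬ r ∣ q) (hd : r ∣ Nat.card (PSU N K q)) :
    ∃ e, 1 ≤ e ∧ e ≤ 2 * ((N - 1) / 2) + 1 ∧ r ∣ (q ^ 2) ^ e - 1 := by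
  classical
  have hq2 := two_le hK
  have h1 := S0280.result hK N hN
  have h2 : r ∣ q ^ (N * (N - 1) / 2) *
      ∏ i ∈ Finset.range N, (if Even i then q ^ (i + 1) + 1 else q ^ (i + 1) - 1) := by
    have h3 : r ∣ Nat.gcd N (q + 1) * ((q + 1) * Nat.card (PSU N K q)) := (hd.mul_left _).mul_left _
    rwa [h1] at h3
  have key : ∀ a, q ^ a + 1 ∣ (q ^ 2) ^ a - 1 := by
    intro a
    have h3 : 1 ≤ q ^ a := Nat.one_le_pow _ _ (by omega)
    obtain ⟨s, hs⟩ : ∃ s, q ^ a = s + 1 := ⟨q ^ a - 1, (Nat.sub_add_cancel h3).symm⟩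
    have h4 : (q ^ 2) ^ a = q ^ a * q ^ a := by rw [← pow_mul, mul_comm 2 a, pow_mul, sq]
    have h8 : (s + 1) * (s + 1) = (s + 1 + 1) * s + 1 := by ring
    rw [h4, hs, h8, Nat.add_sub_cancel]
    exact dvd_mul_right _ _
  rcases hr.dvd_mul.1 h2 with h | h
  · exact absurd (hr.dvd_of_dvd_pow h) hrq
  obtain ⟨i, hi, h3⟩ := (Prime.dvd_finset_prod_iff hr.prime _).1 h
  rw [Finset.mem_range] at hi
  by_cases he : Even i
  · rw [if_pos he] at h3
    obtain ⟨t, ht⟩ := he
    exact ⟨i + 1, by omega, by omega, h3.trans (key (i + 1))⟩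
  · rw [if_neg he] at h3
    rw [Nat.not_even_iff_odd] at he
    obtain ⟨t, ht⟩ := he
    refine ⟨t + 1, by omega, by omega, ?_⟩
    rw [← pow_mul]
    have h4 : 2 * (t + 1) = i + 1 := by omega
    rw [h4]
    exact h3

/-- **The degree of a row with socle `PSU(N, q₀)`.** -/
theorem le_psu {n k m : ℕ} {F : Type u} [Field F] [Finite F] {P : Subgroup (GL (Fin n) F)} (h : Row k m P)
    {K : Type} [Field K] [Fintype K] {N q₀ : ℕ} (hK : Fintype.card K = q₀ ^ 2) (hN : 3 ≤ N) {j : ℕ}
    (hj : Nat.card F ^ j = q₀ ^ 2) (hg : ∃ r, r.Prime ∧ r ∣ m ∧ r ∣ Nat.card (Soc P))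
    (e : Soc P ≃* PSU N K q₀) : k ≤ j * (2 * ((N - 1) / 2) + 1) := by
  have hq2 := two_le hK
  obtain ⟨r, hr, hrm, hrc⟩ := hg
  have hrq : ¬ r ∣ q₀ := by
    intro hd
    have h1 : r ∣ Nat.card F ^ j := by
      rw [hj]
      exact dvd_pow hd (by norm_num)
    exact h.num.not_dvd_q hr hrm (hr.dvd_of_dvd_pow h1)
  rw [Nat.card_congr e.toEquiv] at hrc
  obtain ⟨a, ha1, ha5, h1⟩ := dvd_of_card_psu (by omega) hK hr hrq hrc
  have hj1 : 1 ≤ j := by
    by_contra hcon
    obtain rfl : j = 0 := by omega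
    rw [pow_zero] at hj
    nlinarith only [hq2, hj]
  have hk : k ∣ j * a := by
    rw [← h.num.pow_eq_one_iff hr hrm]
    have : Fact r.Prime := ⟨hr⟩
    have h2 : Nat.card F ^ (j * a) = (q₀ ^ 2) ^ a := by rw [pow_mul, hj]
    have h3 : 1 ≤ (q₀ ^ 2) ^ a := Nat.one_le_pow _ _ (by positivity)
    rw [← Nat.cast_pow, h2, ← sub_eq_zero, ← Nat.cast_one, ← Nat.cast_sub h3, ZMod.natCast_eq_zero_iff]
    exact h1
  exact (Nat.le_of_dvd (by positivity) hk).trans (Nat.mul_le_mul_left j ha5)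

section

variable {K : Type} [Field K] [Fintype K] {q : ℕ} {hK : Fintype.card K = q ^ 2} (h7 : 3 ≤ 7)
  (W : WFrame (PU hK 7) 3) {i : Fin 3}
  {Wg : Type*} [Group Wg] {cs : CoxeterSystem (CoxeterMatrix.B 3) Wg} {F : Type*} [Field F] [Finite F]
  {ι : Type} [Fintype ι] [DecidableEq ι] [Nonempty ι] {P : Subgroup (GL ι F)} {φ : SU 7 K q →* GL ι F}

/-- **`SU(7, q)` over `F`, `|F| = q`, the last node outside `J`.** -/
theorem seven_last {p : ℕ} [hp : Fact p.Prime] [CharP F p] [CharP K p] (hW : Kind W)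
    (hφ : φ.range = P) (hP : ActsAbsolutelyIrreducibly (matrixSet P))
    (hi : ¬ (i : ℕ) + 1 < 3) {d : Fin 7 → K} (hd : hermForm 7 K q d d = 1)
    (hV0 : W.V0 = Submodule.span K {d})
    (hJ : i ∉ Jx cs (isCartan 3) (WittModel.X (modelSU hK h7 W)) (lrep φ))
    (hj : Nat.card F ^ 2 = q ^ 2) : 56 ≤ Fintype.card ι := by
  have : Finite Wg := finite_W cs
  obtain ⟨p0, hp0, -⟩ := exists_adm hK W
  have hA : AmbT (toFrame W) p (modelSU hK h7 W).I := AmbT.of_amb (amb_U hK W) p
  have R := rgdC_model (modelSU hK h7 W) hA hp0 cs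
  have hG : GG cs (isCartan 3) (WittModel.T (modelSU hK h7 W)) (WittModel.X (modelSU hK h7 W)) = ⊤ :=
    gg_top (WittModel.G1_eq_top _ (by norm_num) _)
  have hT : ∀ s ∈ WittModel.T (modelSU hK h7 W), ∀ t ∈ WittModel.T (modelSU hK h7 W), s * t = t * s :=
    modelT_comm hA (kd_su hW)
  obtain ⟨w, hw0, hw1, -, -⟩ := exists_w R hG hT hφ hP
  have hirr := lrep_irr (T := WittModel.T (modelSU hK h7 W)) (X := WittModel.X (modelSU hK h7 W))
    (h := isCartan 3) (cs := cs) hG hφ hP
  have hD1 : Module.finrank F (D cs (isCartan 3) (WittModel.X (modelSU hK h7 W)) (lrep φ)) = 1 := by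
    rw [hw1]
    exact finrank_span_singleton hw0
  have h3 := Cfsg.Agent.H948.Ppd.TypeB.dim_ge_last R hirr (i := i) (by have := i.2; omega) hJ
  have h4 := (last_bound h7 W hW hφ hP hi hd hV0 hJ hj le_rfl).1
  have h5 := finrank_Io R hirr i
  rw [Module.finrank_fintype_fun_eq_card, hD1] at h3
  rw [hD1] at h5
  omega

end

end Cfsg.Agent.H2.Rb.C69
end

-- part: H2/Rb/Psu
section
/-!
# S3691 (S), small primes: `PSU_N(q₀)`, `N ≥ 6`, in its own characteristic (from helper762's file for S5948, adapted by helper2)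

**`nat_psu`** : `Row k m P`, `Soc P ≃ PSU_N(q₀)`, `N ≥ 6`, `char K = char F` imply `Nat' P`.
-/

set_option autoImplicit false
set_option linter.unusedSectionVars false

namespace Cfsg.Agent.H2.Rb.C762

open Cfsg.Agent.H2.Rb.C525
open Cfsg.Agent.H2.Rb.C69
open Cfsg.Agent.H762.Ppd

open Cfsg Cfsg.Geo
open Cfsg.Agent.H915.LD
open Cfsg.Agent.H2.Rb.C100 (Row Num Nat')
open scoped MatrixGroups Matrix

universe u

variable {n : ℕ} {F : Type u} [Field F] [Finite F] {k m : ℕ} {P : Subgroup (GL (Fin n) F)}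
  {K : Type} [Field K] [Fintype K] {N q₀ : ℕ} (p : ℕ) [hp : Fact p.Prime] [hFp : CharP F p] [hKp : CharP K p]
include hp hFp hKp

/-- **`PSU_N(q₀)`, `N ≥ 6`, in its own characteristic.** -/
theorem nat_psu (h : Row k m P) (hg : ∃ r, r.Prime ∧ r ∣ m ∧ r ∣ Nat.card (Soc P)) (hN : 6 ≤ N)
    (hK : Fintype.card K = q₀ ^ 2) (e : Soc P ≃* PSU N K q₀) : Nat' P := by
  refine nat_psu_aux p h hN hK e (fun j _ hj => C69.le_psu h hK (by omega) hj hg e) ?_
  intro hN3 W d h7 hd hV0 φ₀ hφ₀ hj hJ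
  subst h7
  have hne := h.core.nonempty
  have h1 := C69.seven_last hN3 W (Or.inr ⟨d, hd, hV0⟩) hφ₀ h.core.absIrred (i := 2) (by decide) hd hV0 hJ hj
  rwa [Fintype.card_fin] at h1

end Cfsg.Agent.H2.Rb.C762
end
end

-- part: H898/Rg/FBlin
section
prune_inst 0x607244688000000018801240001c26d2000500000804002ce20f420d894e60ad020861ba90050210a208c440310000021000000000000000000000011901800000840490080008000006000000000000000000000000000000000000000000000000000
set_option linter.all false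
open scoped Cfsg.Agent.FastGrp

/-!
# S3691, the residual case F-B-: the linear part (helper898)

`dim V = 2 m + 1`, `K ≤ E Q` normalised by the group `Γ` of semisimilitudes; no `1 ≠ k ∈ K` fixes a vector of norm `Q v`; no nonzero
`Γ`-invariant subspace is perpendicular to a vector of norm `Q v` (`Cfg`). Then `K` has odd order, and if `K ≠ 1` then `m` is even and
there is a totally singular subspace `D` of dimension `m` such that `D^⊥` contains no vector of norm `Q v`.
-/

set_option autoImplicit false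

namespace Cfsg.Agent.H898.Rg

open Module QuadraticMap Cfsg.Agent.LieClassical.OrthCore Cfsg.Agent.LieClassical.OrthTrans
  Cfsg.Agent.ClassicalGeometry.OrthSemi Cfsg.Agent.H449.Reg Cfsg.Agent.H883.Sub
open Cfsg.Agent.H890.SpParity (fix mem_fix even_E)
open Cfsg.Agent.H445.AH (exists_value_mem)
open scoped commutatorElement

variable {F V : Type*} [Field F] [AddCommGroup V] [Module F V] {Q : QuadraticForm F V}

/-- the linear part of F-B- -/
structure Cfg (Q : QuadraticForm F V) (m : ℕ) (v : V) (K : Subgroup (V ≃ₗ[F] V)) (Γ : Subgroup (Gam Q)) : Prop where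
  good : Good Q
  h2 : (2 : F) ≠ 0
  dim : finrank F V = 2 * m + 1
  hm : 3 ≤ m
  ne : Q v ≠ 0
  le : K ≤ E Q
  conj : ∀ M ∈ Γ, ∀ k ∈ K, conjLin M k ∈ K
  nocom : ∀ S : Submodule F V, S ≠ ⊥ → (∀ M ∈ Γ, img M S = S) → ∀ w : V, Q w = Q v → ∃ s ∈ S, polar Q s w ≠ 0
  free : ∀ k ∈ K, ∀ w : V, Q w = Q v → k w = w → k = 1

/-- `S` is invariant under `Γ` -/
def Inv (Γ : Subgroup (Gam Q)) (S : Submodule F V) : Prop := ∀ M ∈ Γ, ∀ s ∈ S, M.1 s ∈ S

theorem Inv.img_eq [Finite F] [FiniteDimensional F V] {Γ : Subgroup (Gam Q)} {S : Submodule F V} (h : Inv Γ S) :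
    ∀ M ∈ Γ, img M S = S := by
  intro M hM
  refine Submodule.eq_of_le_of_finrank_eq ?_ (finrank_img M S)
  rintro _ ⟨s, hs, rfl⟩
  exact h M hM s hs

theorem Inv.inf {Γ : Subgroup (Gam Q)} {S U : Submodule F V} (hS : Inv Γ S) (hU : Inv Γ U) : Inv Γ (S ⊓ U) :=
  fun M hM s hs => ⟨hS M hM s hs.1, hU M hM s hs.2⟩

theorem Inv.perp {Γ : Subgroup (Gam Q)} {S : Submodule F V} (hS : Inv Γ S) : Inv Γ (perp Q S) := by
  intro M hM x hx
  rw [mem_perp]
  intro s hs
  have h1 := hS M⁻¹ (Γ.inv_mem hM) s hs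
  have h2 : M.1 (M⁻¹.1 s) = s := apply_inv M.1 s
  obtain ⟨σ, c, h⟩ := M.2
  rw [← h2, h.polar, mem_perp.1 hx _ h1, map_zero, mul_zero]

theorem polar_self' (u : V) : polar Q u u = 2 * Q u := by
  rw [QuadraticMap.polar_self, nsmul_eq_mul, Nat.cast_ofNat]

/-- a small subspace is perpendicular to vectors of all norms -/
theorem exists_value_perp [Finite F] [FiniteDimensional F V] (hQ : Nondeg Q) (U : Submodule F V)
    (hU : 2 * finrank F U + 2 ≤ finrank F V) {c : F} (hc : c ≠ 0) : ∃ y ∈ perp Q U, Q y = c := by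
  refine exists_value_mem ?_ c hc
  have h1 : finrank F ↥(perp Q U ⊓ perp Q (perp Q U)) ≤ finrank F U := by
    rw [perp_perp hQ]
    exact Submodule.finrank_mono inf_le_right
  have hd := finrank_perp hQ U
  omega

/-- the fixed space of a semisimple isometry is nondegenerate -/
theorem fix_inf_perp (hQ : Nondeg Q) {k : V ≃ₗ[F] V} (hk : k ∈ O Q) {n : ℕ} (hkn : k ^ n = 1) (hn : (n : F) ≠ 0) :
    fix k ⊓ perp Q (fix k) = ⊥ := by
  rw [Submodule.eq_bot_iff]
  rintro c ⟨hc, hc'⟩
  apply hQ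
  intro x
  have hki : ∀ i : ℕ, (k ^ i) c = c := by
    intro i
    induction i with
    | zero => rfl
    | succ i ih =>
      rw [pow_succ]
      change (k ^ i) (k c) = c
      rw [mem_fix.1 hc, ih]
  have hkO : ∀ i : ℕ, k ^ i ∈ O Q := fun i => (O Q).pow_mem hk i
  have h1 : ∀ i : ℕ, polar Q c ((k ^ i) x) = polar Q c x := by
    intro i
    conv_lhs => rw [← hki i]
    exact polar_map (hkO i) c x
  have h2 : (∑ i ∈ Finset.range n, (k ^ i) x) ∈ fix k := by
    rw [mem_fix, map_sum]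
    have h3 : ∀ i, k ((k ^ i) x) = (k ^ (i + 1)) x := fun i => by rw [pow_succ']; rfl
    simp only [h3]
    have h4 := Finset.sum_range_succ (fun i => (k ^ i) x) n
    have h5 := Finset.sum_range_succ' (fun i => (k ^ i) x) n
    rw [h4] at h5
    have h6 : (k ^ n) x = (k ^ 0) x := by rw [hkn, pow_zero]
    rw [h6] at h5
    exact (add_right_cancel h5).symm
  have h3 : polar Q c (∑ i ∈ Finset.range n, (k ^ i) x) = 0 := by
    exact mem_perp'.1 hc' _ h2
  have h4 : polar Q c (∑ i ∈ Finset.range n, (k ^ i) x) = (n : F) * polar Q c x := by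
    have h5 : ∀ s : Finset ℕ, polar Q c (∑ i ∈ s, (k ^ i) x) = (s.card : F) * polar Q c x := by
      intro s
      induction s using Finset.induction_on with
      | empty => simp
      | insert a s ha ih =>
        rw [Finset.sum_insert ha, polar_add_right, ih, h1, Finset.card_insert_of_notMem ha]
        push_cast
        ring
    rw [h5, Finset.card_range]
  rw [h3] at h4
  exact (mul_eq_zero.1 h4.symm).resolve_left hn

namespace Cfg

variable {m : ℕ} {v : V} {K : Subgroup (V ≃ₗ[F] V)} {Γ : Subgroup (Gam Q)}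

theorem leO (h : Cfg Q m v K Γ) {k : V ≃ₗ[F] V} (hk : k ∈ K) : k ∈ O Q := E_le_O (h.le hk)

theorem odd_fix [FiniteDimensional F V] (h : Cfg Q m v K Γ) {k : V ≃ₗ[F] V} (hk : k ∈ K) : Odd (finrank F (fix k)) := by
  have h1 := even_E h.good.nondeg (h.le hk)
  rw [h.dim] at h1
  rw [Nat.odd_iff]
  rw [Nat.even_iff] at h1
  omega

theorem not_value [Finite F] [FiniteDimensional F V] (h : Cfg Q m v K Γ) {k : V ≃ₗ[F] V} (hk : k ∈ K) (hk1 : k ≠ 1) :
    finrank F (fix k) ≤ finrank F ↥(fix k ⊓ perp Q (fix k)) + 1 := by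
  by_contra hcon
  obtain ⟨y, hy, hyv⟩ := exists_value_mem (Q := Q) (Y := fix k) (by omega) (Q v) h.ne
  exact hk1 (h.free k hk y hyv (mem_fix.1 hy))

/-- semisimple elements of `K` fix only one point -/
theorem exists_u [Finite F] [FiniteDimensional F V] (h : Cfg Q m v K Γ) {k : V ≃ₗ[F] V} (hk : k ∈ K) (hk1 : k ≠ 1) {n : ℕ}
    (hkn : k ^ n = 1) (hn : (n : F) ≠ 0) : ∃ u : V, u ≠ 0 ∧ Q u ≠ 0 ∧ fix k = F ∙ u := by
  have h1 := fix_inf_perp h.good.nondeg (h.leO hk) hkn hn
  have h3 := h.not_value hk hk1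
  rw [h1, finrank_bot] at h3
  have h4 := h.odd_fix hk
  have h5 : finrank F (fix k) = 1 := by
    rw [Nat.odd_iff] at h4
    omega
  obtain ⟨u, hu0, hu⟩ := finrank_eq_one_iff'.1 h5
  have hfu : fix k = F ∙ (u : V) := by
    apply le_antisymm
    · intro x hx
      obtain ⟨c, hc⟩ := hu ⟨x, hx⟩
      exact Submodule.mem_span_singleton.2 ⟨c, congrArg Subtype.val hc⟩
    · rw [Submodule.span_singleton_le_iff_mem]
      exact u.2
  have hu0' : (u : V) ≠ 0 := fun h0 => hu0 (Subtype.ext h0)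
  refine ⟨u, hu0', ?_, hfu⟩
  intro hQu
  apply hu0'
  have h6 : (u : V) ∈ fix k ⊓ perp Q (fix k) := by
    refine ⟨u.2, mem_perp.2 fun w hw => ?_⟩
    rw [hfu] at hw
    obtain ⟨c, rfl⟩ := Submodule.mem_span_singleton.1 hw
    rw [polar_smul_left, QuadraticMap.polar_self, hQu]
    simp
  rw [h1] at h6
  exact h6

theorem neg_of_perp [Finite F] [FiniteDimensional F V] (h : Cfg Q m v K Γ) {t : V ≃ₗ[F] V} (ht : t ∈ K) (htt : t * t = 1)
    {u : V} (hQu : Q u ≠ 0) (hu : fix t = F ∙ u) {y : V} (hy : polar Q y u = 0) : t y = -y := by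
  have htu : t u = u := mem_fix.1 (by rw [hu]; exact Submodule.mem_span_singleton_self u)
  have h1 : y + t y ∈ fix t := by
    rw [mem_fix, map_add]
    have : t (t y) = y := by
      change (t * t) y = y
      rw [htt]
      rfl
    rw [this, add_comm]
  rw [hu] at h1
  obtain ⟨c, hc⟩ := Submodule.mem_span_singleton.1 h1
  have h2 : polar Q (y + t y) u = 0 := by
    have h3 : polar Q (t y) u = 0 := by
      conv_lhs => rw [← htu]
      rw [polar_map (h.leO ht), hy]
    rw [polar_add_left, hy, h3, add_zero]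
  rw [← hc, polar_smul_left, polar_self', smul_eq_mul] at h2
  have h3 : c = 0 := by
    rcases mul_eq_zero.1 h2 with h4 | h4
    · exact h4
    · rcases mul_eq_zero.1 h4 with h5 | h5
      · exact absurd h5 h.h2
      · exact absurd h5 hQu
  rw [h3, zero_smul] at hc
  rw [eq_neg_iff_add_eq_zero, add_comm, ← hc]

/-- the involution of `K` is unique -/
theorem inv_unique [Finite F] [FiniteDimensional F V] (h : Cfg Q m v K Γ) {s t : V ≃ₗ[F] V} (hs : s ∈ K) (ht : t ∈ K)
    (hss : s * s = 1) (htt : t * t = 1) (hs1 : s ≠ 1) (ht1 : t ≠ 1) : s = t := by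
  have h2' : ((2 : ℕ) : F) ≠ 0 := by exact_mod_cast h.h2
  obtain ⟨u, -, hQu, hu⟩ := h.exists_u hs hs1 (n := 2) (by rw [pow_two, hss]) h2'
  obtain ⟨w, -, hQw, hw⟩ := h.exists_u ht ht1 (n := 2) (by rw [pow_two, htt]) h2'
  have hd : finrank F (Submodule.span F ({u, w} : Set V)) ≤ 2 := by
    classical
    have h1 := finrank_span_finset_le_card (R := F) ({u, w} : Finset V)
    have h2 : ({u, w} : Finset V).card ≤ 2 := Finset.card_le_two
    have h3 : ((({u, w} : Finset V) : Set V)) = {u, w} := by simp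
    rw [h3] at h1
    exact h1.trans h2
  obtain ⟨y, hy, hyv⟩ := exists_value_perp h.good.nondeg (Submodule.span F ({u, w} : Set V)) (by
    have := h.dim
    have := h.hm
    omega) h.ne
  have hyu : polar Q y u = 0 := mem_perp'.1 hy u (Submodule.subset_span (by simp))
  have hyw : polar Q y w = 0 := mem_perp'.1 hy w (Submodule.subset_span (by simp))
  have h1 : (s * t) y = y := by
    change s (t y) = y
    rw [h.neg_of_perp ht htt hQw hw hyw, map_neg, h.neg_of_perp hs hss hQu hu hyu, neg_neg]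
  have h2 := h.free (s * t) (K.mul_mem hs ht) y hyv h1
  rw [← hss] at h2
  exact (mul_left_cancel h2).symm

/-- `K` has no involution -/
theorem no_inv [Finite F] [FiniteDimensional F V] (h : Cfg Q m v K Γ) {t : V ≃ₗ[F] V} (ht : t ∈ K) (htt : t * t = 1) :
    t = 1 := by
  by_contra ht1
  have h2' : ((2 : ℕ) : F) ≠ 0 := by exact_mod_cast h.h2
  obtain ⟨u, hu0, hQu, hu⟩ := h.exists_u ht ht1 (n := 2) (by rw [pow_two, htt]) h2'
  have hinv : Inv Γ (fix t) := by
    intro M hM x hx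
    have h1 : conjLin M t = t := by
      refine h.inv_unique (h.conj M hM t ht) ht ?_ htt ?_ ht1
      · rw [← conjLin_mul, htt, conjLin_one]
      · intro h3
        apply ht1
        have h4 := congrArg (conjLin M⁻¹) h3
        rwa [← conjLin_mul_left, inv_mul_cancel, conjLin_one_left, conjLin_one] at h4
    rw [mem_fix] at hx ⊢
    have h3 := conjLin_apply' M t x
    rw [h1, hx] at h3
    exact h3
  have hd : finrank F (fix t) ≤ 1 := by
    rw [hu]
    exact (finrank_span_singleton hu0).le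
  obtain ⟨y, hy, hyv⟩ := exists_value_perp h.good.nondeg (fix t) (by
    have := h.dim
    have := h.hm
    omega) h.ne
  obtain ⟨s, hs, hs0⟩ := h.nocom (fix t) (by
    rw [hu]
    intro h0
    exact hu0 (Submodule.span_singleton_eq_bot.1 h0)) hinv.img_eq y hyv
  exact hs0 (mem_perp.1 hy s hs)

theorem finiteV [Finite F] [FiniteDimensional F V] : Finite V := Module.finite_of_finite F

theorem odd_card [Finite F] [FiniteDimensional F V] (h : Cfg Q m v K Γ) : Odd (Nat.card K) := by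
  have := finiteV (F := F) (V := V)
  have : Finite (V ≃ₗ[F] V) := Finite.of_injective (fun g => (g : V → V)) DFunLike.coe_injective
  rw [← Nat.not_even_iff_odd]
  intro he
  have : Fact (Nat.Prime 2) := ⟨Nat.prime_two⟩
  obtain ⟨t, ht⟩ := exists_prime_orderOf_dvd_card' (G := K) 2 he.two_dvd
  have h1 : (t : V ≃ₗ[F] V) = 1 := by
    refine h.no_inv t.2 ?_
    have h2 := pow_orderOf_eq_one t
    rw [ht, pow_two] at h2
    exact congrArg Subtype.val h2
  have h2 : t = 1 := Subtype.ext h1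
  rw [h2, orderOf_one] at ht
  omega

/-! ### The abelian subgroup -/

/-- conjugation by an element of `Γ` on `K` -/
def phi (h : Cfg Q m v K Γ) (M : Gam Q) (hM : M ∈ Γ) : K →* K where
  toFun k := ⟨conjLin M k, h.conj M hM k k.2⟩
  map_one' := Subtype.ext (conjLin_one M)
  map_mul' a b := Subtype.ext (conjLin_mul M a b)

/-- a nontrivial elementary abelian `Γ`-invariant subgroup -/
theorem exists_R [Finite F] [FiniteDimensional F V] (h : Cfg Q m v K Γ) (hK : K ≠ ⊥) :
    ∃ (R : Subgroup (V ≃ₗ[F] V)) (l : ℕ), l.Prime ∧ l ≠ 2 ∧ R ≤ K ∧ R ≠ ⊥ ∧ (∀ a ∈ R, a ^ l = 1) ∧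
      (∀ a ∈ R, ∀ b ∈ R, a * b = b * a) ∧ ∀ M ∈ Γ, ∀ a ∈ R, conjLin M a ∈ R := by
  classical
  have := finiteV (F := F) (V := V)
  have : Finite (V ≃ₗ[F] V) := Finite.of_injective (fun g => (g : V → V)) DFunLike.coe_injective
  have hodd := h.odd_card
  have hsol : Group.IsSolvable K := Cfsg.Agent.S0205.result hodd
  have hex : ∃ n, derivedSeries K n = ⊥ := hsol.solvable
  have hn0 : Nat.find hex ≠ 0 := by
    intro h0
    have h1 := Nat.find_spec hex
    rw [h0, derivedSeries_zero] at h1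
    apply hK
    rw [Subgroup.eq_bot_iff_forall]
    intro k hk
    have h2 : (⟨k, hk⟩ : K) ∈ (⊥ : Subgroup K) := by rw [← h1]; trivial
    exact congrArg Subtype.val (Subgroup.mem_bot.1 h2)
  obtain ⟨n, hn⟩ := Nat.exists_eq_succ_of_ne_zero hn0
  have hbot : derivedSeries K (n + 1) = ⊥ := by
    have h1 := Nat.find_spec hex
    rwa [hn] at h1
  have hne : derivedSeries K n ≠ ⊥ := fun h0 => by
    have := Nat.find_min' hex h0
    omega
  set D := derivedSeries K n with hD
  have hcomm : ∀ a ∈ D, ∀ b ∈ D, a * b = b * a := by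
    intro a ha b hb
    have h1 : ⁅a, b⁆ ∈ derivedSeries K (n + 1) := by
      rw [derivedSeries_succ]
      exact Subgroup.commutator_mem_commutator ha hb
    rw [hbot, Subgroup.mem_bot] at h1
    exact commutatorElement_eq_one_iff_mul_comm.1 h1
  have hcard : Nat.card D ≠ 1 := fun h0 => hne (Subgroup.card_eq_one.1 h0)
  obtain ⟨l, hl, hld⟩ := Nat.exists_prime_and_dvd hcard
  have : Fact l.Prime := ⟨hl⟩
  obtain ⟨z, hz⟩ := exists_prime_orderOf_dvd_card' (G := D) l hld
  have hl2 : l ≠ 2 := by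
    rintro rfl
    have h1 : 2 ∣ Nat.card K := hld.trans (Subgroup.card_subgroup_dvd_card D)
    rw [← Nat.not_even_iff_odd] at hodd
    exact hodd (even_iff_two_dvd.2 h1)
  let R : Subgroup (V ≃ₗ[F] V) :=
    { carrier := {a | ∃ d ∈ D, (d : V ≃ₗ[F] V) = a ∧ a ^ l = 1}
      one_mem' := ⟨1, D.one_mem, rfl, one_pow l⟩
      mul_mem' := by
        rintro _ _ ⟨d, hd, rfl, h1⟩ ⟨e, he, rfl, h2⟩
        refine ⟨d * e, D.mul_mem hd he, rfl, ?_⟩
        have h3 : Commute (d : V ≃ₗ[F] V) (e : V ≃ₗ[F] V) := congrArg Subtype.val (hcomm d hd e he)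
        rw [h3.mul_pow, h1, h2, one_mul]
      inv_mem' := by
        rintro _ ⟨d, hd, rfl, h1⟩
        exact ⟨d⁻¹, D.inv_mem hd, rfl, by rw [inv_pow, h1, inv_one]⟩ }
  refine ⟨R, l, hl, hl2, ?_, ?_, ?_, ?_, ?_⟩
  · rintro _ ⟨d, -, rfl, -⟩
    exact d.2
  · intro h0
    have h1 : (((z : D) : K) : V ≃ₗ[F] V) ∈ R := by
      refine ⟨z, z.2, rfl, ?_⟩
      have h2 := pow_orderOf_eq_one z
      rw [hz] at h2
      exact congrArg (fun x : D => ((x : K) : V ≃ₗ[F] V)) h2
    rw [h0, Subgroup.mem_bot] at h1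
    have h2 : z = 1 := Subtype.ext (Subtype.ext h1)
    rw [h2, orderOf_one] at hz
    exact hl.one_lt.ne hz
  · rintro _ ⟨d, -, rfl, h1⟩
    exact h1
  · rintro _ ⟨d, hd, rfl, -⟩ _ ⟨e, he, rfl, -⟩
    exact congrArg Subtype.val (hcomm d hd e he)
  · rintro M hM _ ⟨d, hd, rfl, h1⟩
    refine ⟨h.phi M hM d, ?_, rfl, ?_⟩
    · exact map_derivedSeries_le_derivedSeries (h.phi M hM) n (Subgroup.mem_map_of_mem _ hd)
    · have h2 : ∀ i : ℕ, (conjLin M (d : V ≃ₗ[F] V)) ^ i = conjLin M ((d : V ≃ₗ[F] V) ^ i) := by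
        intro i
        induction i with
        | zero => rw [pow_zero, pow_zero, conjLin_one]
        | succ i ih => rw [pow_succ, pow_succ, ih, conjLin_mul]
      rw [h2, h1, conjLin_one]

/-- the fixed space of a subgroup -/
def fixS (R : Subgroup (V ≃ₗ[F] V)) : Submodule F V where
  carrier := {x | ∀ a ∈ R, a x = x}
  add_mem' := fun {x y} hx hy a ha => by rw [map_add, hx a ha, hy a ha]
  zero_mem' := fun a _ => map_zero a
  smul_mem' := fun c x hx a ha => by rw [map_smul, hx a ha]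

theorem inv_fixS {R : Subgroup (V ≃ₗ[F] V)} (hR : ∀ M ∈ Γ, ∀ a ∈ R, conjLin M a ∈ R) : Inv Γ (fixS R) := by
  intro M hM x hx a ha
  have h1 := hR M⁻¹ (Γ.inv_mem hM) a ha
  have h2 : conjLin M (conjLin M⁻¹ a) = a := by rw [← conjLin_mul_left, mul_inv_cancel, conjLin_one_left]
  have h3 := conjLin_apply' M (conjLin M⁻¹ a) x
  rw [h2, hx _ h1] at h3
  exact h3

/-- `c ^ 2 = 1` and `c ^ l = 1`, `l` odd -/
theorem one_of_sq {c : F} (h1 : c * c = 1) {l : ℕ} (hl : Odd l) (h2 : c ^ l = 1) : c = 1 := by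
  obtain ⟨j, rfl⟩ := hl
  rw [pow_add, pow_mul, pow_two, h1, one_pow, one_mul, pow_one] at h2
  exact h2

/-- `R` is not a group of order prime to the characteristic -/
theorem kill_prime [Finite F] [FiniteDimensional F V] (h : Cfg Q m v K Γ) {R : Subgroup (V ≃ₗ[F] V)} {l : ℕ} (hl : l.Prime)
    (hl2 : l ≠ 2) (hRK : R ≤ K) (hR1 : R ≠ ⊥) (hRl : ∀ a ∈ R, a ^ l = 1) (hRc : ∀ a ∈ R, ∀ b ∈ R, a * b = b * a)
    (hRM : ∀ M ∈ Γ, ∀ a ∈ R, conjLin M a ∈ R) : (l : F) = 0 := by
  by_contra hlF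
  obtain ⟨z, hz, hz1⟩ : ∃ z ∈ R, z ≠ 1 := by
    by_contra hcon
    push Not at hcon
    exact hR1 ((Subgroup.eq_bot_iff_forall _).2 hcon)
  obtain ⟨u, hu0, hQu, hu⟩ := h.exists_u (hRK hz) hz1 (hRl z hz) hlF
  have hzu : z u = u := mem_fix.1 (by rw [hu]; exact Submodule.mem_span_singleton_self u)
  have hau : ∀ a ∈ R, a u = u := by
    intro a ha
    have h1 : a u ∈ fix z := by
      rw [mem_fix]
      have h2 : z (a u) = a (z u) := by
        change (z * a) u = (a * z) u
        rw [hRc a ha z hz]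
      rw [h2, hzu]
    rw [hu] at h1
    obtain ⟨c, hc⟩ := Submodule.mem_span_singleton.1 h1
    have h2 : Q (a u) = Q u := h.leO (hRK ha) u
    rw [← hc, QuadraticMap.map_smul, smul_eq_mul] at h2
    have h3 : c * c = 1 := mul_right_cancel₀ hQu (by rw [h2, one_mul])
    have h4 : ∀ i : ℕ, (a ^ i) u = c ^ i • u := by
      intro i
      induction i with
      | zero => rw [pow_zero, pow_zero, one_smul]; rfl
      | succ i ih =>
        rw [pow_succ']
        change a ((a ^ i) u) = _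
        rw [ih, map_smul, ← hc, smul_smul, pow_succ]
    have h5 := h4 l
    rw [hRl a ha] at h5
    have h6 : c ^ l = 1 := by
      have h7 : (c ^ l - 1) • u = 0 := by
        rw [sub_smul, one_smul, ← h5]
        change u - u = 0
        exact sub_self u
      rcases smul_eq_zero.1 h7 with h8 | h8
      · exact sub_eq_zero.1 h8
      · exact absurd h8 hu0
    rw [← hc, one_of_sq h3 (hl.odd_of_ne_two hl2) h6, one_smul]
  have hS : fixS R = F ∙ u := by
    apply le_antisymm
    · intro x hx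
      rw [← hu, mem_fix]
      exact hx z hz
    · rw [Submodule.span_singleton_le_iff_mem]
      exact hau
  have hd : finrank F (fixS R) ≤ 1 := by
    rw [hS]
    exact (finrank_span_singleton hu0).le
  obtain ⟨y, hy, hyv⟩ := exists_value_perp h.good.nondeg (fixS R) (by
    have := h.dim
    have := h.hm
    omega) h.ne
  obtain ⟨s, hs, hs0⟩ := h.nocom (fixS R) (by
    rw [hS]
    intro h0
    exact hu0 (Submodule.span_singleton_eq_bot.1 h0)) (inv_fixS hRM).img_eq y hyv
  exact hs0 (mem_perp.1 hy s hs)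

/-! ### The `p`-case -/

/-- invariant totally singular subspaces have dimension `m` -/
theorem finrank_ts [Finite F] [FiniteDimensional F V] (h : Cfg Q m v K Γ) {S : Submodule F V} (hS : Inv Γ S) (h0 : S ≠ ⊥)
    (hts : S ≤ perp Q S) : finrank F S = m := by
  have hd := h.dim
  have hdp := finrank_perp h.good.nondeg S
  have h1 := Submodule.finrank_mono hts
  by_contra hne
  obtain ⟨y, hy, hyv⟩ := exists_value_perp h.good.nondeg S (by omega) h.ne
  obtain ⟨s, hs, hs0⟩ := h.nocom S h0 hS.img_eq y hyv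
  exact hs0 (mem_perp.1 hy s hs)

theorem sing_of_ts (h : Cfg Q m v K Γ) {S : Submodule F V} (hts : S ≤ perp Q S) {x : V} (hx : x ∈ S) : Q x = 0 := by
  have h1 := mem_perp.1 (hts hx) x hx
  rw [polar_self'] at h1
  exact (mul_eq_zero.1 h1).resolve_left h.h2

/-- the radical of the fixed space of a `p`-group -/
theorem exists_D [Finite F] [FiniteDimensional F V] (h : Cfg Q m v K Γ) {C : Submodule F V} (hC : Inv Γ C) (h0 : C ≠ ⊥)
    (h1 : C ≠ ⊤) : ∃ D : Submodule F V, Inv Γ D ∧ D ≤ C ∧ D ≤ perp Q D ∧ finrank F D = m ∧ C ≤ perp Q D := by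
  have hQ := h.good.nondeg
  have hd := h.dim
  have hm := h.hm
  have hne : C ⊓ perp Q C ≠ ⊥ := by
    intro hbot
    have hdp := finrank_perp hQ C
    rcases le_or_gt 2 (finrank F C) with h2 | h2
    · obtain ⟨y, hy, hyv⟩ := exists_value_mem (Q := Q) (Y := C) (by rw [hbot, finrank_bot]; exact h2) (Q v) h.ne
      have hP : perp Q C ≠ ⊥ := by
        intro h3
        apply h1
        rw [← perp_perp hQ C, h3]
        ext x
        refine ⟨fun _ => trivial, fun _ => mem_perp.2 fun w hw => ?_⟩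
        rw [Submodule.mem_bot] at hw
        rw [hw, polar_zero_left]
      obtain ⟨s, hs, hs0⟩ := h.nocom _ hP hC.perp.img_eq y hyv
      exact hs0 (mem_perp'.1 hs y hy)
    · obtain ⟨y, hy, hyv⟩ := exists_value_mem (Q := Q) (Y := perp Q C) (by
        rw [perp_perp hQ, inf_comm, hbot, finrank_bot]
        omega) (Q v) h.ne
      obtain ⟨s, hs, hs0⟩ := h.nocom _ h0 hC.img_eq y hyv
      exact hs0 (mem_perp.1 hy s hs)
  have hts : C ⊓ perp Q C ≤ perp Q (C ⊓ perp Q C) := by
    intro x hx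
    exact mem_perp.2 fun w hw => mem_perp.1 hx.2 w hw.1
  refine ⟨C ⊓ perp Q C, hC.inf hC.perp, inf_le_left, hts, h.finrank_ts (hC.inf hC.perp) hne hts, ?_⟩
  intro x hx
  exact mem_perp.2 fun w hw => mem_perp'.1 hw.2 x hx

/-- a nontrivial `p`-group has a fixed vector -/
theorem fixS_ne_bot [Finite F] [FiniteDimensional F V] (h : Cfg Q m v K Γ) {R : Subgroup (V ≃ₗ[F] V)} {l : ℕ} (hl : l.Prime)
    (hRl : ∀ a ∈ R, a ^ l = 1) (hlF : (l : F) = 0) : fixS R ≠ ⊥ := by
  classical
  have := finiteV (F := F) (V := V)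
  have := Fact.mk hl
  have hpg : IsPGroup l R := fun a => ⟨1, by rw [pow_one]; exact Subtype.ext (hRl a a.2)⟩
  have hdvd : l ∣ Nat.card V := by
    have h1 : Nat.card V = Nat.card F ^ finrank F V := Module.natCard_eq_pow_finrank
    have h2 : l ∣ Nat.card F := by
      have : CharP F l := by
        have hF := ringChar.spec F l
        have h3 : ringChar F = l := by
          rcases (Nat.dvd_prime hl).1 (hF.1 hlF) with h4 | h4
          · exact absurd h4 (CharP.ringChar_ne_one)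
          · exact h4
        rw [← h3]
        exact ringChar.charP F
      have := Fintype.ofFinite F
      obtain ⟨n, -, hn⟩ := FiniteField.card F l
      rw [Nat.card_eq_fintype_card, hn]
      exact dvd_pow_self l n.ne_zero
    rw [h1]
    exact h2.trans (dvd_pow_self _ (by have := h.dim; omega))
  have h1 := hpg.card_modEq_card_fixedPoints V
  have h2 : l ∣ Nat.card (MulAction.fixedPoints R V) := (Nat.modEq_zero_iff_dvd.1 (h1.symm.trans (Nat.modEq_zero_iff_dvd.2 hdvd)))
  intro hbot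
  have h3 : MulAction.fixedPoints R V = {0} := by
    ext x
    constructor
    · intro hx
      have h4 : x ∈ fixS R := fun a ha => hx ⟨a, ha⟩
      rw [hbot] at h4
      exact h4
    · rintro rfl
      intro a
      exact smul_zero a
  rw [h3] at h2
  have h4 : Nat.card ({0} : Set V) = 1 := by simp
  rw [h4] at h2
  exact hl.one_lt.ne' (Nat.dvd_one.1 h2)

/-- the commuting elements of `R` act trivially on `D^⊥` -/
theorem trivial_H [Finite F] [FiniteDimensional F V] (h : Cfg Q m v K Γ) {R : Subgroup (V ≃ₗ[F] V)} {l : ℕ}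
    (hl : Odd l) (hRK : R ≤ K) (hRl : ∀ a ∈ R, a ^ l = 1) (hRc : ∀ a ∈ R, ∀ b ∈ R, a * b = b * a)
    (hRM : ∀ M ∈ Γ, ∀ a ∈ R, conjLin M a ∈ R) {D : Submodule F V} (hD : Inv Γ D) (hDf : D ≤ fixS R) (hts : D ≤ perp Q D)
    (hDm : finrank F D = m) : perp Q D ≤ fixS R := by
  classical
  have hQ := h.good.nondeg
  have hd := h.dim
  have hm := h.hm
  have hdp := finrank_perp hQ D
  -- a vector outside `D`
  obtain ⟨u, huH, huD⟩ : ∃ u ∈ perp Q D, u ∉ D := by
    by_contra hcon
    push Not at hcon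
    have := Submodule.finrank_mono (show perp Q D ≤ D from hcon)
    omega
  have hu0 : u ≠ 0 := fun h0 => huD (by rw [h0]; exact D.zero_mem)
  have hHdec : ∀ x ∈ perp Q D, ∃ c : F, ∃ w ∈ D, x = c • u + w := by
    have hle : D ⊔ F ∙ u ≤ perp Q D := sup_le hts ((Submodule.span_singleton_le_iff_mem _ _).2 huH)
    have hlt : D < D ⊔ F ∙ u := lt_of_le_of_ne le_sup_left fun h0 => huD (by
      rw [h0]
      exact le_sup_right (a := D) (Submodule.mem_span_singleton_self u))
    have h1 := Submodule.finrank_lt_finrank_of_lt hlt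
    have h2 : D ⊔ F ∙ u = perp Q D := Submodule.eq_of_le_of_finrank_le hle (by omega)
    intro x hx
    rw [← h2] at hx
    obtain ⟨w, hw, z, hz, rfl⟩ := Submodule.mem_sup.1 hx
    obtain ⟨c, rfl⟩ := Submodule.mem_span_singleton.1 hz
    exact ⟨c, w, hw, add_comm _ _⟩
  have hQu : Q u ≠ 0 := by
    intro hQu
    apply huD
    rw [← perp_perp hQ D]
    refine mem_perp.2 fun x hx => ?_
    obtain ⟨c, w, hw, rfl⟩ := hHdec x hx
    rw [polar_add_left, polar_smul_left, polar_self', hQu, mem_perp.1 huH w hw]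
    simp
  -- `R` preserves `D^⊥`
  have haH : ∀ a ∈ R, ∀ x ∈ perp Q D, a x ∈ perp Q D := by
    intro a ha x hx
    refine mem_perp.2 fun w hw => ?_
    rw [← hDf hw a ha, polar_map (h.leO (hRK ha))]
    exact mem_perp.1 hx w hw
  -- `a u = u + δ`
  have hau : ∀ a ∈ R, a u - u ∈ D := by
    intro a ha
    obtain ⟨c, w, hw, hc⟩ := hHdec (a u) (haH a ha u huH)
    have h1 : Q (a u) = Q u := h.leO (hRK ha) u
    have h2 : polar Q (c • u) w = 0 := by
      rw [polar_smul_left, polar_comm, mem_perp.1 huH w hw, smul_zero]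
    rw [hc, Q_add, QuadraticMap.map_smul, h.sing_of_ts hts hw, h2, smul_eq_mul, add_zero, add_zero] at h1
    have h3 : c * c = 1 := mul_right_cancel₀ hQu (by rw [h1, one_mul])
    have h4 : ∀ i : ℕ, ∃ w ∈ D, (a ^ i) u = c ^ i • u + w := by
      intro i
      induction i with
      | zero => exact ⟨0, D.zero_mem, by rw [pow_zero, pow_zero, one_smul, add_zero]; rfl⟩
      | succ i ih =>
        obtain ⟨w', hw', e⟩ := ih
        refine ⟨c ^ i • w + w', D.add_mem (D.smul_mem _ hw) hw', ?_⟩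
        rw [pow_succ']
        change a ((a ^ i) u) = _
        rw [e, map_add, map_smul, hc, hDf hw' a ha, smul_add, smul_smul, pow_succ]
        abel
    obtain ⟨w', hw', h5⟩ := h4 l
    rw [hRl a ha] at h5
    have h6 : c ^ l = 1 := by
      by_contra hne
      apply huD
      have h7 : (1 - c ^ l) • u = w' := by
        rw [sub_smul, one_smul, sub_eq_iff_eq_add, add_comm]
        exact h5
      have h8 : (1 - c ^ l) ≠ 0 := fun h0 => hne (sub_eq_zero.1 h0).symm
      have h9 : u = (1 - c ^ l)⁻¹ • w' := by rw [← h7, smul_smul, inv_mul_cancel₀ h8, one_smul]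
      rw [h9]
      exact D.smul_mem _ hw'
    rw [hc, one_of_sq h3 hl h6, one_smul, add_sub_cancel_left]
    exact hw
  -- the span of the `a x - x`
  set S := Submodule.span F {z : V | ∃ a ∈ R, ∃ x ∈ perp Q D, z = a x - x} with hS
  have hSD : S ≤ D := by
    rw [hS, Submodule.span_le]
    rintro _ ⟨a, ha, x, hx, rfl⟩
    obtain ⟨c, w, hw, rfl⟩ := hHdec x hx
    have : a (c • u + w) - (c • u + w) = c • (a u - u) := by
      rw [map_add, map_smul, hDf hw a ha, smul_sub]
      abel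
    rw [this]
    exact D.smul_mem _ (hau a ha)
  by_cases hS0 : S = ⊥
  · intro x hx a ha
    have h1 : a x - x ∈ S := Submodule.subset_span ⟨a, ha, x, hx, rfl⟩
    rw [hS0, Submodule.mem_bot] at h1
    exact sub_eq_zero.1 h1
  · exfalso
    have hSinv : Inv Γ S := by
      intro M hM x hx
      obtain ⟨σ, c, hMs⟩ := M.2
      rw [hS] at hx
      induction hx using Submodule.span_induction with
      | mem z hz =>
        obtain ⟨a, ha, x, hx, rfl⟩ := hz
        refine Submodule.subset_span ⟨conjLin M a, hRM M hM a ha, M.1 x, hD.perp M hM x hx, ?_⟩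
        rw [conjLin_apply', hMs.sub]
      | zero => rw [hMs.map_zero]; exact S.zero_mem
      | add y z _ _ hy hz => rw [hMs.add]; exact S.add_mem hy hz
      | smul b y _ hy => rw [hMs.smul]; exact S.smul_mem _ hy
    have hSts : S ≤ perp Q S := fun x hx => mem_perp.2 fun w hw => mem_perp.1 (hts (hSD hx)) w (hSD hw)
    have hSm := h.finrank_ts hSinv hS0 hSts
    -- all of `S` is a line
    obtain ⟨a, ha, hane⟩ : ∃ a ∈ R, a u - u ≠ 0 := by
      by_contra hcon
      push Not at hcon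
      apply hS0
      rw [hS, Submodule.span_eq_bot]
      rintro _ ⟨a, ha, x, hx, rfl⟩
      obtain ⟨c, w, hw, rfl⟩ := hHdec x hx
      have : a (c • u + w) - (c • u + w) = c • (a u - u) := by
        rw [map_add, map_smul, hDf hw a ha, smul_sub]
        abel
      rw [this, hcon a ha, smul_zero]
    -- `(a - 1) x` lies in `D^⊥`
    have hax : ∀ a ∈ R, ∀ x, a x - x ∈ perp Q D := by
      intro a ha x
      refine mem_perp.2 fun w hw => ?_
      rw [polar_sub_right]
      conv_lhs => rw [← hDf hw a ha, polar_map (h.leO (hRK ha))]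
      rw [hDf hw a ha, sub_self]
    have hpa : ∀ a ∈ R, ∀ x, polar Q (a x - x) u = - polar Q x (a u - u) := by
      intro a ha x
      have h1 := polar_map (h.leO (hRK ha)) x u
      have h2 := polar_map (h.leO (hRK ha)) x (a u - u)
      rw [hDf (hau a ha) a ha, polar_sub_right, polar_sub_right] at h2
      rw [polar_sub_left, polar_sub_right]
      rw [h1] at h2
      linear_combination -h2
    have hline : ∀ b ∈ R, b u - u ∈ F ∙ (a u - u) := by
      intro b hb
      obtain ⟨x, hx⟩ : ∃ x, polar Q x (a u - u) ≠ 0 := by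
        by_contra hcon
        push Not at hcon
        exact hane (hQ _ fun x => by rw [polar_comm]; exact hcon x)
      obtain ⟨α, w, hw, hα⟩ := hHdec (a x - x) (hax a ha x)
      obtain ⟨β, w', hw', hβ⟩ := hHdec (b x - x) (hax b hb x)
      have hα0 : α ≠ 0 := by
        rintro rfl
        apply hx
        have h1 := hpa a ha x
        rw [hα, zero_smul, zero_add, polar_comm, mem_perp'.1 huH w hw] at h1
        exact neg_eq_zero.1 h1.symm
      have hba : b (a x - x) - (a x - x) = a (b x - x) - (b x - x) := by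
        have h1 : b (a x) = a (b x) := by
          change (b * a) x = (a * b) x
          rw [hRc a ha b hb]
        rw [map_sub, map_sub, h1]
        abel
      rw [hα, hβ, map_add, map_add, map_smul, map_smul, hDf hw b hb, hDf hw' a ha] at hba
      have h1 : α • (b u - u) = β • (a u - u) := by
        rw [smul_sub, smul_sub]
        have h2 : α • b u - α • u = α • b u + w - (α • u + w) := by abel
        have h3 : β • a u - β • u = β • a u + w' - (β • u + w') := by abel
        rw [h2, h3, hba]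
      refine Submodule.mem_span_singleton.2 ⟨α⁻¹ * β, ?_⟩
      rw [mul_smul, ← h1, smul_smul, inv_mul_cancel₀ hα0, one_smul]
    have hSl : S ≤ F ∙ (a u - u) := by
      rw [hS, Submodule.span_le]
      rintro _ ⟨b, hb, x, hx, rfl⟩
      obtain ⟨c, w, hw, rfl⟩ := hHdec x hx
      have : b (c • u + w) - (c • u + w) = c • (b u - u) := by
        rw [map_add, map_smul, hDf hw b hb, smul_sub]
        abel
      rw [this]
      exact Submodule.smul_mem _ _ (hline b hb)
    have h1 := Submodule.finrank_mono hSl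
    rw [finrank_span_singleton hane, hSm] at h1
    omega

/-- **the linear part of F-B-** -/
theorem main [Finite F] [FiniteDimensional F V] (h : Cfg Q m v K Γ) (hK : K ≠ ⊥) :
    Even m ∧ ∃ D : Submodule F V, finrank F D = m ∧ D ≤ perp Q D ∧ ∀ y ∈ perp Q D, Q y ≠ Q v := by
  have hQ := h.good.nondeg
  have hd := h.dim
  have hm := h.hm
  obtain ⟨R, l, hl, hl2, hRK, hR1, hRl, hRc, hRM⟩ := h.exists_R hK
  have hlF := h.kill_prime hl hl2 hRK hR1 hRl hRc hRM
  obtain ⟨a, ha, ha1⟩ : ∃ z ∈ R, z ≠ 1 := by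
    by_contra hcon
    push Not at hcon
    exact hR1 ((Subgroup.eq_bot_iff_forall _).2 hcon)
  have hCtop : fixS R ≠ ⊤ := by
    intro h0
    apply ha1
    ext x
    have h1 : x ∈ fixS R := by rw [h0]; trivial
    exact h1 a ha
  obtain ⟨D, hDinv, hDC, hts, hDm, hCH⟩ := h.exists_D (inv_fixS hRM) (h.fixS_ne_bot hl hRl hlF) hCtop
  have hH := h.trivial_H (hl.odd_of_ne_two hl2) hRK hRl hRc hRM hDinv hDC hts hDm
  have hD0 : D ≠ ⊥ := by
    rintro rfl
    rw [finrank_bot] at hDm
    omega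
  have hdp := finrank_perp hQ D
  have hfix : fix a = perp Q D := by
    apply le_antisymm
    · intro x hx
      rw [mem_fix] at hx
      by_contra hxD
      obtain ⟨w, hw, hwx⟩ : ∃ w ∈ D, polar Q w x ≠ 0 := by
        by_contra hcon
        push Not at hcon
        exact hxD (mem_perp.2 hcon)
      apply ha1
      refine h.free a (hRK ha) (x + ((polar Q w x)⁻¹ * (Q v - Q x)) • w) ?_ ?_
      · rw [Q_add, QuadraticMap.map_smul, h.sing_of_ts hts hw, polar_smul_right, polar_comm Q x w, smul_eq_mul, smul_eq_mul]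
        field_simp
        ring
      · rw [map_add, map_smul, hx, hDC hw a ha]
    · intro x hx
      rw [mem_fix]
      exact hH hx a ha
  have h1 := h.odd_fix (hRK ha)
  rw [hfix] at h1
  refine ⟨?_, D, hDm, hts, ?_⟩
  · rw [Nat.odd_iff] at h1
    rw [Nat.even_iff]
    omega
  · intro y hy hyv
    obtain ⟨s, hs, hs0⟩ := h.nocom D hD0 hDinv.img_eq y hyv
    exact hs0 (mem_perp.1 hy s hs)

end Cfg

end Cfsg.Agent.H898.Rg
end

-- part: H813/Rg/EFac
section
prune_inst 0x116077443c80020000008592130020246400059000600401eda20b420801c3600d0229400e801112186eb28000010000020000d0420000000a000000000101208028d6040154090c04000f801084000000000000000000000000000000000004000000000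
set_option linter.all false
open scoped Cfsg.Agent.FastGrp

-- part: H813/Rg/Half
section
/-!
# S3691, rows `E₆`, `²E₆`, `E₇`, `E₈`: reduction (helper813)

* `full_of_fac` : a prime `r` of `|X ∩ T|` with cyclic Sylow subgroups in `T`, prime to `|Out T|`, does not divide `|T : X ∩ T|`;
* `half_of_fac` : one of the factors contains half of the class `c`.
-/

set_option autoImplicit false

namespace Cfsg.Agent.H813.Rg

open Cfsg Subgroup Cfsg.Agent.H454.Reg Cfsg.Agent.H73.Rg Cfsg.Agent.H436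

universe u v

variable {G : Type u} [Group G] [Finite G] {T X Y : Subgroup G} {K : Type v} [Group K]

omit [Finite G] in
theorem card_map' (e : T ≃* K) (A : Subgroup T) : Nat.card (A.map e.toMonoidHom) = Nat.card A :=
  Nat.card_congr (A.equivMapOfInjective e.toMonoidHom e.injective).symm.toEquiv

omit [Finite G] in
theorem index_map' (e : T ≃* K) (A : Subgroup T) : (A.map e.toMonoidHom).index = A.index :=
  Subgroup.index_map_equiv A e

omit [Finite G] in
/-- cyclic `r`-subgroups, transport -/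
theorem cyc_of_equiv (e : T ≃* K) {r : ℕ} (h : ∀ P : Subgroup K, IsPGroup r P → IsCyclic P) (P : Subgroup T) (hP : IsPGroup r P) :
    IsCyclic P := by
  have h1 : IsPGroup r (P.map e.toMonoidHom) := hP.map _
  have h2 := h _ h1
  exact isCyclic_of_surjective (P.equivMapOfInjective e.toMonoidHom e.injective).symm
    (P.equivMapOfInjective e.toMonoidHom e.injective).symm.surjective

theorem full_of_fac (h : Fac T X Y) (e : T ≃* K) {r : ℕ} (hr : r.Prime) (hout : ¬ r ∣ Nat.card (Out T))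
    (hcyc : ∀ P : Subgroup K, IsPGroup r P → IsCyclic P)
    (hrA : r ∣ Nat.card ((X.subgroupOf T).map e.toMonoidHom)) : ¬ r ∣ ((X.subgroupOf T).map e.toMonoidHom).index := by
  rw [card_map'] at hrA
  rw [index_map']
  have h1 : ¬ r ∣ Nat.card (Y.subgroupOf T) := fun h2 => h.not_both hr (cyc_of_equiv e hcyc) hrA h2
  have h2 := h.val_eq hout
  rw [Nat.factorization_eq_zero_of_not_dvd h1, add_zero] at h2
  have h3 := (X.subgroupOf T).card_mul_index
  have h4 : Nat.card (X.subgroupOf T) ≠ 0 := Nat.card_pos.ne'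
  have h5 : (X.subgroupOf T).index ≠ 0 := fun h6 => by
    rw [h6, mul_zero] at h3
    exact Nat.card_pos.ne h3
  intro h6
  have h7 : 0 < (X.subgroupOf T).index.factorization r := hr.factorization_pos_of_dvd h5 h6
  rw [← h3, Nat.factorization_mul h4 h5, Finsupp.add_apply] at h2
  omega

/-- the product of the greatest common divisors -/
theorem le_gcd_mul (h : Fac T X Y) {N : ℕ} (hN : 0 < N) (hd : N ∣ Nat.card T) (hout : Nat.Coprime N (Nat.card (Out T))) :
    N ≤ Nat.gcd (Nat.card (X.subgroupOf T)) N * Nat.gcd (Nat.card (Y.subgroupOf T)) N := by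
  obtain ⟨a, -, ha, h1⟩ := h.card0
  have h2 : Nat.Coprime N a := Nat.Coprime.coprime_dvd_right ha hout
  have h3 : N ∣ Nat.card (X.subgroupOf T) * Nat.card (Y.subgroupOf T) := by
    rw [← h1] at hd
    exact h2.dvd_of_dvd_mul_right hd
  have h4 := Nat.gcd_mul_right_dvd_mul_gcd N (Nat.card (X.subgroupOf T)) (Nat.card (Y.subgroupOf T))
  rw [Nat.gcd_eq_left h3] at h4
  rw [Nat.gcd_comm _ N, Nat.gcd_comm _ N]
  exact Nat.le_of_dvd (Nat.mul_pos (Nat.gcd_pos_of_pos_left _ hN) (Nat.gcd_pos_of_pos_left _ hN)) h4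

/-- **B1.** One of the factors contains half of the class `c`. -/
theorem half_of_fac (h : Fac T X Y) (e : T ≃* K) {p f c : ℕ} (hp : p.Prime) (hf : 1 ≤ f) (hc : 5 ≤ c)
    (hd : PP p (f * c) ∣ Nat.card K) (hout : ∀ r, Prim p (f * c) r → ¬ r ∣ Nat.card (Out T))
    (hcyc : ∀ r, Prim p (f * c) r → ∀ P : Subgroup K, IsPGroup r P → IsCyclic P) :
    HAt p f c ((X.subgroupOf T).map e.toMonoidHom) ∨ HAt p f c ((Y.subgroupOf T).map e.toMonoidHom) := by
  have hfc : 3 ≤ f * c := by nlinarith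
  have hN : 0 < PP p (f * c) := PP_pos hp.two_le (by omega)
  have hcop : Nat.Coprime (PP p (f * c)) (Nat.card (Out T)) := by
    refine Nat.Coprime.symm (Nat.coprime_of_dvd fun r hr h1 h2 => ?_)
    exact hout r (prim_of_dvd_PP hp.two_le hfc hr h2) h1
  have hdT : PP p (f * c) ∣ Nat.card T := by rwa [Nat.card_congr e.toEquiv]
  have h1 := le_gcd_mul h hN hdT hcop
  rcases le_total (Nat.gcd (Nat.card (Y.subgroupOf T)) (PP p (f * c))) (Nat.gcd (Nat.card (X.subgroupOf T)) (PP p (f * c)))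
    with h2 | h2
  · left
    refine ⟨fun r hr hd => full_of_fac h e hr.prime (hout r hr) (hcyc r hr) hd, ?_⟩
    rw [card_map', sq]
    exact h1.trans (Nat.mul_le_mul_left _ h2)
  · right
    refine ⟨fun r hr hd => full_of_fac h.symm e hr.prime (hout r hr) (hcyc r hr) hd, ?_⟩
    rw [card_map', sq]
    exact h1.trans (Nat.mul_le_mul_right _ h2)

/-- **B1'.** a single prime divides one of the factors -/
theorem prime_of_fac (h : Fac T X Y) (e : T ≃* K) {s : ℕ} (hs : s.Prime) (hd : s ∣ Nat.card K)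
    (hout : ¬ s ∣ Nat.card (Out T)) :
    s ∣ Nat.card ((X.subgroupOf T).map e.toMonoidHom) ∨ s ∣ Nat.card ((Y.subgroupOf T).map e.toMonoidHom) := by
  rw [card_map', card_map']
  exact h.prime_dvd hs (by rwa [Nat.card_congr e.toEquiv]) hout

omit [Finite G] in
theorem map_ne_top_left (h : Fac T X Y) (e : T ≃* K) : (X.subgroupOf T).map e.toMonoidHom ≠ ⊤ := by
  intro h1
  apply h.ne_top_left
  rw [← Subgroup.index_eq_one, ← index_map' e, h1, Subgroup.index_top]

omit [Finite G] in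
theorem map_ne_top_right (h : Fac T X Y) (e : T ≃* K) : (Y.subgroupOf T).map e.toMonoidHom ≠ ⊤ :=
  map_ne_top_left h.symm e

/-- a `p`-primitive prime of `f c` is `≥ f c + 1` -/
theorem lt_of_prim {p f c r : ℕ} (hp : 2 ≤ p) (h : Prim p (f * c) r) : f * c < r := by
  have h1 := mod_of_prim' hp h
  have h2 := Nat.le_of_dvd (by have := h.prime.two_le; omega) h1
  have := h.prime.two_le
  omega

/-- the outer automorphism group of an isomorphic group -/
theorem card_out_congr {S : Type u} {R : Type v} [Group S] [Group R] (e : S ≃* R) :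
    Nat.card (Cfsg.Out S) = Nat.card (Cfsg.Out R) := by
  have hmap : (Cfsg.Inn S).map (MulAut.congr e : MulAut S ≃* MulAut R).toMonoidHom = Cfsg.Inn R := by
    ext β
    constructor
    · rintro ⟨_, ⟨s, rfl⟩, rfl⟩
      refine ⟨e s, ?_⟩
      ext t
      simp only [MulAut.congr, _root_.MulAut.conj_apply, _root_.MulEquiv.toMonoidHom_eq_coe, _root_.MonoidHom.coe_coe, _root_.MulEquiv.coe_mk, _root_.Equiv.coe_fn_mk, _root_.MulEquiv.trans_apply, _root_.map_mul, _root_.MulEquiv.apply_symm_apply, _root_.map_inv]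
    · rintro ⟨t, rfl⟩
      refine ⟨MulAut.conj (e.symm t), ⟨e.symm t, rfl⟩, ?_⟩
      ext x
      simp only [MulAut.congr, _root_.MulEquiv.toMonoidHom_eq_coe, _root_.MonoidHom.coe_coe, _root_.MulEquiv.coe_mk, _root_.Equiv.coe_fn_mk, _root_.MulEquiv.trans_apply, _root_.MulAut.conj_apply, _root_.map_mul, _root_.MulEquiv.apply_symm_apply, _root_.map_inv]
  exact Nat.card_congr (QuotientGroup.congr (Cfsg.Inn S) (Cfsg.Inn R) (MulAut.congr e) hmap).toEquiv

end Cfsg.Agent.H813.Rg
end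

-- part: H813/Rg/ESetup
section
/-!
# S3691, rows `E₆`, `²E₆`, `E₇`, `E₈`: the primitive primes (helper813)

`Cl p f K c` : `PP p (f c)` divides `|K|`, the primes `r` with `Prim p (f c) r` do not divide `|Out K|` and have cyclic
Sylow subgroups in `K`. Rows: `E₈` (20, 24, 30), `E₇` (7, 9, 14, 18), `E₆` (8, 9, 12), `²E₆` (8, 12, 18).
-/

set_option autoImplicit false

namespace Cfsg.Agent.H813.Rg

open Cfsg Subgroup Cfsg.Lie Cfsg.Agent.H454.Reg Cfsg.Agent.H73.Rg Cfsg.Agent.H436 Cfsg.Agent.H56.Exc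

universe u v

/-- the class `c` of `K` -/
structure Cl (p f : ℕ) (K : Type v) [Group K] (c : ℕ) : Prop where
  dvd : PP p (f * c) ∣ Nat.card K
  out : ∀ r, Prim p (f * c) r → ¬ r ∣ Nat.card (Cfsg.Out K)
  cyc : ∀ r, Prim p (f * c) r → ∀ P : Subgroup K, IsPGroup r P → IsCyclic P

variable {G : Type u} [Group G] [Finite G] {T X Y : Subgroup G} {K : Type v} [Group K] {p f c : ℕ}

theorem Cl.fac (hcl : Cl p f K c) (h : Fac T X Y) (e : T ≃* K) (hp : p.Prime) (hf : 1 ≤ f) (hc : 5 ≤ c) :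
    HAt p f c ((X.subgroupOf T).map e.toMonoidHom) ∨ HAt p f c ((Y.subgroupOf T).map e.toMonoidHom) :=
  half_of_fac h e hp hf hc hcl.dvd (fun r hr => by rw [card_out_congr e]; exact hcl.out r hr) hcl.cyc

/-- a number `d k` with `d ∣ 6`, `k = p`-exponent, is prime to the primitive primes -/
theorem not_dvd_out {d r : ℕ} (hp : p.Prime) (hf : 1 ≤ f) (hc : 5 ≤ c) (hd : d ∣ 6) (hr : Prim p (f * c) r) : ¬ r ∣ d * f := by
  have h1 := lt_of_prim hp.two_le hr
  have h5 : 5 ≤ f * c := by nlinarith only [hf, hc]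
  have hff : f ≤ f * c := Nat.le_mul_of_pos_right f (by omega)
  intro h2
  rcases hr.prime.dvd_mul.1 h2 with h3 | h3
  · have h4 : r ∣ 2 * 3 := h3.trans hd
    rcases hr.prime.dvd_mul.1 h4 with h6 | h6
    · have := Nat.le_of_dvd (by norm_num) h6; omega
    · have := Nat.le_of_dvd (by norm_num) h6; omega
  · have := Nat.le_of_dvd (by omega) h3; omega

/-- `PP p (f c)` divides `|K|` if it divides `d |K|`, `d ∣ 6` -/
theorem PP_dvd_card {d N : ℕ} (hp : p.Prime) (hf : 1 ≤ f) (hc : 5 ≤ c) (hd : d ∣ 6) (h : PP p (f * c) ∣ d * N) :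
    PP p (f * c) ∣ N := by
  have h5 : 5 ≤ f * c := by nlinarith
  refine Nat.Coprime.dvd_of_dvd_mul_left ?_ h
  refine Nat.Coprime.coprime_dvd_right hd ?_
  refine Nat.Coprime.symm (Nat.coprime_of_dvd fun r hr h1 h2 => ?_)
  have hr' := prim_of_dvd_PP hp.two_le (by omega) hr h2
  exact not_dvd_out hp hf hc dvd_rfl hr' (h1.mul_right f)

/-- the `p`-primitive part divides `q ^ m - 1` for `c ∣ m` -/
theorem PP_dvd_pow (hp : p.Prime) (hf : 1 ≤ f) (hc : 5 ≤ c) {m : ℕ} (hm : c ∣ m) : PP p (f * c) ∣ (p ^ f) ^ m - 1 := by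
  have h5 : 5 ≤ f * c := by nlinarith
  refine (PP_dvd hp.one_le (by omega)).trans ?_
  rw [← pow_mul]
  exact Nat.pow_sub_one_dvd_pow_sub_one p (Nat.mul_dvd_mul_left f hm)

theorem int_dvd (hp : p.Prime) (hf : 1 ≤ f) (hc : 5 ≤ c) {m : ℕ} (hm : c ∣ m) :
    ((PP p (f * c) : ℕ) : ℤ) ∣ ((p ^ f : ℕ) : ℤ) ^ m - 1 := by
  have h1 := PP_dvd_pow hp hf hc hm
  have h2 : (((p ^ f) ^ m - 1 : ℕ) : ℤ) = ((p ^ f : ℕ) : ℤ) ^ m - 1 := by
    rw [Nat.cast_sub (Nat.one_le_pow _ _ (Nat.pow_pos hp.pos))]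
    push_cast
    rfl
  rw [← h2]
  exact Int.natCast_dvd_natCast.2 h1

/-- `PP p (2 f m)` divides `q ^ m + 1` -/
theorem int_dvd_add (hp : p.Prime) (hf : 1 ≤ f) {m : ℕ} (hm : 3 ≤ m) :
    ((PP p (f * (2 * m)) : ℕ) : ℤ) ∣ ((p ^ f : ℕ) : ℤ) ^ m + 1 := by
  have h5 : 5 ≤ f * (2 * m) := by nlinarith
  have hq1 : 1 ≤ (p ^ f) ^ m := Nat.one_le_pow _ _ (Nat.pow_pos hp.pos)
  have h1 := PP_dvd_pow hp hf (show 5 ≤ 2 * m by omega) (dvd_refl (2 * m))
  have h2 : (p ^ f) ^ (2 * m) - 1 = ((p ^ f) ^ m - 1) * ((p ^ f) ^ m + 1) := by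
    rw [mul_comm 2 m, pow_mul ((p ^ f)) m 2, mul_comm, ← Nat.sq_sub_sq, one_pow]
  rw [h2] at h1
  have hcop : Nat.Coprime (PP p (f * (2 * m))) ((p ^ f) ^ m - 1) := by
    refine Nat.Coprime.symm (Nat.coprime_of_dvd fun r hr h3 h4 => ?_)
    have hr' := prim_of_dvd_PP hp.two_le (by omega) hr h4
    rw [← pow_mul] at h3
    have h6 := (hr'.dvd_iff _).1 h3
    have h7 := Nat.le_of_dvd (Nat.mul_pos hf (by omega)) h6
    have h8 : f * (2 * m) = 2 * (f * m) := by ring
    have h9 : 0 < f * m := Nat.mul_pos hf (by omega)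
    omega
  have h3 := hcop.dvd_of_dvd_mul_left h1
  have h4 : (((p ^ f) ^ m + 1 : ℕ) : ℤ) = ((p ^ f : ℕ) : ℤ) ^ m + 1 := by push_cast; rfl
  rw [← h4]
  exact Int.natCast_dvd_natCast.2 h3

theorem prim_of_prim (hf : 1 ≤ f) {r : ℕ} (h : Prim p (f * c) r) : Prim (p ^ f) c r where
  prime := h.prime
  dvd_iff m := by
    rw [← pow_mul, h.dvd_iff]
    exact ⟨fun h1 => Nat.dvd_of_mul_dvd_mul_left hf h1, fun h1 => Nat.mul_dvd_mul_left f h1⟩
  not_dvd hd := h.not_dvd (h.prime.dvd_of_dvd_pow hd)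

end Cfsg.Agent.H813.Rg
end

-- part: H813/Rg/ECl
section
/-!
# S3691, rows `E₆`, `²E₆`, `E₇`, `E₈`: the classes (helper813)
-/

set_option autoImplicit false

namespace Cfsg.Agent.H813.Rg

open Cfsg Subgroup Cfsg.Lie Cfsg.Agent.H454.Reg Cfsg.Agent.H73.Rg Cfsg.Agent.H436 Cfsg.Agent.H56.Exc

universe u v

variable {p f : ℕ}

section

variable {F : Type u} [Field F] [Fintype F]

theorem two_le_int (hp : p.Prime) (hf : 1 ≤ f) : (2 : ℤ) ≤ ((p ^ f : ℕ) : ℤ) := by
  have : 2 ≤ p ^ f := hp.two_le.trans (Nat.le_self_pow (by omega) p)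
  exact_mod_cast this

/-- `E₈` : the classes 20, 24, 30 -/
theorem cl_E8 (hp : p.Prime) (hf : 1 ≤ f) (hF : Fintype.card F = p ^ f) {c : ℕ} (hc : c = 20 ∨ c = 24 ∨ c = 30) :
    Cl p f ↥(chevE8.group F) c := by
  have := Fact.mk hp
  have hq2 := two_le_int hp hf
  have hc5 : 5 ≤ c := by omega
  have hmono : ∀ i j : ℕ, i ≤ j → ((p ^ f : ℕ) : ℤ) ^ i ≤ ((p ^ f : ℕ) : ℤ) ^ j := fun i j hij =>
    pow_le_pow_right₀ (by omega) hij
  refine ⟨?_, fun r hr => ?_, fun r hr => ?_⟩
  · refine PP_dvd_card (d := 1) hp hf hc5 (one_dvd _) ?_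
    rw [one_mul]
    refine Int.natCast_dvd_natCast.1 ?_
    rw [ord_E8 hF]
    rcases hc with rfl | rfl | rfl
    · exact ((int_dvd hp hf (by norm_num) (dvd_refl 20)).mul_left _ |>.mul_right _).mul_right _
    · exact ((int_dvd hp hf (by norm_num) (dvd_refl 24)).mul_left _).mul_right _
    · exact (int_dvd hp hf (by norm_num) (dvd_refl 30)).mul_left _
  · rw [H70.OutE.card_out_E8 hF]
    have := not_dvd_out (d := 1) hp hf hc5 (one_dvd _) hr
    rwa [one_mul] at this
  · have hr' := prim_of_prim hf hr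
    intro P hP
    rcases hc with rfl | rfl | rfl
    · obtain ⟨m, hm⟩ := Int.eq_ofNat_of_zero_le (a := 1 - ((p ^ f : ℕ) : ℤ) ^ 2 + ((p ^ f : ℕ) : ℤ) ^ 4 - ((p ^ f : ℕ) : ℤ) ^ 6 +
        ((p ^ f : ℕ) : ℤ) ^ 8) (by have := hmono 2 4 (by norm_num); have := hmono 6 8 (by norm_num); linarith)
      exact (big_E8_20 hF hm.symm hr').isCyclic_of_isPGroup hP
    · obtain ⟨m, hm⟩ := Int.eq_ofNat_of_zero_le (a := 1 - ((p ^ f : ℕ) : ℤ) ^ 4 + ((p ^ f : ℕ) : ℤ) ^ 8)
        (by have := hmono 4 8 (by norm_num); linarith only [this])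
      exact (big_E8_24 hF hm.symm hr').isCyclic_of_isPGroup hP
    · obtain ⟨m, hm⟩ := Int.eq_ofNat_of_zero_le (a := 1 + ((p ^ f : ℕ) : ℤ) - ((p ^ f : ℕ) : ℤ) ^ 3 - ((p ^ f : ℕ) : ℤ) ^ 4 -
        ((p ^ f : ℕ) : ℤ) ^ 5 + ((p ^ f : ℕ) : ℤ) ^ 7 + ((p ^ f : ℕ) : ℤ) ^ 8) (by
          have h1 := hmono 3 4 (by norm_num)
          have h2 := hmono 5 7 (by norm_num)
          have h3 := hmono 5 8 (by norm_num)
          have h4 : 2 * ((p ^ f : ℕ) : ℤ) ^ 4 ≤ ((p ^ f : ℕ) : ℤ) ^ 5 := by
            rw [pow_succ _ 4, mul_comm]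
            exact mul_le_mul_of_nonneg_left hq2 (by positivity)
          linarith)
      exact (big_E8_30 hF hm.symm hr').isCyclic_of_isPGroup hP

/-- `E₇` : the classes 7, 9, 14, 18 -/
theorem cl_E7 (hp : p.Prime) (hf : 1 ≤ f) (hF : Fintype.card F = p ^ f) {c : ℕ} (hc : c = 7 ∨ c = 9 ∨ c = 14 ∨ c = 18) :
    Cl p f ↥(chevE7.group F) c := by
  have := Fact.mk hp
  have hq2 := two_le_int hp hf
  have hc5 : 5 ≤ c := by omega
  have hg6 : Nat.gcd 2 (p ^ f - 1) ∣ 6 := (Nat.gcd_dvd_left _ _).trans (by norm_num)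
  have hmono : ∀ i j : ℕ, i ≤ j → ((p ^ f : ℕ) : ℤ) ^ i ≤ ((p ^ f : ℕ) : ℤ) ^ j := fun i j hij =>
    pow_le_pow_right₀ (by omega) hij
  refine ⟨?_, fun r hr => ?_, fun r hr => ?_⟩
  · refine PP_dvd_card (d := Nat.gcd 2 (p ^ f - 1)) hp hf hc5 hg6 ?_
    refine Int.natCast_dvd_natCast.1 ?_
    rw [Nat.cast_mul, ord_E7 hF]
    rcases hc with rfl | rfl | rfl | rfl
    · exact ((int_dvd hp hf (by norm_num) (show 7 ∣ 14 by norm_num)).mul_left _).mul_right _
    · exact (int_dvd hp hf (by norm_num) (show 9 ∣ 18 by norm_num)).mul_left _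
    · exact ((int_dvd hp hf (by norm_num) (dvd_refl 14)).mul_left _).mul_right _
    · exact (int_dvd hp hf (by norm_num) (dvd_refl 18)).mul_left _
  · rw [H70.OutE.card_out_E7 hF]
    exact not_dvd_out hp hf hc5 hg6 hr
  · have hr' := prim_of_prim hf hr
    intro P hP
    rcases hc with rfl | rfl | rfl | rfl
    · obtain ⟨m, hm⟩ := Int.eq_ofNat_of_zero_le (a := ((p ^ f : ℕ) : ℤ) ^ 7 - 1) (by
        have := hmono 0 7 (by norm_num); linarith only [this])
      exact (big_E7_7 hF hm.symm hr').isCyclic_of_isPGroup hP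
    · obtain ⟨m, hm⟩ := Int.eq_ofNat_of_zero_le (a := (1 + ((p ^ f : ℕ) : ℤ) ^ 3 + ((p ^ f : ℕ) : ℤ) ^ 6) * (((p ^ f : ℕ) : ℤ) - 1))
        (mul_nonneg (by (clear * - hq2; positivity)) (by linarith only [hq2]))
      exact (big_E7_9 hF hm.symm hr').isCyclic_of_isPGroup hP
    · obtain ⟨m, hm⟩ := Int.eq_ofNat_of_zero_le (a := ((p ^ f : ℕ) : ℤ) ^ 7 + 1) (by positivity)
      exact (big_E7_14 hF hm.symm hr').isCyclic_of_isPGroup hP
    · obtain ⟨m, hm⟩ := Int.eq_ofNat_of_zero_le (a := (1 - ((p ^ f : ℕ) : ℤ) ^ 3 + ((p ^ f : ℕ) : ℤ) ^ 6) * (((p ^ f : ℕ) : ℤ) + 1))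
        (mul_nonneg (by have := hmono 3 6 (by norm_num); linarith only [this]) (by linarith only [hq2]))
      exact (big_E7_18 hF hm.symm hr').isCyclic_of_isPGroup hP

/-- `E₆` : the classes 8, 9, 12 -/
theorem cl_E6 (hp : p.Prime) (hf : 1 ≤ f) (hF : Fintype.card F = p ^ f) {c : ℕ} (hc : c = 8 ∨ c = 9 ∨ c = 12) :
    Cl p f ↥(chevE6.group F) c := by
  have := Fact.mk hp
  have hq2 := two_le_int hp hf
  have hc5 : 5 ≤ c := by omega
  have hg6 : Nat.gcd 3 (p ^ f - 1) ∣ 6 := (Nat.gcd_dvd_left _ _).trans (by norm_num)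
  have hmono : ∀ i j : ℕ, i ≤ j → ((p ^ f : ℕ) : ℤ) ^ i ≤ ((p ^ f : ℕ) : ℤ) ^ j := fun i j hij =>
    pow_le_pow_right₀ (by omega) hij
  refine ⟨?_, fun r hr => ?_, fun r hr => ?_⟩
  · refine PP_dvd_card (d := Nat.gcd 3 (p ^ f - 1)) hp hf hc5 hg6 ?_
    refine Int.natCast_dvd_natCast.1 ?_
    rw [Nat.cast_mul, ord_E6 hF]
    rcases hc with rfl | rfl | rfl
    · exact (((int_dvd hp hf (by norm_num) (dvd_refl 8)).mul_left _).mul_right _).mul_right _
    · exact ((int_dvd hp hf (by norm_num) (dvd_refl 9)).mul_left _).mul_right _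
    · exact (int_dvd hp hf (by norm_num) (dvd_refl 12)).mul_left _
  · rw [H70.OutE.card_out_E6 hF]
    exact not_dvd_out hp hf hc5 (Nat.mul_dvd_mul_left 2 (Nat.gcd_dvd_left 3 (p ^ f - 1))) hr
  · have hr' := prim_of_prim hf hr
    intro P hP
    rcases hc with rfl | rfl | rfl
    · obtain ⟨m, hm⟩ := Int.eq_ofNat_of_zero_le (a := (1 + ((p ^ f : ℕ) : ℤ) ^ 4) * (((p ^ f : ℕ) : ℤ) ^ 2 - 1))
        (mul_nonneg (by positivity) (by have := hmono 0 2 (by norm_num); linarith only [this]))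
      exact (H190.Odd.big_E6_8 hF hm.symm hr').isCyclic_of_isPGroup hP
    · obtain ⟨m, hm⟩ := Int.eq_ofNat_of_zero_le (a := 1 + ((p ^ f : ℕ) : ℤ) ^ 3 + ((p ^ f : ℕ) : ℤ) ^ 6) (by (clear * - hq2; positivity))
      exact (big_E6_9 hF hm.symm hr').isCyclic_of_isPGroup hP
    · obtain ⟨m, hm⟩ := Int.eq_ofNat_of_zero_le (a := (1 - ((p ^ f : ℕ) : ℤ) ^ 2 + ((p ^ f : ℕ) : ℤ) ^ 4) *
        (1 + ((p ^ f : ℕ) : ℤ) + ((p ^ f : ℕ) : ℤ) ^ 2)) (mul_nonneg (by have := hmono 2 4 (by norm_num); linarith only [this]) (by (clear * - hq2; positivity)))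
      exact (big_E6_12 hF hm.symm hr').isCyclic_of_isPGroup hP

/-- `²E₆` : the classes 8, 12, 18 -/
theorem cl_TE6 (hp : p.Prime) (hf : 1 ≤ f) (hF : Fintype.card F = (p ^ f) ^ 2) {c : ℕ} (hc : c = 8 ∨ c = 12 ∨ c = 18) :
    Cl p f ↥(twistedE6 F (p ^ f)) c := by
  have := Fact.mk hp
  have hq2 := two_le_int hp hf
  have hc5 : 5 ≤ c := by omega
  have hqq : IsPrimePow (p ^ f) := hp.isPrimePow.pow (by omega)
  have hF' : Fintype.card F = p ^ (2 * f) := by rw [hF, ← pow_mul, mul_comm]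
  have hch : CharP F p := by
    obtain ⟨ℓ, hchar⟩ := CharP.exists F
    have hl : Fact ℓ.Prime := ⟨CharP.char_is_prime F ℓ⟩
    obtain ⟨m, hm, hcard⟩ := FiniteField.card F ℓ
    rw [hF'] at hcard
    have h1 : ℓ ∣ p ^ (2 * f) := by rw [hcard]; exact dvd_pow_self ℓ m.ne_zero
    have h3 : ℓ = p := (Nat.prime_dvd_prime_iff_eq hm hp).1 (hm.dvd_of_dvd_pow h1)
    subst h3
    exact hchar
  have hg6 : Nat.gcd 3 (p ^ f + 1) ∣ 6 := (Nat.gcd_dvd_left _ _).trans (by norm_num)
  have hmono : ∀ i j : ℕ, i ≤ j → ((p ^ f : ℕ) : ℤ) ^ i ≤ ((p ^ f : ℕ) : ℤ) ^ j := fun i j hij =>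
    pow_le_pow_right₀ (by omega) hij
  refine ⟨?_, fun r hr => ?_, fun r hr => ?_⟩
  · refine PP_dvd_card (d := Nat.gcd 3 (p ^ f + 1)) hp hf hc5 hg6 ?_
    refine Int.natCast_dvd_natCast.1 ?_
    rw [Nat.cast_mul, ord_TE6 hqq hF]
    rcases hc with rfl | rfl | rfl
    · exact (((int_dvd hp hf (by norm_num) (dvd_refl 8)).mul_left _).mul_right _).mul_right _
    · exact (int_dvd hp hf (by norm_num) (dvd_refl 12)).mul_left _
    · exact ((int_dvd_add hp hf (m := 9) (by norm_num)).mul_left _).mul_right _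
  · rw [Cfsg.Agent.S2130.result p f hF' hf]
    exact not_dvd_out hp hf hc5 (Nat.mul_dvd_mul_left 2 (Nat.gcd_dvd_left 3 (p ^ f + 1))) hr
  · have hr' := prim_of_prim hf hr
    intro P hP
    rcases hc with rfl | rfl | rfl
    · obtain ⟨m, hm⟩ := Int.eq_ofNat_of_zero_le (a := (1 + ((p ^ f : ℕ) : ℤ) ^ 4) * (((p ^ f : ℕ) : ℤ) ^ 2 - 1))
        (mul_nonneg (by positivity) (by have := hmono 0 2 (by norm_num); linarith only [this]))
      exact (H190.Odd.big_TE6_8 hqq hF hm.symm hr').isCyclic_of_isPGroup hP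
    · obtain ⟨m, hm⟩ := Int.eq_ofNat_of_zero_le (a := (1 - ((p ^ f : ℕ) : ℤ) ^ 2 + ((p ^ f : ℕ) : ℤ) ^ 4) *
        (1 - ((p ^ f : ℕ) : ℤ) + ((p ^ f : ℕ) : ℤ) ^ 2)) (mul_nonneg (by have := hmono 2 4 (by norm_num); linarith only [this])
        (by have := hmono 1 2 (by norm_num); rw [pow_one] at this; linarith only [this]))
      exact (big_TE6_12 hqq hF hm.symm hr').isCyclic_of_isPGroup hP
    · obtain ⟨m, hm⟩ := Int.eq_ofNat_of_zero_le (a := 1 - ((p ^ f : ℕ) : ℤ) ^ 3 + ((p ^ f : ℕ) : ℤ) ^ 6)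
        (by have := hmono 3 6 (by norm_num); linarith only [this])
      exact (big_TE6_18 hqq hF hm.symm hr').isCyclic_of_isPGroup hP

end

end Cfsg.Agent.H813.Rg
end

-- part: H813/Rg/EFac
section
/-!
# S3691, rows `E₇`, `E₈`: no exact factorization (helper813)

The subgroups `X ∩ T`, `Y ∩ T` of an exact factorization: every class goes to one of them; the classification of the subgroups
containing half of two classes (hypotheses `k_i`) gives a contradiction.
-/

set_option autoImplicit false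

namespace Cfsg.Agent.H813.Rg

open Cfsg Subgroup Cfsg.Lie Cfsg.Agent.H454.Reg Cfsg.Agent.H73.Rg Cfsg.Agent.H436 Cfsg.Agent.H56.Exc

universe u v

variable {p f : ℕ}

theorem hoff2 {K : Type v} [Group K] {B : Subgroup K} {a b : ℕ} (ha : HAt p f a B) (hb : HAt p f b B) : HOff p f [a, b] B := by
  intro c hc
  rcases List.mem_cons.1 hc with rfl | hc
  · exact ha
  · rw [List.mem_singleton] at hc
    subst hc
    exact hb

/-- **`E₈`** -/
theorem no_fac_E8 {F : Type v} [Field F] [Fintype F] (hp : p.Prime) (hf : 1 ≤ f) (hF : Fintype.card F = p ^ f)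
    (k1 : ∀ B : Subgroup ↥(chevE8.group F), HOff p f [24, 30] B → B = ⊤)
    (k2 : ∀ B : Subgroup ↥(chevE8.group F), HOff p f [20, 30] B → B = ⊤)
    (k3 : ∀ B : Subgroup ↥(chevE8.group F), HOff p f [20, 24] B → B = ⊤)
    {G : Type u} [Group G] [Finite G] {T X Y : Subgroup G} (h : Fac T X Y) (e : T ≃* ↥(chevE8.group F)) : False := by
  have hX := map_ne_top_left h e
  have hY := map_ne_top_right h e
  rcases (cl_E8 hp hf hF (Or.inl rfl)).fac h e hp hf (by norm_num) with h20 | h20 <;>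
  rcases (cl_E8 hp hf hF (Or.inr (Or.inl rfl))).fac h e hp hf (by norm_num) with h24 | h24
  · exact hX (k3 _ (hoff2 h20 h24))
  · rcases (cl_E8 hp hf hF (Or.inr (Or.inr rfl))).fac h e hp hf (by norm_num) with h30 | h30
    · exact hX (k2 _ (hoff2 h20 h30))
    · exact hY (k1 _ (hoff2 h24 h30))
  · rcases (cl_E8 hp hf hF (Or.inr (Or.inr rfl))).fac h e hp hf (by norm_num) with h30 | h30
    · exact hX (k1 _ (hoff2 h24 h30))
    · exact hY (k2 _ (hoff2 h20 h30))
  · exact hY (k3 _ (hoff2 h20 h24))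

/-- the classes 5 of `E₇(q)` and `E₆(q)`, 10 of `²E₆(q)`: one prime -/
theorem five_E7 {F : Type v} [Field F] [Fintype F] (hp : p.Prime) (hf : 1 ≤ f) (hF : Fintype.card F = p ^ f) {s : ℕ}
    (hs : Prim p (f * 5) s) : s ∣ Nat.card ↥(chevE7.group F) ∧ ¬ s ∣ Nat.card (Cfsg.Out ↥(chevE7.group F)) := by
  have := Fact.mk hp
  have hg6 : Nat.gcd 2 (p ^ f - 1) ∣ 6 := (Nat.gcd_dvd_left _ _).trans (by norm_num)
  refine ⟨(dvd_PP hp.two_le (by omega) hs).trans ?_, ?_⟩
  · refine PP_dvd_card (d := Nat.gcd 2 (p ^ f - 1)) hp hf le_rfl hg6 ?_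
    refine Int.natCast_dvd_natCast.1 ?_
    rw [Nat.cast_mul, ord_E7 hF]
    exact ((((int_dvd hp hf (by norm_num) (show 5 ∣ 10 by norm_num)).mul_left _).mul_right _).mul_right _).mul_right _
  · rw [H70.OutE.card_out_E7 hF]
    exact not_dvd_out hp hf le_rfl hg6 hs

theorem five_E6 {F : Type v} [Field F] [Fintype F] (hp : p.Prime) (hf : 1 ≤ f) (hF : Fintype.card F = p ^ f) {s : ℕ}
    (hs : Prim p (f * 5) s) : s ∣ Nat.card ↥(chevE6.group F) ∧ ¬ s ∣ Nat.card (Cfsg.Out ↥(chevE6.group F)) := by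
  have := Fact.mk hp
  have hg6 : Nat.gcd 3 (p ^ f - 1) ∣ 6 := (Nat.gcd_dvd_left _ _).trans (by norm_num)
  refine ⟨(dvd_PP hp.two_le (by omega) hs).trans ?_, ?_⟩
  · refine PP_dvd_card (d := Nat.gcd 3 (p ^ f - 1)) hp hf le_rfl hg6 ?_
    refine Int.natCast_dvd_natCast.1 ?_
    rw [Nat.cast_mul, ord_E6 hF]
    exact (((((int_dvd hp hf (by norm_num) (dvd_refl 5)).mul_left _).mul_right _).mul_right _).mul_right _).mul_right _
  · rw [H70.OutE.card_out_E6 hF]
    exact not_dvd_out hp hf le_rfl (Nat.mul_dvd_mul_left 2 (Nat.gcd_dvd_left 3 (p ^ f - 1))) hs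

theorem ten_TE6 {F : Type v} [Field F] [Fintype F] (hp : p.Prime) (hf : 1 ≤ f) (hF : Fintype.card F = (p ^ f) ^ 2) {s : ℕ}
    (hs : Prim p (f * 10) s) : s ∣ Nat.card ↥(twistedE6 F (p ^ f)) ∧ ¬ s ∣ Nat.card (Cfsg.Out ↥(twistedE6 F (p ^ f))) := by
  have := Fact.mk hp
  have hqq : IsPrimePow (p ^ f) := hp.isPrimePow.pow (by omega)
  have hF' : Fintype.card F = p ^ (2 * f) := by rw [hF, ← pow_mul, mul_comm]
  have hch : CharP F p := by
    obtain ⟨ℓ, hchar⟩ := CharP.exists F
    have hl : Fact ℓ.Prime := ⟨CharP.char_is_prime F ℓ⟩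
    obtain ⟨m, hm, hcard⟩ := FiniteField.card F ℓ
    rw [hF'] at hcard
    have h1 : ℓ ∣ p ^ (2 * f) := by rw [hcard]; exact dvd_pow_self ℓ m.ne_zero
    have h3 : ℓ = p := (Nat.prime_dvd_prime_iff_eq hm hp).1 (hm.dvd_of_dvd_pow h1)
    subst h3
    exact hchar
  have hg6 : Nat.gcd 3 (p ^ f + 1) ∣ 6 := (Nat.gcd_dvd_left _ _).trans (by norm_num)
  refine ⟨(dvd_PP hp.two_le (by omega) hs).trans ?_, ?_⟩
  · refine PP_dvd_card (d := Nat.gcd 3 (p ^ f + 1)) hp hf (by norm_num) hg6 ?_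
    refine Int.natCast_dvd_natCast.1 ?_
    rw [Nat.cast_mul, ord_TE6 hqq hF]
    exact (((((int_dvd_add hp hf (m := 5) (by norm_num)).mul_left _).mul_right _).mul_right _).mul_right _).mul_right _
  · rw [Cfsg.Agent.S2130.result p f hF' hf]
    exact not_dvd_out hp hf (by norm_num) (Nat.mul_dvd_mul_left 2 (Nat.gcd_dvd_left 3 (p ^ f + 1))) hs

/-- a `p`-primitive prime of class `c` exists -/
theorem exists_prim_class (hp : p.Prime) (hf : 1 ≤ f) {c : ℕ} (hc : 5 ≤ c) (h6 : c ≠ 6) : ∃ s, Prim p (f * c) s := by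
  refine exists_prim hp.two_le (by nlinarith) ?_
  rintro ⟨-, h⟩
  rcases Nat.lt_or_ge f 2 with h1 | h1
  · have : f = 1 := by omega
    subst this
    omega
  · nlinarith

theorem no_fac_E7_aux {F : Type v} [Field F] [Fintype F] (hp : p.Prime) (hf : 1 ≤ f) (hF : Fintype.card F = p ^ f)
    (k1 : ∀ B : Subgroup ↥(chevE7.group F), HOff p f [18, 14] B → B = ⊤)
    (k2 : ∀ B : Subgroup ↥(chevE7.group F), HOff p f [18, 7] B → B = ⊤)
    (k3 : ∀ B : Subgroup ↥(chevE7.group F), HOff p f [9, 14] B → B = ⊤)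
    (k4 : ∀ s, Prim p (f * 5) s → ∀ B : Subgroup ↥(chevE7.group F), HOff p f [9, 18] B → s ∣ Nat.card B → B = ⊤)
    (k5 : ∀ s, Prim p (f * 5) s → ∀ B : Subgroup ↥(chevE7.group F), HOff p f [7, 14] B → s ∣ Nat.card B → B = ⊤)
    {G : Type u} [Group G] [Finite G] {T X Y : Subgroup G} (h : Fac T X Y) (e : T ≃* ↥(chevE7.group F))
    (h18 : HAt p f 18 ((X.subgroupOf T).map e.toMonoidHom)) : False := by
  have hX := map_ne_top_left h e
  have hY := map_ne_top_right h e
  have h14 := ((cl_E7 hp hf hF (Or.inr (Or.inr (Or.inl rfl)))).fac h e hp hf (by norm_num)).resolve_left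
    fun h14 => hX (k1 _ (hoff2 h18 h14))
  have h7 := ((cl_E7 hp hf hF (Or.inl rfl)).fac h e hp hf (by norm_num)).resolve_left
    fun h7 => hX (k2 _ (hoff2 h18 h7))
  have h9 := ((cl_E7 hp hf hF (Or.inr (Or.inl rfl))).fac h e hp hf (by norm_num)).resolve_right
    fun h9 => hY (k3 _ (hoff2 h9 h14))
  obtain ⟨s, hs⟩ := exists_prim_class hp hf (c := 5) le_rfl (by norm_num)
  obtain ⟨h1, h2⟩ := five_E7 hp hf hF hs
  rcases prime_of_fac h e hs.prime h1 (by rw [card_out_congr e]; exact h2) with h3 | h3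
  · exact hX (k4 s hs _ (hoff2 h9 h18) h3)
  · exact hY (k5 s hs _ (hoff2 h7 h14) h3)

/-- **`E₇`** -/
theorem no_fac_E7 {F : Type v} [Field F] [Fintype F] (hp : p.Prime) (hf : 1 ≤ f) (hF : Fintype.card F = p ^ f)
    (k1 : ∀ B : Subgroup ↥(chevE7.group F), HOff p f [18, 14] B → B = ⊤)
    (k2 : ∀ B : Subgroup ↥(chevE7.group F), HOff p f [18, 7] B → B = ⊤)
    (k3 : ∀ B : Subgroup ↥(chevE7.group F), HOff p f [9, 14] B → B = ⊤)
    (k4 : ∀ s, Prim p (f * 5) s → ∀ B : Subgroup ↥(chevE7.group F), HOff p f [9, 18] B → s ∣ Nat.card B → B = ⊤)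
    (k5 : ∀ s, Prim p (f * 5) s → ∀ B : Subgroup ↥(chevE7.group F), HOff p f [7, 14] B → s ∣ Nat.card B → B = ⊤)
    {G : Type u} [Group G] [Finite G] {T X Y : Subgroup G} (h : Fac T X Y) (e : T ≃* ↥(chevE7.group F)) : False := by
  rcases (cl_E7 hp hf hF (Or.inr (Or.inr (Or.inr rfl)))).fac h e hp hf (by norm_num) with h18 | h18
  · exact no_fac_E7_aux hp hf hF k1 k2 k3 k4 k5 h e h18
  · exact no_fac_E7_aux hp hf hF k1 k2 k3 k4 k5 h.symm e h18

end Cfsg.Agent.H813.Rg
end
end

-- part: H72/Same/One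
section
set_option linter.all false
open scoped Cfsg.Agent.FastGrp

/-!
# Simple groups of Lie type in characteristic `p` whose order divides the order of `E6`, `2E6`, `E8` over `p^f`,
one-prime versions (helper72)

The lemmas `charp_*` of `H325/Same` with ONE primitive prime divisor of each of the two classes
(`H1 p f e c : ∃ s, Prim p (f * e) s ∧ s ∣ c`) in place of all of them.
-/

set_option autoImplicit false

namespace Cfsg.Agent.H72.Same

open Cfsg.Agent.OrdDiv Cfsg.Agent.H436 Cfsg.Agent.H915.GN Cfsg.Agent.H264.GN Cfsg.Agent.H264.FKS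
open Cfsg.Agent.H325.Same

variable {p f c : ℕ} {g : Grp}

/-- one primitive prime of `p ^ (f * e) - 1` divides `c` -/
def H1 (p f e c : ℕ) : Prop := ∃ s, Prim p (f * e) s ∧ s ∣ c

/-- comparison of exponents from one prime -/
theorem comp2o {f₁ : ℕ} (hp : p.Prime) (hf : 1 ≤ f) {XT X Y : ℕ → Prop} {MT aT M a e : ℕ}
    (hT : TD p f c XT MT aT) (hK : KD p f₁ c X Y M a) (hf₁ : 1 ≤ f₁) (h7 : 7 ≤ e) (h2 : MT < 2 * e)
    (hs : H1 p f e c) (hY : Y M) :
    ∃ i, XT i ∧ e ≤ i ∧ f₁ * M = f * i ∧ a * i ≤ aT * M ∧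
      (∀ xT, H1 p f xT c → ∃ x, X x ∧ xT * M ∣ i * x) ∧
      (∀ k, Y k → 3 ≤ f₁ * k → ¬ (p = 2 ∧ f₁ * k = 6) → ∃ j, XT j ∧ i * k ∣ M * j) := by
  have hfe : 1 * e ≤ f * e := Nat.mul_le_mul_right _ hf
  obtain ⟨s, hs', hsc⟩ := hs
  obtain ⟨x, hx, hx2⟩ := hK.exp hs' hsc
  have hx3 := hK.le hx
  have h1 : f * e ≤ f₁ * M :=
    (Nat.le_of_dvd (Nat.mul_pos (by omega) (by omega)) hx2).trans (Nat.mul_le_mul_left _ hx3.2)
  obtain ⟨t, ht⟩ := exists_prim (e := f₁ * M) hp.two_le (by omega) (by omega)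
  obtain ⟨i, hi, k, hk⟩ := hT.exp ht (hK.has hY (by omega) ht)
  have hi3 := hT.le hi
  have hk1 : k = 1 := by
    rcases Nat.lt_or_ge k 2 with h | h
    · interval_cases k
      · exfalso
        rw [mul_zero] at hk
        have : 0 < f * i := Nat.mul_pos (by omega) (by omega)
        omega
      · rfl
    · exfalso
      have h3 : f₁ * M * 2 ≤ f₁ * M * k := Nat.mul_le_mul_left _ h
      have h4 : f * i ≤ f * MT := Nat.mul_le_mul_left _ hi3.2
      have h5 : f * (MT + 1) ≤ f * (2 * e) := Nat.mul_le_mul_left _ (by omega)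
      have h6 : f * (2 * e) = 2 * (f * e) := by ring
      have h8 : f * (MT + 1) = f * MT + f := by ring
      omega
  rw [hk1, mul_one] at hk
  have hfM : f₁ * M = f * i := hk.symm
  have hei : e ≤ i := by
    have h3 : f * e ≤ f * i := by omega
    exact Nat.le_of_mul_le_mul_left h3 (by omega)
  refine ⟨i, hi, hei, hfM, ?_, fun xT hs2 => ?_, fun e' he h3' h6' => ?_⟩
  · have h2 := hT.pp hK.pp
    have h4 : f * (a * i) ≤ f * (aT * M) := by
      calc f * (a * i) = (f * i) * a := by ring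
        _ = (f₁ * M) * a := by rw [hfM]
        _ = (f₁ * a) * M := by ring
        _ ≤ (f * aT) * M := Nat.mul_le_mul_right _ h2
        _ = f * (aT * M) := by ring
    exact Nat.le_of_mul_le_mul_left h4 (by omega)
  · obtain ⟨s, hs', hsc'⟩ := hs2
    obtain ⟨x, hx, k, hk⟩ := hK.exp hs' hsc'
    refine ⟨x, hx, ?_⟩
    refine Nat.dvd_of_mul_dvd_mul_left (show 0 < f by omega) ⟨k, ?_⟩
    calc f * (i * x) = (f * i) * x := by ring
      _ = (f₁ * M) * x := by rw [hfM]
      _ = (f₁ * x) * M := by ring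
      _ = f * xT * k * M := by rw [hk]
      _ = f * (xT * M) * k := by ring
  · obtain ⟨t, ht⟩ := exists_prim hp.two_le h3' h6'
    obtain ⟨j, hj, k, hk⟩ := hT.exp ht (hK.has he h3' ht)
    refine ⟨j, hj, ?_⟩
    refine Nat.dvd_of_mul_dvd_mul_left (show 0 < f₁ by omega) ⟨k, ?_⟩
    calc f₁ * (M * j) = (f₁ * M) * j := by ring
      _ = (f * i) * j := by rw [hfM]
      _ = (f * j) * i := by ring
      _ = f₁ * e' * k * i := by rw [hk]
      _ = f₁ * (i * e') * k := by ring

/-- `compP` with one prime of each class -/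
theorem compPo {XT : ℕ → Prop} {MT aT e1 e2 f₁ : ℕ} (hp : p.Prime) (hf : 1 ≤ f)
    (hf₁ : 1 ≤ f₁) (hK : KD p f₁ c (Xg g) (Yg g) (Mg g) (ag g)) (hY : Yg g (Mg g))
    (hT : TD p f c XT MT aT) (h7 : 7 ≤ e2) (h2 : MT < 2 * e2)
    (hs1 : H1 p f e1 c) (hs2 : H1 p f e2 c) :
    ∃ i, XT i ∧ e2 ≤ i ∧ f₁ * Mg g = f * i ∧ ag g * i ≤ aT * Mg g ∧ (∃ x, Xg g x ∧ e1 * Mg g ∣ i * x) ∧
      (∃ x, Xg g x ∧ e2 * Mg g ∣ i * x) ∧
      (∀ k, (k = 4 ∨ k = 5 ∨ 7 ≤ k) → Yg g k → ∃ j, XT j ∧ i * k ∣ Mg g * j) := by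
  obtain ⟨i, hi, hei, hfM, ha, hX, hYc⟩ := comp2o hp hf hT hK hf₁ h7 h2 hs2 hY
  refine ⟨i, hi, hei, hfM, ha, hX e1 hs1, hX e2 hs2, fun k hk hYk => hYc k hYk ?_ ?_⟩
  · have : 1 * k ≤ f₁ * k := Nat.mul_le_mul_right _ hf₁
    omega
  · rintro ⟨-, h⟩
    have h8 : k ∣ 6 := ⟨f₁, by rw [← h, mul_comm]⟩
    have h9 := Nat.le_of_dvd (by norm_num) h8
    rcases hk with rfl | rfl | hk
    · exact absurd h8 (by norm_num)
    · exact absurd h8 (by norm_num)
    · omega

/-- **`E_6(q)`, classes 8 and 9.** -/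
theorem charp_e6_89 (hp : p.Prime) (hf : 1 ≤ f) (hg : Cond g) (hch : HasChar p g)
    (hc : den g * c = num g) (hdvd : c ∣ num (.e6 (p ^ f))) (hs1 : H1 p f 8 c) (hs2 : H1 p f 9 c) :
    g = .e6 (p ^ f) := by
  obtain ⟨f₁, hf₁, hfl, hK, hY⟩ := kd_all hp hg hch hc
  obtain ⟨i, hi, hei, hfM, h2, h1, h3, hYc⟩ := compPo hp hf hf₁ hK hY (td_e6 hp hf hdvd)
    (by norm_num) (by norm_num) hs1 hs2
  rcases elimP_e6_8_9 hg hch hi hei h2 h1 h3 hYc with ⟨rfl, q, rfl⟩
  obtain rfl : q = p ^ f₁ := hfl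
  rw [same_fld (M := 12) (by norm_num) hfM]

/-- **`²E_6(q)`, classes 8 and 18.** -/
theorem charp_te6_818 (hp : p.Prime) (hf : 1 ≤ f) (hg : Cond g) (hch : HasChar p g)
    (hc : den g * c = num g) (hdvd : c ∣ num (.te6 (p ^ f))) (hs1 : H1 p f 8 c) (hs2 : H1 p f 18 c) :
    g = .te6 (p ^ f) := by
  obtain ⟨f₁, hf₁, hfl, hK, hY⟩ := kd_all hp hg hch hc
  obtain ⟨i, hi, hei, hfM, h2, h1, h3, hYc⟩ := compPo hp hf hf₁ hK hY (td_te6 hp hf hdvd)
    (by norm_num) (by norm_num) hs1 hs2
  rcases elimP_te6_8_18 hg hch hi hei h2 h1 h3 hYc with ⟨rfl, q, rfl⟩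
  obtain rfl : q = p ^ f₁ := hfl
  rw [same_fld (M := 18) (by norm_num) hfM]

/-- **`²E_6(q)`, classes 10 and 18.** -/
theorem charp_te6_1018 (hp : p.Prime) (hf : 1 ≤ f) (hg : Cond g) (hch : HasChar p g)
    (hc : den g * c = num g) (hdvd : c ∣ num (.te6 (p ^ f))) (hs1 : H1 p f 10 c) (hs2 : H1 p f 18 c) :
    g = .te6 (p ^ f) := by
  obtain ⟨f₁, hf₁, hfl, hK, hY⟩ := kd_all hp hg hch hc
  obtain ⟨i, hi, hei, hfM, h2, h1, h3, hYc⟩ := compPo hp hf hf₁ hK hY (td_te6 hp hf hdvd)
    (by norm_num) (by norm_num) hs1 hs2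
  rcases elimP_te6_10_18 hg hch hi hei h2 h1 h3 hYc with ⟨rfl, q, rfl⟩
  obtain rfl : q = p ^ f₁ := hfl
  rw [same_fld (M := 18) (by norm_num) hfM]

/-- **`E_8(q)`, classes 20 and 24.** -/
theorem charp_e8_2024 (hp : p.Prime) (hf : 1 ≤ f) (hg : Cond g) (hch : HasChar p g)
    (hc : den g * c = num g) (hdvd : c ∣ num (.e8 (p ^ f))) (hs1 : H1 p f 20 c) (hs2 : H1 p f 24 c) :
    g = .e8 (p ^ f) := by
  obtain ⟨f₁, hf₁, hfl, hK, hY⟩ := kd_all hp hg hch hc
  obtain ⟨i, hi, hei, hfM, h2, h1, h3, hYc⟩ := compPo hp hf hf₁ hK hY (td_e8 hp hf hdvd)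
    (by norm_num) (by norm_num) hs1 hs2
  rcases elimP_e8_20_24 hg hch hi hei h2 h1 h3 hYc with ⟨rfl, q, rfl⟩
  obtain rfl : q = p ^ f₁ := hfl
  rw [same_fld (M := 30) (by norm_num) hfM]

/-- **`E_6(q)`, classes 9 and 12.** -/
theorem charp_e6_reg (hp : p.Prime) (hf : 1 ≤ f) (hg : Cond g) (hch : HasChar p g)
    (hc : den g * c = num g) (hdvd : c ∣ num (.e6 (p ^ f))) (hs : H1 p f 12 c) (hs1 : H1 p f 9 c) :
    g = .e6 (p ^ f) ∨ g = .psl 4 (p ^ (3 * f)) ∨ ∃ f₁, 2 * f₁ = 3 * f ∧ g = .ominus 4 (p ^ f₁) := by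
  obtain ⟨f₁, hf₁, hfl, hK, hY⟩ := kd_all hp hg hch hc
  obtain ⟨i, hi, hei, hfM, h2, h3, -, -⟩ := compPo hp hf hf₁ hK hY (td_e6 hp hf hdvd)
    (by norm_num) (by norm_num) hs1 hs
  have hi' : i ∈ [2, 5, 6, 8, 9, 12] := hi
  obtain rfl : i = 12 := by
    simp only [List.mem_cons, List.not_mem_nil, or_false] at hi'
    omega
  have h1 := hfM
  have hO := elimR_e6 hg hch (by omega) h3
  have hp0 : 0 < p := hp.pos
  cases g
  case psl m q =>
    obtain rfl : m = 4 := hO
    obtain rfl : q = p ^ f₁ := hfl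
    have h5 : f₁ * 4 = f * 12 := h1
    obtain rfl : f₁ = 3 * f := by omega
    exact Or.inr (Or.inl rfl)
  case psp m q =>
    exfalso
    obtain rfl : m = 4 := hO
    obtain rfl : q = p ^ f₁ := hfl
    have h5 : f₁ * (2 * 4) = f * 12 := h1
    exact kill_e6 hp hf (Nat.gcd_pos_of_pos_left _ (by norm_num))
      ((Nat.gcd_le_left (p ^ f₁ - 1) (show 0 < 2 by norm_num)).trans (by norm_num)) (pow_pos (pow_pos hp0 _) _)
      (by omega) (hc : Nat.gcd 2 (p ^ f₁ - 1) * c = (p ^ f₁) ^ (4 ^ 2) * prB (p ^ f₁) 4) hdvd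
  case oodd m q =>
    exfalso
    obtain rfl : m = 4 := hO
    obtain rfl : q = p ^ f₁ := hfl
    have h5 : f₁ * (2 * 4) = f * 12 := h1
    exact kill_e6 (D := 2) hp hf (by norm_num) (by norm_num) (pow_pos (pow_pos hp0 _) _)
      (by omega) (hc : 2 * c = (p ^ f₁) ^ (4 ^ 2) * prB (p ^ f₁) 4) hdvd
  case oplus m q =>
    exfalso
    obtain rfl : m = 5 := hO
    obtain rfl : q = p ^ f₁ := hfl
    have h5 : f₁ * (2 * (5 - 1)) = f * 12 := h1
    have hc' : Nat.gcd 4 ((p ^ f₁) ^ 5 - 1) * c = (p ^ f₁) ^ (5 * (5 - 1)) * (((p ^ f₁) ^ 5 - 1) * prB (p ^ f₁) (5 - 1)) :=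
      hc
    rw [← mul_assoc] at hc'
    exact kill_e6 hp hf (Nat.gcd_pos_of_pos_left _ (by norm_num))
      (Nat.gcd_le_left ((p ^ f₁) ^ 5 - 1) (show 0 < 4 by norm_num))
      (Nat.mul_pos (pow_pos (pow_pos hp0 _) _) (sub_pos' (hp.two_le.trans (Nat.le_self_pow (by omega) _)) (by norm_num)))
      (by omega) hc' hdvd
  case ominus m q =>
    obtain rfl : m = 4 := hO
    obtain rfl : q = p ^ f₁ := hfl
    have h5 : f₁ * (2 * 4) = f * 12 := h1
    exact Or.inr (Or.inr ⟨f₁, by omega, rfl⟩)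
  case e6 q =>
    obtain rfl : q = p ^ f₁ := hfl
    have h5 : f₁ * 12 = f * 12 := h1
    obtain rfl : f₁ = f := by omega
    exact Or.inl rfl
  all_goals exact absurd hO not_false

/-- **`²E_6(q)`, classes 12 and 18.** -/
theorem charp_te6_reg (hp : p.Prime) (hf : 1 ≤ f) (hg : Cond g) (hch : HasChar p g)
    (hc : den g * c = num g) (hdvd : c ∣ num (.te6 (p ^ f))) (hs : H1 p f 18 c) (hs1 : H1 p f 12 c) :
    g = .te6 (p ^ f) ∨ g = .psu 4 (p ^ (3 * f)) := by
  obtain ⟨f₁, hf₁, hfl, hK, hY⟩ := kd_all hp hg hch hc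
  obtain ⟨i, hi, hei, hfM, h2, h3, -, -⟩ := compPo hp hf hf₁ hK hY (td_te6 hp hf hdvd)
    (by norm_num) (by norm_num) hs1 hs
  have hi' : i ∈ [2, 10, 6, 8, 18, 12] := hi
  obtain rfl : i = 18 := by
    simp only [List.mem_cons, List.not_mem_nil, or_false] at hi'
    omega
  have h1 := hfM
  have hO := elimR_te6 hg hch (by omega) h3
  have hq : 2 ≤ p ^ f := hp.two_le.trans (Nat.le_self_pow (by omega) _)
  obtain ⟨s, hs0⟩ := exists_prim (q := p ^ f) (e := 9) hq (by norm_num) (by omega)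
  have hn : ¬ s ∣ c := fun h => not_dvd_te6 hs0 (h.trans hdvd)
  cases g
  case psl m q =>
    exfalso
    obtain rfl : m = 3 := hO
    obtain rfl : q = p ^ f₁ := hfl
    have h5 : f₁ * 3 = f * 18 := h1
    have h6 := Cfsg.Agent.H425.Chr.prim_quot (f := 6) (by norm_num) hs0
    rw [← pow_mul, show f * 6 = f₁ by omega] at h6
    exact hn (psl_prim (e := 3) le_rfl le_rfl hc h6)
  case psp m q =>
    exfalso
    obtain rfl : m = 3 := hO
    obtain rfl : q = p ^ f₁ := hfl
    have h5 : f₁ * (2 * 3) = f * 18 := h1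
    have h6 := Cfsg.Agent.H425.Chr.prim_quot (f := 3) (by norm_num) hs0
    rw [← pow_mul, show f * 3 = f₁ by omega] at h6
    exact hn (psp_prim (e := 3) 3 (by norm_num) le_rfl (by norm_num) le_rfl hc h6)
  case oodd m q =>
    exfalso
    obtain rfl : m = 3 := hO
    obtain rfl : q = p ^ f₁ := hfl
    have h5 : f₁ * (2 * 3) = f * 18 := h1
    have h6 := Cfsg.Agent.H425.Chr.prim_quot (f := 3) (by norm_num) hs0
    rw [← pow_mul, show f * 3 = f₁ by omega] at h6
    exact hn (oodd_prim (e := 3) 3 (by norm_num) le_rfl (by norm_num) le_rfl hc h6)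
  case psu m q =>
    obtain rfl : m = 4 := hO
    obtain rfl : q = p ^ f₁ := hfl
    have h5 : f₁ * 6 = f * 18 := h1
    obtain rfl : f₁ = 3 * f := by omega
    exact Or.inr rfl
  case oplus m q =>
    exfalso
    obtain rfl : m = 4 := hO
    obtain rfl : q = p ^ f₁ := hfl
    have h5 : f₁ * (2 * (4 - 1)) = f * 18 := h1
    have h6 := Cfsg.Agent.H425.Chr.prim_quot (f := 3) (by norm_num) hs0
    rw [← pow_mul, show f * 3 = f₁ by omega] at h6
    exact hn (oplus_prim (e := 3) 3 (by norm_num) (by norm_num) (by norm_num) le_rfl hc h6)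
  case f4 q =>
    exfalso
    obtain rfl : q = p ^ f₁ := hfl
    have h5 : f₁ * 12 = f * 18 := h1
    apply hn
    have h7 : 1 * c = (p ^ f₁) ^ 24 * (((p ^ f₁) ^ 2 - 1) * ((p ^ f₁) ^ 6 - 1) * ((p ^ f₁) ^ 8 - 1) *
      ((p ^ f₁) ^ 12 - 1)) := hc
    rw [one_mul] at h7
    rw [h7]
    have h8 : (p ^ f₁) ^ 6 = (p ^ f) ^ 9 := sq_eq (k := 3) (by omega)
    rw [h8]
    exact (hs0.dvd dvd_rfl).trans (((Dvd.intro_left _ rfl).trans ((Dvd.intro _ rfl).trans (Dvd.intro _ rfl))).mul_left _)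
  case te6 q =>
    obtain rfl : q = p ^ f₁ := hfl
    have h5 : f₁ * 18 = f * 18 := h1
    obtain rfl : f₁ = f := by omega
    exact Or.inl rfl
  all_goals exact absurd hO not_false

end Cfsg.Agent.H72.Same
end
end
end
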